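import Cfsg.Agent.Mrg.Omega.NO1.TH.K.Base
import Cfsg.Agent.Mrg.Omega.NO1.AB.Beta
import Cfsg.Agent.Mrg.Omega.NO1.TH.NoOvV
import Cfsg.Agent.Lib.Cores

section


/-!
# N1, natural type, `k` factors: `R / Q` (bb OMEGA 20646 (b))

`acts_of_lin` : an element of `R` acting on `W / D₀` as an element of `SL₂(F)^k` is a root element;
`acts_of_comm` : so is an element of `R` commuting with all root elements (`C_{R/Q}(∏ R_i) = ∏ R_i`);
`exists_root` : a normal subgroup `N ≰ Q` of `R` contains root elements `≠ 1`;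
`co_one_of_fix` : a vector of `W` fixed by such an `N` lies in `W_R`;
`TwoN.inf_le` : `W ∩ W' ⊆ W_R` (#20646 (b)).
-/

set_option autoImplicit false
set_option linter.unusedSectionVars false
set_option linter.dupNamespace false

namespace Cfsg.Agent.Omega.NO1.TH.K

open Subgroup Cfsg.Agent.Omega.NO1.AB Cfsg.Agent.Omega.FFBr Cfsg.Agent.Lib.SL2Mat
open Cfsg.Agent.Omega.NatPair (ap)
open scoped Pointwise

universe u

variable {Y : Type u} [Group Y] {V : Type u} [AddCommGroup V] [DistribMulAction Y V]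

section coords

variable {H R : Subgroup Y} {F : Type} [Field F] {k : ℕ} {co : V → Fin k → Fin 2 → F}

theorem KNat.add' (K : KNat V H R F k co) {v w : V} (hv : v ∈ WW V H R) (hw : w ∈ WW V H R) (i : Fin k) :
    co (v + w) i = co v i + co w i := by
  rw [K.add v hv w hw]; rfl

theorem KNat.ff' (K : KNat V H R F k co) (two : ∀ v : V, v + v = 0) (i : Fin k) (x : Fin 2 → F) : x + x = 0 := by
  funext m
  exact K.ff two i _

theorem KNat.charP (K : KNat V H R F k co) (two : ∀ v : V, v + v = 0) (i : Fin k) : CharP F 2 :=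
  CharTwo.of_one_ne_zero_of_two_eq_zero one_ne_zero (by
    have h := K.ff two i (1 : F)
    rwa [one_add_one_eq_two] at h)

/-- `r ∈ R` acting as the scalar `δ` on the second coordinates: `δ = 1` -/
theorem KNat.scal_eq_one (K : KNat V H R F k co) (two : ∀ v : V, v + v = 0) (hRH : R ≤ H) (hR2 : IsPGroup 2 R) {r : Y}
    (hr : r ∈ R) {i : Fin k} {δ : F} (h : ∀ v ∈ WW V H R, co (r • v) i 1 = δ * co v i 1) : δ = 1 := by
  have : Fact (Nat.Prime 2) := ⟨Nat.prime_two⟩
  have := K.charP two i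
  have h1 : ∀ n : ℕ, ∀ v ∈ WW V H R, co (r ^ n • v) i 1 = δ ^ n * co v i 1 := by
    intro n
    induction n with
    | zero => intro v _; rw [pow_zero, pow_zero, one_smul, one_mul]
    | succ n ih =>
      intro v hv
      rw [pow_succ, mul_smul, ih _ (smul_mem_WW (hRH hr) hv), h v hv, pow_succ, mul_assoc]
  obtain ⟨m, hm⟩ := hR2 ⟨r, hr⟩
  have h2 : r ^ 2 ^ m = 1 := congrArg Subtype.val hm
  obtain ⟨v, hv, hvi, _⟩ := K.exists_at i ![0, 1]
  have h3 := h1 (2 ^ m) v hv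
  rw [h2, one_smul, hvi] at h3
  have h4 : δ ^ 2 ^ m = 1 := by
    have h5 : (![0, 1] : Fin 2 → F) 1 = 1 := rfl
    rw [h5, mul_one] at h3
    exact h3.symm
  have h5 : (δ - 1) ^ 2 ^ m = 0 := by
    rw [sub_pow_char_pow, h4, one_pow, sub_self]
  exact sub_eq_zero.1 (pow_eq_zero_iff (by positivity) |>.1 h5)

/-- an element of `R` which acts on `W / D₀` as a root element is one -/
theorem KNat.acts_of_up (K : KNat V H R F k co) (hRH : R ≤ H) {r : Y} (hr : r ∈ R) {b : Fin k → F}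
    (h : ∀ v ∈ WW V H R, ∀ i, co (r • v) i = ap (up (b i)) (co v i)) : Acts V H R co r fun i => up (b i) := by
  obtain ⟨r', hr', h1⟩ := K.unip b
  refine ⟨h, fun d hd h0 => ?_⟩
  have h2 := K.trivH (r'⁻¹ * r) (H.mul_mem (H.inv_mem (hRH hr')) (hRH hr)) (by
    intro w hw
    funext i
    have h3 := (h1.inv (hRH hr')).1 (r • w) (smul_mem_WW (hRH hr) hw) i
    rw [mul_smul, h3, h w hw, NatPair.ap_inv_ap]) d hd
  rw [mul_smul, inv_smul_eq_iff, h1.2 d hd h0] at h2
  exact h2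

/-- an element of `R` acting on `W / D₀` as an element of `SL₂(F)^k` is a root element -/
theorem KNat.acts_of_lin (K : KNat V H R F k co) (two : ∀ v : V, v + v = 0) (hRH : R ≤ H) (hR2 : IsPGroup 2 R) {r : Y}
    (hr : r ∈ R) {C : Fin k → Matrix.SpecialLinearGroup (Fin 2) F}
    (h : ∀ v ∈ WW V H R, ∀ i, co (r • v) i = ap (C i) (co v i)) :
    ∃ b : Fin k → F, Acts V H R co r fun i => up (b i) := by
  obtain ⟨σ, hσ⟩ := K.line r hr
  have h1 : ∀ i, σ i = i := by
    intro i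
    by_contra hne
    obtain ⟨v, hv, hvi, hv0⟩ := K.exists_at i ![0, 1]
    have h2 : co (r • v) (σ i) 1 = 0 := by
      rw [h v hv, hv0 _ hne, NatPair.ap_one']
      simp
    rw [hσ v hv, hvi] at h2
    exact one_ne_zero (show (1 : F) = 0 from h2)
  have h2 : ∀ i, ent (C i) 1 0 = 0 := by
    intro i
    obtain ⟨v, hv, hvi, hv0⟩ := K.exists_at i ![1, 0]
    have h3 := (hσ v hv i).2 (by rw [hvi]; rfl)
    rw [h1, h v hv, NatPair.ap_one', hvi] at h3
    simpa using h3
  have h3 : ∀ i, ent (C i) 1 1 = 1 := by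
    intro i
    apply K.scal_eq_one two hRH hR2 hr (i := i)
    intro v hv
    rw [h v hv, NatPair.ap_one', h2, zero_mul, zero_add]
  have h4 : ∀ i, C i = up (ent (C i) 0 1) := by
    intro i
    have h5 := det_eq (C i)
    rw [h2, h3, mul_zero, sub_zero, mul_one] at h5
    refine ext_ent ?_ ?_ ?_ ?_
    · rw [up_00, h5]
    · rw [up_01]
    · rw [up_10, h2]
    · rw [up_11, h3]
  refine ⟨fun i => ent (C i) 0 1, K.acts_of_up hRH hr fun v hv i => ?_⟩
  rw [h v hv i]
  exact congrArg (fun D => ap D (co v i)) (h4 i)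

/-- an element of `R` commuting on `W` with all root elements is a root element -/
theorem KNat.acts_of_comm [Finite F] (K : KNat V H R F k co) (two : ∀ v : V, v + v = 0) (hRH : R ≤ H)
    (hR2 : IsPGroup 2 R) {n : Y} (hn : n ∈ R)
    (h : ∀ r ∈ R, ∀ b : Fin k → F, (Acts V H R co r fun i => up (b i)) → ∀ w ∈ WW V H R, n • r • w = r • n • w) :
    ∃ b : Fin k → F, Acts V H R co n fun i => up (b i) := by
  classical
  have hnH : n ∈ H := hRH hn
  have hnH' : n⁻¹ ∈ H := H.inv_mem hnH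
  obtain ⟨σ, hσ⟩ := K.perm n hnH
  -- `n` fixes every block
  have h1 : ∀ i, σ i = i := by
    intro i
    by_contra hne
    obtain ⟨r, hr, hrb⟩ := K.unip (Pi.single i 1)
    obtain ⟨v, hv, hvi, hv0⟩ := K.exists_at i ![0, 1]
    have hrv : r • v ∈ WW V H R := smul_mem_WW (hRH hr) hv
    have hnv : n • v ∈ WW V H R := smul_mem_WW hnH hv
    have h2 : co (n • (r • v + v)) (σ i) = 0 := by
      rw [smul_add, h r hr _ hrb v hv, K.add' (smul_mem_WW (hRH hr) hnv) hnv, hrb.1 _ hnv]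
      have e : up ((Pi.single i (1 : F) : Fin k → F) (σ i)) = 1 := by
        rw [Pi.single_eq_of_ne hne, up_zero]
      simp only [e, NatPair.ap_one]
      exact K.ff' two i _
    rw [hσ _ (add_mem hrv hv), K.add' hrv hv] at h2
    have h3 := congrFun h2 0
    rw [Pi.add_apply, hrb.up_fst hv, hvi, Pi.single_eq_same] at h3
    simp at h3
  -- the block maps
  have hblk : ∀ i, ∃ μ : F, ∀ v ∈ WW V H R, co (n • v) i = ap (up μ) (co v i) := by
    intro i
    choose ve hve hvei _ using K.exists_at i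
    have hdep : ∀ v ∈ WW V H R, ∀ w ∈ WW V H R, co v i = co w i → co (n • v) i = co (n • w) i := by
      intro v hv w hw hvw
      have h2 := (hσ (v + w) (add_mem hv hw) i).2 (by rw [K.add' hv hw, hvw]; exact K.ff' two i _)
      rw [h1, smul_add, K.add' (smul_mem_WW hnH hv) (smul_mem_WW hnH hw)] at h2
      have h3 : co (n • v) i + co (n • w) i + co (n • w) i = co (n • w) i := by rw [h2, zero_add]
      rwa [add_assoc, K.ff' two i, add_zero] at h3
    have hdep' : ∀ v ∈ WW V H R, ∀ w ∈ WW V H R, co v i = co w i → co (n⁻¹ • v) i = co (n⁻¹ • w) i := by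
      intro v hv w hw hvw
      have hv' := smul_mem_WW hnH' hv
      have hw' := smul_mem_WW hnH' hw
      have h2 := (hσ (n⁻¹ • v + n⁻¹ • w) (add_mem hv' hw') i).1 (by
        rw [h1, smul_add, smul_inv_smul, smul_inv_smul, K.add' hv hw, hvw]
        exact K.ff' two i _)
      rw [K.add' hv' hw'] at h2
      have h3 : co (n⁻¹ • v) i + co (n⁻¹ • w) i + co (n⁻¹ • w) i = co (n⁻¹ • w) i := by rw [h2, zero_add]
      rwa [add_assoc, K.ff' two i, add_zero] at h3
    set α : (Fin 2 → F) → (Fin 2 → F) := fun x => co (n • ve x) i with hα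
    set β : (Fin 2 → F) → (Fin 2 → F) := fun x => co (n⁻¹ • ve x) i with hβ
    have hαv : ∀ v ∈ WW V H R, co (n • v) i = α (co v i) := fun v hv => hdep v hv _ (hve _) (hvei _).symm
    have hβv : ∀ v ∈ WW V H R, co (n⁻¹ • v) i = β (co v i) := fun v hv => hdep' v hv _ (hve _) (hvei _).symm
    have hadd : ∀ x y, α (x + y) = α x + α y := by
      intro x y
      rw [← hvei x, ← hvei y, ← K.add' (hve x) (hve y), ← hαv _ (add_mem (hve x) (hve y)), ← hαv _ (hve x),
        ← hαv _ (hve y), smul_add, K.add' (smul_mem_WW hnH (hve x)) (smul_mem_WW hnH (hve y))]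
    have hβα : ∀ x, β (α x) = x := by
      intro x
      rw [← hvei x, ← hαv _ (hve x), ← hβv _ (smul_mem_WW hnH (hve x)), inv_smul_smul]
    have hαβ : ∀ x, α (β x) = x := by
      intro x
      rw [← hvei x, ← hβv _ (hve x), ← hαv _ (smul_mem_WW hnH' (hve x)), smul_inv_smul]
    obtain ⟨s, hs⟩ := NatPair.exists_semi α β hadd hβα hαβ (by
      intro A
      obtain ⟨g, hg, hgA⟩ := K.lift fun _ => A
      obtain ⟨B, hB⟩ := K.norm n⁻¹ hnH' g hg _ hgA.1
      refine ⟨B i, fun x => ?_⟩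
      have h2 := hB _ (hve x) i
      rw [hvei, inv_inv, mul_smul, mul_smul] at h2
      rw [← h2]
      have h3 := hgA.1 (n • ve x) (smul_mem_WW hnH (hve x)) i
      rw [← h3, ← hβv _ (smul_mem_WW hg (smul_mem_WW hnH (hve x)))])
    -- commuting with the root elements
    have hcom : ∀ (β' : F) (x : Fin 2 → F), α ![β' * x 1, 0] = ![β' * α x 1, 0] := by
      intro β' x
      obtain ⟨r, hr, hrb⟩ := K.unip (Pi.single i β')
      have hrv : r • ve x ∈ WW V H R := smul_mem_WW (hRH hr) (hve x)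
      have hnv : n • ve x ∈ WW V H R := smul_mem_WW hnH (hve x)
      have h2 := congrArg (fun v => co v i) (h r hr _ hrb _ (hve x))
      change co (n • r • ve x) i = co (r • n • ve x) i at h2
      rw [hαv _ hrv, hrb.1 _ (hve x), hrb.1 _ hnv, hαv _ (hve x), hvei] at h2
      simp only [Pi.single_eq_same] at h2
      rw [ap_up, ap_up] at h2
      have e1 : (![x 0 + β' * x 1, x 1] : Fin 2 → F) = x + ![β' * x 1, 0] := by
        apply NatPair.ext2
        · rfl
        · change x 1 = x 1 + 0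
          rw [add_zero]
      have e2 : (![α x 0 + β' * α x 1, α x 1] : Fin 2 → F) = α x + ![β' * α x 1, 0] := by
        apply NatPair.ext2
        · rfl
        · change α x 1 = α x 1 + 0
          rw [add_zero]
      rw [e1, e2, hadd] at h2
      exact add_left_cancel h2
    set ν : F := α ![0, 1] 1 with hν
    set μ : F := α ![0, 1] 0 with hμ
    have h5 : ∀ c : F, α ![c, 0] = ![c * ν, 0] := by
      intro c
      have h6 := hcom c ![0, 1]
      have e : (![0, 1] : Fin 2 → F) 1 = 1 := rfl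
      rwa [e, mul_one] at h6
    have hν0 : ν ≠ 0 := by
      intro h0
      have h6 := h5 1
      rw [h0, mul_zero] at h6
      have h7 : α (0 : Fin 2 → F) = 0 := by
        have := hadd 0 0
        rw [add_zero] at this
        exact left_eq_add.1 this
      have e : (![0, 0] : Fin 2 → F) = 0 := by
        apply NatPair.ext2 <;> rfl
      rw [e, ← h7] at h6
      have h8 := congrArg β h6
      rw [hβα, hβα] at h8
      exact one_ne_zero (show (1 : F) = 0 from congrFun h8 0)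
    have hs1 : ∀ c, s c = c := by
      intro c
      have h6 := hs c ![1, 0]
      have e : c • (![1, 0] : Fin 2 → F) = ![c, 0] := by
        apply NatPair.ext2
        · change c * 1 = c
          rw [mul_one]
        · change c * 0 = 0
          rw [mul_zero]
      rw [e, h5, h5] at h6
      have h7 := congrFun h6 0
      change c * ν = s c * (1 * ν) at h7
      rw [one_mul] at h7
      exact (mul_right_cancel₀ hν0 h7).symm
    have hlin : ∀ x, α x = ![x 0 * ν + x 1 * μ, x 1 * ν] := by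
      intro x
      have e : x = ![x 0, 0] + x 1 • ![0, 1] := by
        apply NatPair.ext2
        · change x 0 = x 0 + x 1 * 0
          rw [mul_zero, add_zero]
        · change x 1 = 0 + x 1 * 1
          rw [mul_one, zero_add]
      rw [e, hadd, hs, hs1, h5, ← e]
      apply NatPair.ext2
      · change x 0 * ν + x 1 * α ![0, 1] 0 = x 0 * ν + x 1 * μ
        rfl
      · change 0 + x 1 * α ![0, 1] 1 = x 1 * ν
        rw [zero_add]
    have hν1 : ν = 1 := by
      apply K.scal_eq_one two hRH hR2 hn (i := i)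
      intro v hv
      rw [hαv v hv, hlin, mul_comm ν]
      rfl
    refine ⟨μ, fun v hv => ?_⟩
    rw [hαv v hv, hlin, ap_up, hν1, mul_one, mul_one, mul_comm]
  choose b hb using hblk
  exact ⟨b, K.acts_of_up hRH hn fun v hv i => hb i v hv⟩

/-- **a normal subgroup `N ≰ Q` of `R` contains root elements `≠ 1`** -/
theorem KNat.exists_root [Finite F] (K : KNat V H R F k co) (two : ∀ v : V, v + v = 0) (hRH : R ≤ H)
    (hR2 : IsPGroup 2 R) {N : Subgroup Y} (hNR : N ≤ R) (hNn : ∀ r ∈ R, ∀ n ∈ N, r * n * r⁻¹ ∈ N)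
    (hNQ : ¬ N ≤ QQ H R) :
    ∃ n ∈ N, ∃ b : Fin k → F, (Acts V H R co n fun i => up (b i)) ∧ ∃ i, b i ≠ 0 := by
  by_contra hcon
  push Not at hcon
  apply hNQ
  intro n hn
  have hnR := hNR hn
  obtain ⟨b, hb⟩ := K.acts_of_comm two hRH hR2 hnR (by
    intro r hr b hb
    have hnH := hRH hnR
    have hrH := hRH hr
    have hc : n * r * n⁻¹ * r⁻¹ ∈ N := by
      have h1 := N.mul_mem hn (hNn r hr _ (N.inv_mem hn))
      have e : n * (r * n⁻¹ * r⁻¹) = n * r * n⁻¹ * r⁻¹ := by group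
      rwa [e] at h1
    have hcH := hRH (hNR hc)
    obtain ⟨B, hB⟩ := K.norm n hnH r hrH _ hb.1
    have hri := (hb.inv hrH).1
    obtain ⟨c, hcc⟩ := K.acts_of_lin two hRH hR2 (hNR hc) (C := fun i => B i * (up (b i))⁻¹) (by
      intro v hv i
      rw [mul_smul, hB _ (smul_mem_WW (H.inv_mem hrH) hv), hri v hv, ← NatPair.ap_mul])
    have hc0 := hcon _ hc c hcc
    have hone : ∀ w ∈ WW V H R, (n * r * n⁻¹ * r⁻¹) • w = w := by
      intro w hw
      apply K.fix_of_one _ hcH hw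
      have e : (fun i => up (c i)) = fun _ : Fin k => (1 : Matrix.SpecialLinearGroup (Fin 2) F) := by
        funext i
        rw [hc0 i, up_zero]
      rwa [e] at hcc
    intro w hw
    have h1 := hone (r • n • w) (smul_mem_WW hrH (smul_mem_WW hnH hw))
    have e : (n * r * n⁻¹ * r⁻¹) • r • n • w = n • r • w := by
      rw [← mul_smul, ← mul_smul, ← mul_smul]
      congr 1
      group
    rw [e] at h1
    exact h1)
  exact K.mem_Q_of_up_zero two hRH hnR hb (hcon n hn b hb)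

/-- the permutation of the lines is the permutation of the blocks -/
theorem KNat.line_eq (K : KNat V H R F k co) (hRH : R ≤ H) {r : Y} (hr : r ∈ R) {i j : Fin k}
    (hij : ∀ v ∈ WW V H R, co (r • v) j = 0 ↔ co v i = 0) {v : V} (hv : v ∈ WW V H R) :
    co (r • v) j 1 = 0 ↔ co v i 1 = 0 := by
  obtain ⟨σ, hσ⟩ := K.perm r (hRH hr)
  obtain ⟨τ, hτ⟩ := K.line r hr
  have h1 : σ i = j := by
    by_contra hne
    obtain ⟨v, hv, hvi, hv0⟩ := K.exists_at i ![1, 0]
    have h1 : co (r • v) j ≠ 0 := by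
      rw [Ne, hij v hv, hvi]
      intro h2
      have h3 : (1 : F) = 0 := congrFun h2 0
      exact one_ne_zero h3
    apply h1
    have h2 := (hσ v hv (σ.symm j)).2 (hv0 _ fun h3 => hne (by rw [← h3, Equiv.apply_symm_apply]))
    rwa [Equiv.apply_symm_apply] at h2
  have h2 : τ i = j := by
    rw [← h1]
    by_contra hne
    obtain ⟨v, hv, hvi, hv0⟩ := K.exists_at i ![0, 1]
    have h2 : co (r • v) (τ i) 1 ≠ 0 := by
      rw [Ne, hτ v hv, hvi]
      exact one_ne_zero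
    apply h2
    have h3 := (hσ v hv (σ.symm (τ i))).2 (hv0 _ fun h3 => hne ((Equiv.symm_apply_eq σ).1 h3))
    rw [Equiv.apply_symm_apply] at h3
    rw [h3]; rfl
  rw [← h2]
  exact hτ v hv i

/-- **a vector of `W` fixed by a normal subgroup `N ≰ Q` of `R` lies in `W_R`** -/
theorem KNat.co_one_of_fix [Finite F] (K : KNat V H R F k co) (two : ∀ v : V, v + v = 0) (hRH : R ≤ H)
    (hR2 : IsPGroup 2 R) {N : Subgroup Y} (hNR : N ≤ R) (hNn : ∀ r ∈ R, ∀ n ∈ N, r * n * r⁻¹ ∈ N)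
    (hNQ : ¬ N ≤ QQ H R) {w : V} (hw : w ∈ WW V H R) (hfix : ∀ n ∈ N, n • w = w) (j : Fin k) : co w j 1 = 0 := by
  obtain ⟨n, hn, b, hb, i, hi⟩ := K.exists_root two hRH hR2 hNR hNn hNQ
  obtain ⟨r, hr, hrs⟩ := K.trans i j
  have hw' : r⁻¹ • w ∈ WW V H R := smul_mem_WW (H.inv_mem (hRH hr)) hw
  have h1 : n • r⁻¹ • w = r⁻¹ • w := by
    have h2 := hfix _ (hNn r hr n hn)
    rw [mul_smul, mul_smul] at h2
    rw [eq_inv_smul_iff]
    exact h2
  have h2 := hb.up_fst hw' i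
  rw [h1] at h2
  have h3 : co (r⁻¹ • w) i 1 = 0 := (mul_eq_zero.1 (left_eq_add.1 h2)).resolve_left hi
  have h4 := (K.line_eq hRH hr hrs hw').2 h3
  rwa [smul_inv_smul] at h4

end coords

namespace TwoN

variable [Finite Y] [Finite V] {U : Set (Subgroup Y)} {T : Sylow 2 Y} {M H H' R : Subgroup Y} {F : Type} [Field F]
  {k : ℕ} {co co' : V → Fin k → Fin 2 → F} {t : Y} (h : TwoN V U T M H H' R F k co co' t)
include h

theorem W'_eq : WW V H' R = t • WW V H R := by
  rw [h.H'_eq]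
  exact WW_conj (fun v => h.a.smul_V0) fun v => h.a.smul_V0'

theorem Q'_eq : QQ H' R = MulAut.conj t • QQ H R := by
  rw [h.H'_eq]
  exact QQ_conj h.a.t_norm fun r hr => h.a.symm_smul hr

/-- **(*)** -/
theorem star {B : Subgroup Y} (hB : B ∈ U) (hBH : B ≤ H) (hBM : ¬ B ≤ M) :
    ∃ b ∈ B ⊓ QQ H R, b ∉ QQ H' R := by
  rw [h.Q'_eq]
  exact h.a.star h.amb h.we hB hBH hBM

theorem two (v : V) : v + v = 0 := h.amb.two v

theorem Q_norm {r q : Y} (hr : r ∈ R) (hq : q ∈ QQ H R) : r * q * r⁻¹ ∈ QQ H R := conj_mem_QQ (h.a.RH hr) hq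

/-- `Q' ≰ Q` -/
theorem Q'_not_le : ¬ QQ H' R ≤ QQ H R := by
  intro h1
  have h2 : QQ H' R = QQ H R := by
    apply eq_of_le_of_card_ge h1
    rw [h.Q'_eq, conj_card]
  have h3 : QQ H R = ⊥ := by
    apply h.a.no_inv h.amb.core (T.2.to_le (QQ_le.trans h.a.RT))
    · intro x hx y hy
      exact conj_mem_QQ hx hy
    · intro y hy
      have h4 := conj_mem_conj (g := t) hy
      rw [← h.Q'_eq, h2] at h4
      exact h4
    · intro y hy
      rw [← h2, h.Q'_eq, mem_conj] at hy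
      exact hy
  obtain ⟨B, hB, hBR⟩ := h.a.memR
  apply Amal.ne_bot h.a h.amb h.we hB (hBR.trans h.a.RH)
  rw [h3, inf_bot_eq]

/-- **(b)** : `W ∩ W' ⊆ W_R` -/
theorem inf_le [Finite F] {w : V} (hw : w ∈ WW V H R) (hw' : w ∈ WW V H' R) (j : Fin k) : co w j 1 = 0 :=
  h.K.co_one_of_fix h.two h.a.RH h.a.R2 (N := QQ H' R) QQ_le (fun _ hr _ hn => h.swap.Q_norm hr hn) h.Q'_not_le hw
    (fun _ hn => Amal.QQ_fix h.a' h.amb hn hw') j

end TwoN

end Cfsg.Agent.Omega.NO1.TH.K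

end

section


/-!
# N1-ONE, natural type: the output of (d) of bb OMEGA 20646, and first consequences (bb OMEGA 20937, helper476)

`DOut B A i j` : the output of (d) for the opposite member `A = B^g`, `B ≤ R` : `B` acts on `W` as the root group
`R_i`, `|B| = c²`, `A ∩ Q` has order `c = |F|` and acts on `W'` as the root group `R'_j`, `V = W' + E_A`,
`W' ∩ E_A ≤ C(A ∩ Q)`, `A ∩ Q = {s_x | x ∈ W}`.
`DD` : this holds for all members `B ≤ R`, `B ≰ Q`, and all `g` which act on all blocks as `w`.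

`II = [W, J]`, `J` the join of the members in `R`.
* `MB` : the consequences for `B ≤ R` itself: `[V, B ∩ Q] ≤ W + I'`, `[V, B ∩ Q, B ∩ Q] = 0`, `C_V(b) = W + F_B`.
-/

set_option autoImplicit false
set_option linter.unusedSectionVars false
set_option linter.dupNamespace false

namespace Cfsg.Agent.Omega.NO1.TH.K

open Subgroup Cfsg.Agent.Omega.NO1.AB Cfsg.Agent.Omega.FFBr Cfsg.Agent.Lib.SL2Mat
open Cfsg.Agent.Omega.NatPair (ap)
open scoped Pointwise

universe u

variable {Y : Type u} [Group Y] {V : Type u} [AddCommGroup V] [DistribMulAction Y V]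

/-- the output of (d) of #20646 for the opposite member `A` of `B ≤ R` -/
structure DOut (V : Type u) [AddCommGroup V] [DistribMulAction Y V] (H H' R : Subgroup Y) {F : Type} [Field F] {k : ℕ}
    (co co' : V → Fin k → Fin 2 → F) (B A : Subgroup Y) (i j : Fin k) : Prop where
  supp : Supp V H R co B {i}
  supp' : Supp V H' R co' (A ⊓ QQ H R) {j}
  card : Nat.card A = Nat.card F ^ 2
  cardB : Nat.card ↥(A ⊓ QQ H R) = Nat.card F
  top : WW V H' R ⊔ Ee V A = ⊤
  inf : ∀ v ∈ WW V H' R, v ∈ Ee V A → v ∈ fx V (A ⊓ QQ H R)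
  shift : ∀ s ∈ A ⊓ QQ H R, ∀ w, w ∉ Ee V A → ∃ x ∈ WW V H R, s • w + w + x ∈ fx V A

/-- (d) of #20646 holds for all opposite members (of the side `H`) -/
def DD (V : Type u) [AddCommGroup V] [DistribMulAction Y V] (U : Set (Subgroup Y)) (H H' R : Subgroup Y) {F : Type}
    [Field F] {k : ℕ} (co co' : V → Fin k → Fin 2 → F) : Prop :=
  ∀ B ∈ U, B ≤ R → ¬ B ≤ QQ H R → ∀ g ∈ H, (Acts V H R co g fun _ => wm 1 one_ne_zero) →
    R ⊔ MulAut.conj g • B = H ∧ ∃ i j, DOut V H H' R co co' B (MulAut.conj g • B) i j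

/-- `[W, J]` -/
def II (V : Type u) [AddCommGroup V] [DistribMulAction Y V] (U : Set (Subgroup Y)) (H R : Subgroup Y) : AddSubgroup V :=
  AddSubgroup.closure {v | ∃ B ∈ U, B ≤ R ∧ ∃ b ∈ B, ∃ w ∈ WW V H R, v = b • w + w}

section one

variable {U : Set (Subgroup Y)} {T : Sylow 2 Y} {M H H' R : Subgroup Y} {t : Y} {F : Type} [Field F]
  {k : ℕ} {co co' : V → Fin k → Fin 2 → F}

theorem Supp.mem_iff (K : KNat V H R F k co) {B : Subgroup Y} {I : Set (Fin k)} {i : Fin k}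
    (h1 : Supp V H R co B I) (h2 : Supp V H R co B {i}) {l : Fin k} (hl : l ∈ I) : l = i := by
  classical
  by_contra hne
  obtain ⟨u, hu, h3⟩ := h1.full (Pi.single l 1) fun m hm => by
    rw [Pi.single_eq_of_ne]
    rintro rfl
    exact hm hl
  obtain ⟨b, hb0, hb⟩ := h2.act u hu
  have h4 := congrFun (K.up_inj h3 hb) l
  rw [Pi.single_eq_same, hb0 l (by simpa using hne)] at h4
  exact one_ne_zero h4

theorem II_le_WW (hRH : R ≤ H) : II V U H R ≤ WW V H R := by
  refine (AddSubgroup.closure_le _).2 ?_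
  rintro _ ⟨B, -, hBR, b, hb, w, hw, rfl⟩
  exact add_mem (smul_mem_WW (hRH (hBR hb)) hw) hw

theorem smul_mem_II (hc : Cls V U) (hRH : R ≤ H) {r : Y} (hr : r ∈ R) {v : V} (hv : v ∈ II V U H R) :
    r • v ∈ II V U H R := by
  induction hv using AddSubgroup.closure_induction with
  | mem v hv =>
    obtain ⟨B, hB, hBR, b, hb, w, hw, rfl⟩ := hv
    refine AddSubgroup.subset_closure ⟨MulAut.conj r • B, hc.conj B hB r, ?_, r * b * r⁻¹, conj_mem_conj hb, r • w,
      smul_mem_WW (hRH hr) hw, ?_⟩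
    · intro x hx
      rw [mem_conj] at hx
      have h1 := R.mul_mem (R.mul_mem hr (hBR hx)) (R.inv_mem hr)
      have e : r * (r⁻¹ * x * r) * r⁻¹ = x := by group
      rwa [e] at h1
    · rw [smul_add, ← mul_smul, ← mul_smul]
      congr 2
      group
  | zero => rw [smul_zero]; exact zero_mem _
  | add a b _ _ h1 h2 => rw [smul_add]; exact add_mem h1 h2
  | neg a _ h1 => rw [smul_neg]; exact neg_mem h1

variable [Finite Y] [Finite V]

theorem II_line (K : KNat V H R F k co) (amb : Amb V U T M) (a : Amal U T M H R t) (we : WE V U H R)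
    {v : V} (hv : v ∈ II V U H R) (l : Fin k) : co v l 1 = 0 := by
  have key : v ∈ WW V H R ∧ co v l 1 = 0 := by
    refine AddSubgroup.closure_induction ?_ ?_ ?_ ?_ hv
    · rintro _ ⟨B, hB, hBR, b, hb, w, hw, rfl⟩
      have hbH := a.RH (hBR hb)
      refine ⟨add_mem (smul_mem_WW hbH hw) hw, ?_⟩
      by_cases hQ : B ≤ QQ H R
      · rw [Amal.QQ_fix a amb (hQ hb) hw, amb.two, K.zero]; rfl
      · obtain ⟨I, _, hS⟩ := exists_supp K amb a we hB hBR hQ
        obtain ⟨β, _, hβ⟩ := hS.act b hb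
        rw [K.add_apply (smul_mem_WW hbH hw) hw, hβ.up_snd hw, K.ff amb.two l]
    · exact ⟨zero_mem _, by rw [K.zero]; rfl⟩
    · rintro x y - - ⟨hx, hx'⟩ ⟨hy, hy'⟩
      exact ⟨add_mem hx hy, by rw [K.add_apply hx hy, hx', hy', add_zero]⟩
    · rintro x - ⟨hx, hx'⟩
      refine ⟨neg_mem hx, ?_⟩
      rw [K.neg hx, Pi.neg_apply, Pi.neg_apply, hx', neg_zero]
  exact key.2

theorem exists_single_member (K : KNat V H R F k co) (amb : Amb V U T M) (a : Amal U T M H R t) (we : WE V U H R)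
    (hD : DD V U H H' R co co') (l : Fin k) : ∃ B ∈ U, B ≤ R ∧ ¬ B ≤ QQ H R ∧ Supp V H R co B {l} := by
  obtain ⟨B, hB, hBR, hBQ, I, hl, hI⟩ := exists_member_at K amb a we l
  obtain ⟨g, hg, hgA⟩ := K.lift fun _ => wm 1 one_ne_zero
  obtain ⟨-, i, j, d⟩ := hD B hB hBR hBQ g hg hgA
  have h1 := Supp.mem_iff K hI d.supp hl
  subst h1
  exact ⟨B, hB, hBR, hBQ, d.supp⟩

/-- two elements of `H` with the same unipotent action act on `W` in the same way -/
theorem eq_of_up (K : KNat V H R F k co) (two : ∀ v : V, v + v = 0) {g u : Y} (hg : g ∈ H) (hu : u ∈ H)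
    (huu : u * u = 1) {b : Fin k → F} (h1 : Acts V H R co g fun i => up (b i)) (h2 : Acts V H R co u fun i => up (b i))
    {w : V} (hw : w ∈ WW V H R) : g • w = u • w := by
  have h3 := h2.up_mul hg h1
  have h4 : Acts V H R co (u * g) fun _ => 1 := by
    have e : (fun i => up (b i + b i)) = fun _ : Fin k => (1 : Matrix.SpecialLinearGroup (Fin 2) F) := by
      funext i
      rw [K.ff two i, up_zero]
    rwa [e] at h3
  have h5 := K.fix_of_one h4 (H.mul_mem hu hg) hw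
  have h6 : u • (u * g) • w = g • w := by
    rw [← mul_smul, ← mul_assoc, huu, one_mul]
  rw [← h6, h5]

/-- an element acting as a root element at `l` fixes the vectors with coordinate `0` at `(l, 1)` -/
theorem root_fix [Finite F] (K : KNat V H R F k co) (amb : Amb V U T M) (a : Amal U T M H R t) (we : WE V U H R)
    (hD : DD V U H H' R co co') {l : Fin k} {g : Y} (hg : g ∈ H) {b : Fin k → F} (hb : ∀ i, i ≠ l → b i = 0)
    (hA : Acts V H R co g fun i => up (b i)) {w : V} (hw : w ∈ WW V H R) (h0 : co w l 1 = 0) : g • w = w := by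
  obtain ⟨B, hB, hBR, hBQ, hS⟩ := exists_single_member K amb a we hD l
  obtain ⟨u, hu, huA⟩ := hS.full b fun i hi => hb i (by simpa using hi)
  have hm := amb.cls.mem B hB
  rw [eq_of_up K amb.two hg (a.RH (hBR hu)) (hm.sq u hu) hA huA hw]
  have h1 : w ∈ fx V B := (member_fx_iff K amb a we hB hBR hS hw).2 fun i hi => by
    rw [Set.mem_singleton_iff] at hi
    rw [hi, h0]
  exact h1 u hu

/-- an element acting on `W` as a root element at `l`: commutators lie in `II` -/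
theorem comm_mem_II (K : KNat V H R F k co) (amb : Amb V U T M) (a : Amal U T M H R t) (we : WE V U H R)
    (hD : DD V U H H' R co co') {l : Fin k} {g : Y} (hg : g ∈ H) {b : Fin k → F} (hb : ∀ i, i ≠ l → b i = 0)
    (hA : Acts V H R co g fun i => up (b i)) {w : V} (hw : w ∈ WW V H R) : g • w + w ∈ II V U H R := by
  obtain ⟨B, hB, hBR, hBQ, hS⟩ := exists_single_member K amb a we hD l
  obtain ⟨u, hu, huA⟩ := hS.full b fun i hi => hb i (by simpa using hi)
  have hm := amb.cls.mem B hB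
  rw [eq_of_up K amb.two hg (a.RH (hBR hu)) (hm.sq u hu) hA huA hw]
  exact AddSubgroup.subset_closure ⟨B, hB, hBR, u, hu, w, hw, rfl⟩

end one

end Cfsg.Agent.Omega.NO1.TH.K

end

section


/-!
# N1-ONE, natural type, `k ≥ 2`: case (d) is impossible (bb OMEGA 20937, helper476), (0) - (2)

* `MB` : facts for the members `B ≤ R`, `B ≰ Q`; `mb` : they follow from `DD`;
* `not_le_Q'` (1) : `B ≰ Q'`;
* `exists_of_comm` (2) : `[W, B] ⊆ [W', B]`;  `II_le` : `[W', J] ≤ W`;
* `inf_eq_bot` : `B ∩ Q ∩ Q' = 1`.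
-/

set_option autoImplicit false
set_option linter.unusedSectionVars false
set_option linter.dupNamespace false

namespace Cfsg.Agent.Omega.NO1.TH.K.L2K

open Subgroup Cfsg.Agent.Omega.NO1.TH.K Cfsg.Agent.Omega.NO1.AB Cfsg.Agent.Omega.FFBr Cfsg.Agent.Lib.SL2Mat
open Cfsg.Agent.Omega.NatPair (ap)
open scoped Pointwise

universe u

variable {Y : Type u} [Group Y] {V : Type u} [AddCommGroup V] [DistribMulAction Y V]

/-- facts for a member `B ≤ R`, `B ≰ Q` -/
structure MB (V : Type u) [AddCommGroup V] [DistribMulAction Y V] (U : Set (Subgroup Y)) (H H' R : Subgroup Y)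
    {F : Type} [Field F] {k : ℕ} (co : V → Fin k → Fin 2 → F) (B : Subgroup Y) (i : Fin k) : Prop where
  supp : Supp V H R co B {i}
  card : Nat.card B = Nat.card F ^ 2
  cardB : Nat.card ↥(B ⊓ QQ H R) = Nat.card F
  shift : ∀ s ∈ B ⊓ QQ H R, ∀ w, w ∉ Ee V B → ∃ x ∈ WW V H R, s • w + w + x ∈ fx V B
  quad : ∀ s ∈ B ⊓ QQ H R, ∀ r ∈ B ⊓ QQ H R, ∀ v : V, s • (r • v + v) = r • v + v
  cmem : ∀ s ∈ B ⊓ QQ H R, ∀ v : V, s • v + v ∈ WW V H R ⊔ II V U H' R

theorem conj_QQ_inf {H R : Subgroup Y} {g : Y} (hg : g ∈ H) (B : Subgroup Y) :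
    MulAut.conj g • B ⊓ QQ H R = MulAut.conj g • (B ⊓ QQ H R) := by
  ext y
  constructor
  · intro h0
    have h1 : y ∈ MulAut.conj g • B := h0.1
    have h2 : y ∈ QQ H R := h0.2
    rw [mem_conj] at h1 ⊢
    refine ⟨h1, ?_⟩
    have := conj_mem_QQ (H.inv_mem hg) h2
    rwa [inv_inv] at this
  · intro h1
    rw [mem_conj] at h1
    refine ⟨mem_conj.2 h1.1, ?_⟩
    have := conj_mem_QQ hg h1.2
    have e : g * (g⁻¹ * y * g) * g⁻¹ = y := by group
    rwa [e] at this

theorem add_swap (two : ∀ v : V, v + v = 0) {a b c : V} (h : a + b = c) : a = c + b := by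
  rw [← h, add_assoc, two, add_zero]

section one

variable {U : Set (Subgroup Y)} {T : Sylow 2 Y} {M H H' R : Subgroup Y} {t : Y} {F : Type} [Field F]
  {k : ℕ} {co co' : V → Fin k → Fin 2 → F} [Finite Y] [Finite V] [Finite F]

/-- `I' ≤ C(A ∩ Q)` -/
theorem II_fix (h : TwoN V U T M H H' R F k co co' t) (hD' : DD V U H' H R co' co) {A : Subgroup Y} {j : Fin k}
    (hS : Supp V H' R co' (A ⊓ QQ H R) {j}) {y : V} (hy : y ∈ II V U H' R) : y ∈ fx V (A ⊓ QQ H R) := by
  intro b hb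
  obtain ⟨β, hβ0, hβ⟩ := hS.act b hb
  exact root_fix h.K' h.amb h.a' h.we' hD' (h.a'.RH (QQ_le hb.2)) (fun i hi => hβ0 i (by simpa using hi)) hβ
    (II_le_WW h.a'.RH hy) (II_line h.K' h.amb h.a' h.we' hy j)

/-- **(0)** `W + I'` is `H`-invariant -/
theorem plus_inv (h : TwoN V U T M H H' R F k co co' t) (hD : DD V U H H' R co co') (hD' : DD V U H' H R co' co) :
    ∀ x ∈ H, ∀ v ∈ WW V H R ⊔ II V U H' R, x • v ∈ WW V H R ⊔ II V U H' R := by
  obtain ⟨B, hB, hBR, hBQ⟩ := Amal.exists_not_QQ h.a h.amb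
  obtain ⟨g, hg, hgA⟩ := h.K.lift fun _ => wm 1 one_ne_zero
  obtain ⟨hgen, i, j, d⟩ := hD B hB hBR hBQ g hg hgA
  have hA : MulAut.conj g • B ∈ U := h.amb.cls.conj B hB g
  have hAH : MulAut.conj g • B ≤ H := by rw [← hgen]; exact le_sup_right
  have key : R ⊔ MulAut.conj g • B ≤ MulAction.stabilizer Y (WW V H R ⊔ II V U H' R) := by
    refine sup_le (fun r hr => smul_of_mem fun v hv => ?_) fun u hu => smul_of_mem fun v hv => ?_
    · rw [AddSubgroup.mem_sup] at hv
      obtain ⟨x, hx, y, hy, rfl⟩ := hv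
      rw [smul_add]
      exact add_mem (AddSubgroup.mem_sup_left (smul_mem_WW (h.a.RH hr) hx))
        (AddSubgroup.mem_sup_right (smul_mem_II h.amb.cls h.a'.RH hr hy))
    · rw [AddSubgroup.mem_sup] at hv
      obtain ⟨x, hx, y, hy, rfl⟩ := hv
      rw [smul_add]
      refine add_mem (AddSubgroup.mem_sup_left (smul_mem_WW (hAH hu) hx)) ?_
      have h1 := II_fix h hD' d.supp' hy
      rw [Amal.fx_eq h.a h.amb h.we hA hAH, AddSubgroup.mem_sup] at h1
      obtain ⟨x', hx', f, hf, rfl⟩ := h1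
      have h2 : u • (x' + f) = (u • x' + x') + (x' + f) := by
        rw [smul_add, hf u hu]
        have e : u • x' + x' + (x' + f) = u • x' + f + (x' + x') := by abel
        rw [e, h.amb.two, add_zero]
      rw [h2]
      exact add_mem (AddSubgroup.mem_sup_left (add_mem (smul_mem_WW (hAH hu) hx') hx'))
        (AddSubgroup.mem_sup_right hy)
  rw [hgen] at key
  intro x hx v hv
  have h1 : x • (WW V H R ⊔ II V U H' R) = WW V H R ⊔ II V U H' R := key hx
  rw [← h1]
  exact smul_mem_smul_as hv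

/-- **(0)** -/
theorem mb (h : TwoN V U T M H H' R F k co co' t) (hD : DD V U H H' R co co') (hD' : DD V U H' H R co' co)
    {B : Subgroup Y} (hB : B ∈ U) (hBR : B ≤ R) (hBQ : ¬ B ≤ QQ H R) : ∃ i, MB V U H H' R co B i := by
  have two := h.amb.two
  obtain ⟨g, hg, hgA⟩ := h.K.lift fun _ => wm 1 one_ne_zero
  obtain ⟨hgen, i, j, d⟩ := hD B hB hBR hBQ g hg hgA
  have hA : MulAut.conj g • B ∈ U := h.amb.cls.conj B hB g
  have hAH : MulAut.conj g • B ≤ H := by rw [← hgen]; exact le_sup_right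
  have hm := h.amb.cls.mem _ hA
  have hcj : ∀ {s : Y}, s ∈ B ⊓ QQ H R → g * s * g⁻¹ ∈ MulAut.conj g • B ⊓ QQ H R := by
    intro s hs
    rw [conj_QQ_inf hg]
    exact conj_mem_conj hs
  have hback : ∀ (s : Y) (v : V), (g * s * g⁻¹) • g • v = g • s • v := by
    intro s v
    rw [← mul_smul, ← mul_smul]; congr 1; group
  have hgi := H.inv_mem hg
  -- the facts for `A`
  have hquad : ∀ s ∈ MulAut.conj g • B ⊓ QQ H R, ∀ r ∈ MulAut.conj g • B ⊓ QQ H R, ∀ v : V,
      s • (r • v + v) = r • v + v := by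
    intro s hs r hr v
    have hv : v ∈ WW V H' R ⊔ Ee V (MulAut.conj g • B) := by rw [d.top]; exact AddSubgroup.mem_top v
    rw [AddSubgroup.mem_sup] at hv
    obtain ⟨y, hy, e, he, rfl⟩ := hv
    have h1 : r • (y + e) + (y + e) = (r • y + y) + (r • e + e) := by rw [smul_add]; abel
    have h2 : r • y + y ∈ WW V H' R := add_mem (smul_mem_WW (h.a'.RH (QQ_le hr.2)) hy) hy
    have h3 := d.inf _ h2 (hm.VB r hr.1 y) s hs
    have h4 := he r hr.1 s hs.1
    rw [h1, smul_add, h3, h4]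
  have hcm : ∀ s ∈ MulAut.conj g • B ⊓ QQ H R, ∀ v : V, s • v + v ∈ WW V H R ⊔ II V U H' R := by
    intro s hs v
    have hv : v ∈ WW V H' R ⊔ Ee V (MulAut.conj g • B) := by rw [d.top]; exact AddSubgroup.mem_top v
    rw [AddSubgroup.mem_sup] at hv
    obtain ⟨y, hy, e, he, rfl⟩ := hv
    have h1 : s • (y + e) + (y + e) = (s • e + e) + (s • y + y) := by rw [smul_add]; abel
    rw [h1]
    apply add_mem
    · obtain ⟨w, hw⟩ := hm.ne
      obtain ⟨x, hx, hsx⟩ := d.shift s hs w hw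
      obtain ⟨u, hu, hue⟩ := hm.surj w hw e he
      rw [mem_sym hm two hu hs.1 hue hsx]
      exact AddSubgroup.mem_sup_left (add_mem (smul_mem_WW (hAH hu) hx) hx)
    · obtain ⟨β, hβ0, hβ⟩ := d.supp'.act s hs
      exact AddSubgroup.mem_sup_right (comm_mem_II h.K' h.amb h.a' h.we' hD' (h.a'.RH (QQ_le hs.2))
        (fun i hi => hβ0 i (by simpa using hi)) hβ hy)
  refine ⟨i, d.supp, ?_, ?_, fun s hs w hw => ?_, fun s hs r hr v => ?_, fun s hs v => ?_⟩
  · rw [← conj_card g, d.card]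
  · rw [← conj_card g, ← conj_QQ_inf hg, d.cardB]
  · obtain ⟨x, hx, h1⟩ := d.shift _ (hcj hs) (g • w) (by
      rw [Ee_conj, mem_smul_as, inv_smul_smul]; exact hw)
    refine ⟨g⁻¹ • x, smul_mem_WW hgi hx, ?_⟩
    rw [fx_conj, mem_smul_as, hback, smul_add, smul_add, inv_smul_smul, inv_smul_smul] at h1
    exact h1
  · have h1 := hquad _ (hcj hs) _ (hcj hr) (g • v)
    rw [hback, ← smul_add, hback, smul_left_cancel_iff] at h1
    exact h1
  · have h1 := plus_inv h hD hD' g⁻¹ hgi _ (hcm _ (hcj hs) (g • v))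
    rw [hback, ← smul_add, inv_smul_smul] at h1
    exact h1

/-- **(0)** `C_V(b) ≤ W + F_B` -/
theorem MB.cent (h : TwoN V U T M H H' R F k co co' t) {B : Subgroup Y} (hB : B ∈ U) (hBR : B ≤ R) {i : Fin k}
    (m : MB V U H H' R co B i) {b : Y} (hb : b ∈ B ⊓ QQ H R) (hb1 : b ≠ 1) {v : V} (hv : b • v = v) :
    v ∈ WW V H R ⊔ fx V B := by
  have two := h.amb.two
  have hm := h.amb.cls.mem B hB
  have hvE : v ∈ Ee V B := by
    by_contra hvE
    exact hb1 (hm.inj v hvE b hb.1 (by rw [hv, two]; exact zero_mem _))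
  obtain ⟨w, hw⟩ := hm.ne
  obtain ⟨x, hx, hbx⟩ := m.shift b hb w hw
  obtain ⟨s, hs, hsv⟩ := hm.surj w hw v hvE
  have h1 := mem_sym hm two hs hb.1 hsv hbx
  rw [hv, two] at h1
  -- `s` fixes `x`
  have h2 : s • x = x := ((HE.add_eq_zero' two).1 h1.symm)
  have hxF : x ∉ fx V B := by
    intro hxF
    apply hb1
    apply hm.inj w hw b hb.1
    have h3 := sub_mem hbx hxF
    rwa [add_sub_cancel_right] at h3
  have hx1 : co x i 1 ≠ 0 := by
    intro h0
    apply hxF
    rw [member_fx_iff h.K h.amb h.a h.we hB hBR m.supp hx]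
    intro l hl
    rw [Set.mem_singleton_iff] at hl
    rw [hl, h0]
  obtain ⟨β, hβ0, hβ⟩ := m.supp.act s hs
  have h4 := hβ.up_fst hx i
  rw [h2] at h4
  have h5 : β i = 0 := (mul_eq_zero.1 (left_eq_add.1 h4)).resolve_right hx1
  have hsQ : s ∈ QQ H R := h.K.mem_Q_of_up_zero two h.a.RH (hBR hs) hβ fun l => by
    by_cases hl : l = i
    · rw [hl, h5]
    · exact hβ0 l (by simpa using hl)
  obtain ⟨y, hy, hsy⟩ := m.shift s ⟨hs, hsQ⟩ w hw
  have h6 : y + v ∈ fx V B := by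
    have h7 := add_mem hsy hsv
    have e : s • w + w + y + (s • w + w + v) = (s • w + s • w) + (w + w) + (y + v) := by abel
    rw [e, two, two, add_zero, zero_add] at h7
    exact h7
  have h8 : v = y + (y + v) := by rw [← add_assoc, two, zero_add]
  rw [h8]
  exact add_mem (AddSubgroup.mem_sup_left hy) (AddSubgroup.mem_sup_right h6)

/-- permutation and line -/
theorem perm_line (K : KNat V H R F k co) (hRH : R ≤ H) {r : Y} (hr : r ∈ R) {i j : Fin k}
    (hij : ∀ v ∈ WW V H R, co (r • v) j = 0 ↔ co v i = 0) {v : V} (hv : v ∈ WW V H R) :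
    co (r • v) j 1 = 0 ↔ co v i 1 = 0 := by
  obtain ⟨τ, hτ⟩ := K.perm r (hRH hr)
  obtain ⟨σ, hσ⟩ := K.line r hr
  have hτi : τ i = j := by
    obtain ⟨x, hx, hxi, hx0⟩ := K.exists_at i ![0, 1]
    by_contra hne
    obtain ⟨l, hl⟩ := τ.surjective j
    have hli : l ≠ i := by
      rintro rfl
      exact hne hl
    have h1 := (hτ x hx l).2 (hx0 l hli)
    rw [hl, hij x hx, hxi] at h1
    have h2 := congrFun h1 1
    simp at h2
  have hσi : σ i = j := by
    obtain ⟨x, hx, hxi, hx0⟩ := K.exists_at i ![0, 1]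
    by_contra hne
    obtain ⟨l, hl⟩ := τ.surjective (σ i)
    have hli : l ≠ i := by
      rintro rfl
      exact hne (hl.symm.trans hτi)
    have h1 := (hτ x hx l).2 (hx0 l hli)
    have h2 := (hσ x hx i).1 (by rw [← hl, h1]; rfl)
    rw [hxi] at h2
    simp at h2
  rw [← hσi]
  exact hσ v hv i

/-- a root element at `i` in `Q'` -/
theorem exists_elt (h : TwoN V U T M H H' R F k co co' t) (hD : DD V U H H' R co co') (hD' : DD V U H' H R co' co)
    (i : Fin k) : ∃ a ∈ QQ H' R, a * a = 1 ∧ (∀ y ∈ WW V H R, a • y = y ↔ co y i 1 = 0) ∧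
      ∀ v : V, ∃ x ∈ WW V H' R, ∃ y ∈ WW V H R, (∀ l, co y l 1 = 0) ∧ a • v + v = x + y := by
  have two := h.amb.two
  obtain ⟨B, hB, hBR, hBQ⟩ := Amal.exists_not_QQ h.a' h.amb
  obtain ⟨g, hg, hgA⟩ := h.K'.lift fun _ => wm 1 one_ne_zero
  obtain ⟨hgen, i', j, d⟩ := hD' B hB hBR hBQ g hg hgA
  have hA : MulAut.conj g • B ∈ U := h.amb.cls.conj B hB g
  have hAH : MulAut.conj g • B ≤ H' := by rw [← hgen]; exact le_sup_right
  have hm := h.amb.cls.mem _ hA
  classical
  obtain ⟨a, ha, haA⟩ := d.supp'.full (Pi.single j 1) fun l hl => Pi.single_eq_of_ne (by simpa using hl) _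
  have haH : a ∈ H := h.a.RH (QQ_le ha.2)
  have hfix : ∀ y ∈ WW V H R, a • y = y ↔ co y j 1 = 0 := by
    intro y hy
    constructor
    · intro h1
      have h2 := haA.up_fst hy j
      rw [h1, Pi.single_eq_same, one_mul] at h2
      exact left_eq_add.1 h2
    · exact root_fix h.K h.amb h.a h.we hD haH (fun l hl => Pi.single_eq_of_ne hl _) haA hy
  have hcomm : ∀ v : V, ∃ x ∈ WW V H' R, ∃ y ∈ WW V H R, (∀ l, co y l 1 = 0) ∧ a • v + v = x + y := by
    intro v
    have hv : v ∈ WW V H R ⊔ Ee V (MulAut.conj g • B) := by rw [d.top]; exact AddSubgroup.mem_top v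
    rw [AddSubgroup.mem_sup] at hv
    obtain ⟨y, hy, e, he, rfl⟩ := hv
    have h1 : a • (y + e) + (y + e) = (a • e + e) + (a • y + y) := by rw [smul_add]; abel
    obtain ⟨w, hw⟩ := hm.ne
    obtain ⟨x, hx, hsx⟩ := d.shift a ha w hw
    obtain ⟨u, hu, hue⟩ := hm.surj w hw e he
    refine ⟨a • e + e, ?_, a • y + y, add_mem (smul_mem_WW haH hy) hy, fun l => ?_, h1⟩
    · rw [mem_sym hm two hu ha.1 hue hsx]
      exact add_mem (smul_mem_WW (hAH hu) hx) hx
    · rw [h.K.add_apply (smul_mem_WW haH hy) hy, haA.up_snd hy, h.K.ff two l]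
  -- conjugate with `r`
  obtain ⟨r, hr, hrs⟩ := h.K.trans j i
  have hri := R.inv_mem hr
  have hback : ∀ v : V, (r * a * r⁻¹) • v = r • a • r⁻¹ • v := by
    intro v
    rw [mul_smul, mul_smul]
  refine ⟨r * a * r⁻¹, conj_mem_QQ (h.a'.RH hr) ha.2, ?_, fun y hy => ?_, fun v => ?_⟩
  · have h1 := hm.sq a ha.1
    have e : r * a * r⁻¹ * (r * a * r⁻¹) = r * (a * a) * r⁻¹ := by group
    rw [e, h1, mul_one, mul_inv_cancel]
  · rw [hback]
    have h1 : r • a • r⁻¹ • y = y ↔ a • r⁻¹ • y = r⁻¹ • y := by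
      rw [smul_eq_iff_eq_inv_smul]
    have hyr := smul_mem_WW (h.a.RH hri) hy
    rw [h1, hfix _ hyr, ← perm_line h.K h.a.RH hr hrs hyr, smul_inv_smul]
  · obtain ⟨x, hx, y, hy, hy1, h1⟩ := hcomm (r⁻¹ • v)
    refine ⟨r • x, smul_mem_WW (h.a'.RH hr) hx, r • y, smul_mem_WW (h.a.RH hr) hy, fun l => ?_, ?_⟩
    · obtain ⟨σ, hσ⟩ := h.K.line r hr
      obtain ⟨m, rfl⟩ := σ.surjective l
      exact (hσ y hy m).2 (hy1 m)
    · rw [hback, ← smul_add, ← h1, smul_add, smul_inv_smul]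

/-- **(1)** a member in `R` which is not in `Q` is not in `Q'` -/
theorem not_le_Q' (h : TwoN V U T M H H' R F k co co' t) {a : ℕ} (w : World V U T M a)
    (hD : DD V U H H' R co co') (hD' : DD V U H' H R co' co)
    {B : Subgroup Y} (hB : B ∈ U) (hBR : B ≤ R) (hBQ : ¬ B ≤ QQ H R) : ¬ B ≤ QQ H' R := by
  intro hQ'
  have two := h.amb.two
  have hm := h.amb.cls.mem B hB
  obtain ⟨i, m⟩ := mb h hD hD' hB hBR hBQ
  obtain ⟨x, hx, hxx, hfix, hcomm⟩ := exists_elt h hD hD' i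
  have hfx : ∀ y ∈ WW V H R, co y i 1 = 0 → y ∈ fx V B := fun y hy h0 =>
    (member_fx_iff h.K h.amb h.a h.we hB hBR m.supp hy).2 fun l hl => by
      rw [Set.mem_singleton_iff] at hl
      rw [hl, h0]
  have hW' : ∀ y ∈ WW V H' R, y ∈ fx V B := fun y hy b hb => Amal.QQ_fix h.a' h.amb (hQ' hb) hy
  -- `[V, x] ≤ F_B`
  have h1 : ∀ v : V, x • v + v ∈ fx V B := by
    intro v
    obtain ⟨z, hz, y, hy, hy1, h2⟩ := hcomm v
    rw [h2]
    exact add_mem (hW' z hz) (hfx y hy (hy1 i))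
  -- `x` fixes `[e, b]`
  have h2 : ∀ b ∈ B ⊓ QQ H R, ∀ e ∈ Ee V B, x • (b • e + e) = b • e + e := by
    intro b hb e he
    obtain ⟨v, hv⟩ := hm.ne
    obtain ⟨z, hz, hbz⟩ := m.shift b hb v hv
    obtain ⟨u, hu, hue⟩ := hm.surj v hv e he
    rw [mem_sym hm two hu hb.1 hue hbz]
    have huH := h.a.RH (hBR hu)
    rw [hfix _ (add_mem (smul_mem_WW huH hz) hz)]
    obtain ⟨β, hβ0, hβ⟩ := m.supp.act u hu
    rw [h.K.add_apply (smul_mem_WW huH hz) hz, hβ.up_snd hz, h.K.ff two i]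
  -- `x` moves `[v, b]`
  have h3 : ∀ b ∈ B ⊓ QQ H R, b ≠ 1 → ∀ v, v ∉ Ee V B → x • (b • v + v) ≠ b • v + v := by
    intro b hb hb1 v hv h4
    have h5 := m.cmem b hb v
    rw [AddSubgroup.mem_sup] at h5
    obtain ⟨z, hz, y, hy, hzy⟩ := h5
    have hy' : y ∈ WW V H' R := II_le_WW h.a'.RH hy
    rw [← hzy, smul_add, Amal.QQ_fix h.a' h.amb hx hy'] at h4
    have h6 : x • z = z := add_right_cancel h4
    apply hb1
    apply hm.inj v hv b hb.1
    rw [← hzy]
    exact add_mem (hfx z hz ((hfix z hz).1 h6)) (hW' y hy')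
  have hact : ∀ b ∈ B ⊓ QQ H R, ∀ v : V, (x * b * x * b) • v = v + (x • (b • v + v) + (b • v + v)) := by
    intro b hb v
    have h4 := h1 (b • v) b hb.1
    rw [smul_add, ← mul_smul b b, hm.sq b hb.1, one_smul] at h4
    -- `b x b v = x b v + b v + v`
    have h5 : b • x • b • v = x • b • v + b • v + v := add_swap two h4
    rw [mul_smul, mul_smul, mul_smul, h5, smul_add, smul_add, ← mul_smul x x, hxx, one_smul, smul_add]
    have e : v + (x • b • v + x • v + (b • v + v)) = b • v + x • b • v + x • v + (v + v) := by abel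
    rw [e, two, add_zero]
  have heq : ∀ {y z : Y}, (∀ v : V, y • v = z • v) → y = z := by
    intro y z hyz
    have h4 : y⁻¹ * z = 1 := h.amb.faith _ fun v => by rw [mul_smul, ← hyz, inv_smul_smul]
    exact (inv_mul_eq_one.1 h4)
  let f : ↥(B ⊓ QQ H R) →* Y :=
    { toFun := fun b => x * b * x * b
      map_one' := by
        change x * (1 : Y) * x * 1 = 1
        rw [mul_one, mul_one, hxx]
      map_mul' := fun b c => by
        change x * ((b : Y) * c) * x * (b * c) = x * b * x * b * (x * c * x * c)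
        apply heq
        intro v
        have hbc := (B ⊓ QQ H R).mul_mem b.2 c.2
        have h4 : (b : Y) • ((c : Y) • v + v) = (c : Y) • v + v := m.quad b b.2 c c.2 v
        have h5 : ((b : Y) * c) • v + v = ((c : Y) • v + v) + ((b : Y) • v + v) := by
          rw [smul_add] at h4
          have h6 : (b : Y) • (c : Y) • v = (c : Y) • v + v + (b : Y) • v := add_swap two h4
          rw [mul_smul, h6]
          abel
        have h7 : (x * (c : Y) * x * c) • v = v + (x • ((c : Y) • v + v) + ((c : Y) • v + v)) := hact c c.2 v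
        rw [hact _ hbc v, mul_smul (x * (b : Y) * x * b), h7, hact b b.2, h5]
        have h8 := h1 ((c : Y) • v + v) b b.2.1
        have h9 : (b : Y) • (v + (x • ((c : Y) • v + v) + ((c : Y) • v + v))) +
            (v + (x • ((c : Y) • v + v) + ((c : Y) • v + v))) = (b : Y) • v + v := by
          rw [smul_add, h8]
          have e : (b : Y) • v + (x • ((c : Y) • v + v) + ((c : Y) • v + v)) +
              (v + (x • ((c : Y) • v + v) + ((c : Y) • v + v))) = (b : Y) • v + v +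
                ((x • ((c : Y) • v + v) + ((c : Y) • v + v)) + (x • ((c : Y) • v + v) + ((c : Y) • v + v))) := by abel
          rw [e, two, add_zero]
        rw [h9, smul_add x ((c : Y) • v + v) ((b : Y) • v + v)]
        abel }
  have hf : ∀ b : ↥(B ⊓ QQ H R), f b = x * b * x * b := fun _ => rfl
  have hinj : Function.Injective f := by
    rw [injective_iff_map_eq_one]
    intro b hb
    by_contra hb1
    obtain ⟨v, hv⟩ := hm.ne
    apply h3 b b.2 (fun h4 => hb1 (Subtype.ext h4)) v hv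
    have h4 := hact b b.2 v
    rw [← hf, hb, one_smul] at h4
    exact (HE.add_eq_zero' two).1 (left_eq_add.1 h4)
  have hcard : Nat.card f.range = Nat.card F := by
    rw [← m.cardB]
    exact (Nat.card_congr (Equiv.ofInjective f hinj)).symm
  have h10 := w.noff f.range (by
    rintro _ ⟨b, rfl⟩ _ ⟨c, rfl⟩
    rw [← map_mul, ← map_mul]
    congr 1
    exact Subtype.ext (hm.comm b b.2.1 c c.2.1)) (by
    rintro _ ⟨b, rfl⟩
    rw [← map_mul]
    have : b * b = 1 := Subtype.ext (hm.sq b b.2.1)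
    rw [this, map_one]) (by
    intro h4
    rw [h4, Subgroup.card_bot] at hcard
    have := Finite.one_lt_card (α := F)
    omega)
  have h11 : Ee V B ≤ fx V f.range := by
    intro e he
    rintro _ ⟨b, rfl⟩
    rw [hf, hact b b.2, h2 b b.2 e he, two, add_zero]
  have h12 := AddSubgroup.index_antitone h11
  rw [w.ind B hB] at h12
  have h13 := w.pf B hB
  rw [m.card] at h13
  have h14 : a ≤ Nat.card F := by
    by_contra h15
    push Not at h15
    exact absurd h13 (not_le.2 (Nat.pow_lt_pow_left h15 two_ne_zero))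
  rw [hcard] at h10
  omega

end one

end Cfsg.Agent.Omega.NO1.TH.K.L2K

end

section


/-!
# N1-ONE, natural type, `k ≥ 2`: case (d) is impossible (bb OMEGA 20937, helper476), the end

* `exists_of_comm` (2) : `[W, B] ⊆ [W', B]`;  `II_le` : `[W', J] ≤ W`;
* `inf_eq_bot` (4) : `B ∩ Q ∩ Q' = 1`;
* `kill_soc` (5) : SOC for `X = ⟨B, B^h, B^h'⟩`;
* `lTwo` : (L2) of bb OMEGA 20646.
-/

set_option autoImplicit false
set_option linter.unusedSectionVars false
set_option linter.dupNamespace false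

namespace Cfsg.Agent.Omega.NO1.TH.K.L2K

open Subgroup Cfsg.Agent.Omega.NO1.TH.K Cfsg.Agent.Omega.NO1.AB Cfsg.Agent.Omega.FFBr Cfsg.Agent.Lib.SL2Mat
open Cfsg.Agent.Omega.NatPair (ap)
open scoped Pointwise

universe u

variable {Y : Type u} [Group Y] {V : Type u} [AddCommGroup V] [DistribMulAction Y V]

section one

variable {U : Set (Subgroup Y)} {T : Sylow 2 Y} {M H H' R : Subgroup Y} {t : Y} {F : Type} [Field F]
  {k : ℕ} {co co' : V → Fin k → Fin 2 → F} [Finite Y] [Finite V] [Finite F]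

/-- `|B₁| |B₂| = |B|`, `B₁ ∩ B₂ = 1`: `B = B₁ B₂` -/
theorem exists_mul_of_inf {B B₁ B₂ : Subgroup Y} (h1 : B₁ ≤ B) (h2 : B₂ ≤ B)
    (hi : ∀ b ∈ B₁, b ∈ B₂ → b = 1) (hc : Nat.card B ≤ Nat.card B₁ * Nat.card B₂) {u : Y} (hu : u ∈ B) :
    ∃ b ∈ B₁, ∃ c ∈ B₂, u = b * c := by
  let f : B₁ × B₂ → B := fun p => ⟨p.1 * p.2, B.mul_mem (h1 p.1.2) (h2 p.2.2)⟩
  have hinj : Function.Injective f := by
    rintro ⟨⟨b, hb⟩, ⟨c, hc⟩⟩ ⟨⟨b', hb'⟩, ⟨c', hc'⟩⟩ h
    have h3 : b * c = b' * c' := congrArg Subtype.val h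
    have h4 : b'⁻¹ * b = c' * c⁻¹ := by
      rw [inv_mul_eq_iff_eq_mul, ← mul_assoc, ← h3, mul_assoc, mul_inv_cancel, mul_one]
    have h5 : b'⁻¹ * b = 1 := hi _ (B₁.mul_mem (B₁.inv_mem hb') hb) (by
      rw [h4]; exact B₂.mul_mem hc' (B₂.inv_mem hc))
    have h6 : b = b' := (inv_mul_eq_one.1 h5).symm
    subst h6
    have h7 : c = c' := mul_left_cancel h3
    subst h7
    rfl
  have hb := hinj.bijective_of_nat_card_le (by rw [Nat.card_prod]; exact hc)
  obtain ⟨⟨b, c⟩, hbc⟩ := hb.2 ⟨u, hu⟩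
  exact ⟨b, b.2, c, c.2, (congrArg Subtype.val hbc).symm⟩

/-- **(2)** `[W, B] ⊆ [W', B]` -/
theorem exists_of_comm (h : TwoN V U T M H H' R F k co co' t)
    {B : Subgroup Y} (hB : B ∈ U) (hBR : B ≤ R) {i i' : Fin k}
    (m : MB V U H H' R co B i) (m' : MB V U H' H R co' B i') {x : V} (hx : x ∈ WW V H R) {u : Y} (hu : u ∈ B) :
    ∃ y ∈ WW V H' R, ∃ s ∈ B, u • x + x = s • y + y := by
  have two := h.amb.two
  have hm := h.amb.cls.mem B hB
  by_cases hbb : ∃ b ∈ B ⊓ QQ H R, b ∈ QQ H' R ∧ b ≠ 1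
  · obtain ⟨b, hb, hb', hb1⟩ := hbb
    have h1 := m'.cent h.swap hB hBR ⟨hb.1, hb'⟩ hb1 (Amal.QQ_fix h.a h.amb hb.2 hx)
    rw [AddSubgroup.mem_sup] at h1
    obtain ⟨y, hy, f, hf, rfl⟩ := h1
    refine ⟨y, hy, u, hu, ?_⟩
    rw [smul_add, hf u hu]
    have e : u • y + f + (y + f) = u • y + y + (f + f) := by abel
    rw [e, two, add_zero]
  · push Not at hbb
    obtain ⟨b, hb, c, hc, rfl⟩ := exists_mul_of_inf (B₁ := B ⊓ QQ H R) (B₂ := B ⊓ QQ H' R) inf_le_left inf_le_left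
      (fun b hb hb' => hbb b hb hb'.2) (by rw [m.card, m.cardB, m'.cardB, pow_two]) hu
    obtain ⟨w, hw⟩ := hm.ne
    obtain ⟨s, hs, hsx⟩ := hm.surj w hw x (h.we B hB hBR hx)
    obtain ⟨y, hy, hcy⟩ := m'.shift c hc w hw
    refine ⟨y, hy, s, hs, ?_⟩
    rw [mul_smul, Amal.QQ_fix h.a h.amb hb.2 (smul_mem_WW (h.a.RH (hBR hc.1)) hx)]
    exact mem_sym hm two hs hc.1 hsx hcy

/-- **(2)** `I' ≤ W` -/
theorem II_le (h : TwoN V U T M H H' R F k co co' t) {a : ℕ} (w : World V U T M a)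
    (hD : DD V U H H' R co co') (hD' : DD V U H' H R co' co) : II V U H' R ≤ WW V H R := by
  refine (AddSubgroup.closure_le _).2 ?_
  rintro _ ⟨B, hB, hBR, b, hb, y, hy, rfl⟩
  by_cases hQ' : B ≤ QQ H' R
  · rw [Amal.QQ_fix h.a' h.amb (hQ' hb) hy, h.amb.two]
    exact zero_mem _
  · have hQ : ¬ B ≤ QQ H R := not_le_Q' h.swap w hD' hD hB hBR hQ'
    obtain ⟨i, m⟩ := mb h hD hD' hB hBR hQ
    obtain ⟨i', m'⟩ := mb h.swap hD' hD hB hBR hQ'
    obtain ⟨x, hx, s, hs, h1⟩ := exists_of_comm h.swap hB hBR m' m hy hb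
    rw [h1]
    exact add_mem (smul_mem_WW (h.a.RH (hBR hs)) hx) hx

theorem comm_mem_W (h : TwoN V U T M H H' R F k co co' t) {a : ℕ} (w : World V U T M a)
    (hD : DD V U H H' R co co') (hD' : DD V U H' H R co' co) {B : Subgroup Y} {i : Fin k}
    (m : MB V U H H' R co B i) {b : Y} (hb : b ∈ B ⊓ QQ H R) (v : V) : b • v + v ∈ WW V H R := by
  have h1 := m.cmem b hb v
  rwa [sup_eq_left.2 (II_le h w hD hD')] at h1

/-- **(4)** `B ∩ Q ∩ Q' = 1` -/
theorem inf_eq_bot (h : TwoN V U T M H H' R F k co co' t) {a : ℕ} (w : World V U T M a)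
    (hD : DD V U H H' R co co') (hD' : DD V U H' H R co' co) {B : Subgroup Y} (hB : B ∈ U) (hBR : B ≤ R)
    {i i' : Fin k} (m : MB V U H H' R co B i) (m' : MB V U H' H R co' B i') {b : Y} (hb : b ∈ B)
    (hbQ : b ∈ QQ H R) (hbQ' : b ∈ QQ H' R) : b = 1 := by
  have hm := h.amb.cls.mem B hB
  obtain ⟨v, hv⟩ := hm.ne
  have h1 := comm_mem_W h w hD hD' m ⟨hb, hbQ⟩ v
  have h2 := comm_mem_W h.swap w hD' hD m' ⟨hb, hbQ'⟩ v
  obtain ⟨x, hx, -, hfix, -⟩ := exists_elt h hD hD' i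
  apply hm.inj v hv b hb
  rw [member_fx_iff h.K h.amb h.a h.we hB hBR m.supp h1]
  intro l hl
  rw [Set.mem_singleton_iff] at hl
  rw [hl]
  exact (hfix _ h1).1 (Amal.QQ_fix h.a' h.amb hx h2)

theorem acts_pow {g : Y} (hg : g ∈ H) {A : Fin k → Matrix.SpecialLinearGroup (Fin 2) F}
    (hA : Acts V H R co g A) (n : ℕ) : Acts V H R co (g ^ n) (A ^ n) := by
  induction n with
  | zero => rw [pow_zero, pow_zero]; exact Acts.one
  | succ n ih => rw [pow_succ, pow_succ]; exact ih.mul hg hA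

theorem up_lo_ne {b : F} (hb : b ≠ 0) (hF : ∀ x : F, x + x = 0) {n : ℕ} (h : (up b * lo b⁻¹) ^ 2 ^ n = 1) : False := by
  have h2 : (1 : F) + 1 = 0 := hF 1
  have hbb : b * b⁻¹ = 1 := mul_inv_cancel₀ hb
  have hbb' : b⁻¹ * b = 1 := inv_mul_cancel₀ hb
  have e00 : ent (up b * lo b⁻¹) 0 0 = 0 := by
    rw [ent_mul, up_00, up_01, lo_00, lo_10, hbb, mul_one, h2]
  have e01 : ent (up b * lo b⁻¹) 0 1 = b := by
    rw [ent_mul, up_00, up_01, lo_01, lo_11, mul_zero, zero_add, mul_one]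
  have e10 : ent (up b * lo b⁻¹) 1 0 = b⁻¹ := by
    rw [ent_mul, up_10, up_11, lo_00, lo_10, zero_mul, zero_add, one_mul]
  have e11 : ent (up b * lo b⁻¹) 1 1 = 1 := by
    rw [ent_mul, up_10, up_11, lo_01, lo_11, zero_mul, zero_add, one_mul]
  have h3 : (up b * lo b⁻¹) ^ 3 = 1 := by
    set A := up b * lo b⁻¹ with hA
    apply ext_ent
    · rw [pow_succ, pow_two, ent_mul, ent_mul A A 0 0, ent_mul A A 0 1, e00, e01, e10, e11, ent_one_00]
      linear_combination hbb
    · rw [pow_succ, pow_two, ent_mul, ent_mul A A 0 0, ent_mul A A 0 1, e00, e01, e10, e11, ent_one_01]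
      linear_combination b * hbb + b * h2
    · rw [pow_succ, pow_two, ent_mul, ent_mul A A 1 0, ent_mul A A 1 1, e00, e01, e10, e11, ent_one_10]
      linear_combination b⁻¹ * hbb' + b⁻¹ * h2
    · rw [pow_succ, pow_two, ent_mul, ent_mul A A 1 0, ent_mul A A 1 1, e00, e01, e10, e11, ent_one_11]
      linear_combination 2 * hbb' + h2
  have h4 := pow_gcd_eq_one.2 ⟨h, h3⟩
  have h5 : Nat.gcd (2 ^ n) 3 = 1 := (Nat.Coprime.pow_left n (by decide : Nat.Coprime 2 3))
  rw [h5, pow_one] at h4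
  rw [h4, ent_one_00] at e00
  exact one_ne_zero e00

/-- an element of `B ∩ O₂(X)`, `B, B^g ≤ X`, is in `Q` -/
theorem mem_Q_of_o2 (h : TwoN V U T M H H' R F k co co' t) {B X : Subgroup Y} (hB : B ∈ U) (hBR : B ≤ R)
    {i : Fin k} (hS : Supp V H R co B {i}) {g : Y} (hg : g ∈ H) (hgA : Acts V H R co g fun _ => wm 1 one_ne_zero)
    (hX' : MulAut.conj g • B ≤ X) {u : Y} (hu : u ∈ B) (huX : u ∈ ZN.o2 X) : u ∈ QQ H R := by
  have two := h.amb.two
  have hm := h.amb.cls.mem B hB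
  obtain ⟨β, hβ0, hβ⟩ := hS.act u hu
  have hBH : B ≤ H := hBR.trans h.a.RH
  apply h.K.mem_Q_of_up_zero two h.a.RH (hBR hu) hβ
  intro l
  by_cases hl : l = i
  swap
  · exact hβ0 l (by simpa using hl)
  subst hl
  by_contra hne
  classical
  obtain ⟨v, hv, hvA⟩ := (hS.opp hg hgA hBH).full (Pi.single l (β l)⁻¹) fun m hm =>
    Pi.single_eq_of_ne (by simpa using hm) _
  have hvH : v ∈ H := by
    rw [mem_conj] at hv
    have h1 := H.mul_mem (H.mul_mem hg (hBH hv)) (H.inv_mem hg)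
    have e : g * (g⁻¹ * v * g) * g⁻¹ = v := by group
    rwa [e] at h1
  have huH := hBH hu
  have hvv : v * v = 1 := (h.amb.cls.mem _ (h.amb.cls.conj B hB g)).sq v hv
  have huu := hm.sq u hu
  -- `(u v)² ∈ O₂(X)`
  have h1 : (u * v) ^ 2 ∈ ZN.o2 X := by
    have h2 : v * u * v⁻¹ ∈ ZN.o2 X := by
      obtain ⟨z, hz, rfl⟩ := huX
      refine ⟨⟨v, hX' hv⟩ * z * ⟨v, hX' hv⟩⁻¹, ?_, rfl⟩
      exact (Cfsg.Agent.Lib.Cores.pCore_normal (G := X) 2).conj_mem z hz _
    have h3 := (ZN.o2 X).mul_mem huX h2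
    have e : u * (v * u * v⁻¹) = (u * v) ^ 2 := by
      rw [inv_eq_of_mul_eq_one_left hvv, pow_two]
      group
    rwa [e] at h3
  have h2 : ∃ n : ℕ, (u * v) ^ 2 ^ n = 1 := by
    obtain ⟨z, hz, hzz⟩ := h1
    obtain ⟨n, hn⟩ := (Cfsg.Agent.Lib.Cores.pCore_isPGroup (G := X) 2) ⟨z, hz⟩
    refine ⟨n + 1, ?_⟩
    have h2 : z ^ 2 ^ n = 1 := congrArg Subtype.val hn
    have h3 : ((u * v) ^ 2) ^ 2 ^ n = 1 := by
      rw [← hzz, ← map_pow, h2, map_one]
    rw [← pow_mul] at h3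
    rwa [pow_succ, mul_comm]
  obtain ⟨n, hn⟩ := h2
  have h3 := acts_pow (H.mul_mem huH hvH) (hβ.mul hvH hvA) (2 ^ n)
  rw [hn] at h3
  apply up_lo_ne hne (h.K.ff two l) (n := n)
  apply NatPair.ap_inj
  intro x
  obtain ⟨y, hy, hyx, -⟩ := h.K.exists_at l x
  have h4 := h3.1 y hy l
  rw [one_smul, hyx] at h4
  rw [NatPair.ap_one]
  refine Eq.trans ?_ h4.symm
  rw [Pi.pow_apply, Pi.mul_apply, Pi.single_eq_same]

/-- a member `B^g` (`g` acts as `w` on all blocks) fixes the vectors without `i`-component -/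
theorem opp_fix (h : TwoN V U T M H H' R F k co co' t) {B : Subgroup Y} (hB : B ∈ U) (hBR : B ≤ R)
    {i : Fin k} (hS : Supp V H R co B {i}) {g : Y} (hg : g ∈ H) (hgA : Acts V H R co g fun _ => wm 1 one_ne_zero)
    {d : V} (hd : d ∈ WW V H R) (h0 : co d i = 0) : d ∈ fx V (MulAut.conj g • B) := by
  rw [fx_conj, mem_smul_as, member_fx_iff h.K h.amb h.a h.we hB hBR hS (smul_mem_WW (H.inv_mem hg) hd)]
  intro l hl
  rw [Set.mem_singleton_iff] at hl
  subst hl
  have h1 := (hgA.inv hg).1 d hd l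
  rw [h1, h0]
  rw [NatPair.ap_one']
  simp

/-- **(5)** SOC for `X = ⟨B, B^g, B^g'⟩` -/
theorem kill_soc (h : TwoN V U T M H H' R F k co co' t) {a : ℕ} (w : World V U T M a) {B : Subgroup Y} (hB : B ∈ U)
    (hBR : B ≤ R) {i i' : Fin k} (hS : Supp V H R co B {i}) (hS' : Supp V H' R co' B {i'})
    (hbot : ∀ b ∈ B, b ∈ QQ H R → b ∈ QQ H' R → b = 1) {d : V} (hd0 : d ≠ 0) (hd : d ∈ WW V H R)
    (hd' : d ∈ WW V H' R) (hdi : co d i = 0) (hdi' : co' d i' = 0) : False := by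
  obtain ⟨g, hg, hgA⟩ := h.K.lift fun _ => wm 1 one_ne_zero
  obtain ⟨g', hg', hgA'⟩ := h.K'.lift fun _ => wm 1 one_ne_zero
  have hX1 : B ≤ B ⊔ MulAut.conj g • B ⊔ MulAut.conj g' • B := le_sup_left.trans le_sup_left
  have hX2 : MulAut.conj g • B ≤ B ⊔ MulAut.conj g • B ⊔ MulAut.conj g' • B := le_sup_right.trans le_sup_left
  have hX3 : MulAut.conj g' • B ≤ B ⊔ MulAut.conj g • B ⊔ MulAut.conj g' • B := le_sup_right
  have hdB : d ∈ fx V B := (member_fx_iff h.K h.amb h.a h.we hB hBR hS hd).2 fun l hl => by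
    rw [Set.mem_singleton_iff] at hl
    rw [hl, hdi]; rfl
  have h1 := opp_fix h hB hBR hS hg hgA hd hdi
  have h2 := opp_fix h.swap hB hBR hS' hg' hgA' hd' hdi'
  have hst : B ⊔ MulAut.conj g • B ⊔ MulAut.conj g' • B ≤ MulAction.stabilizer Y d :=
    sup_le (sup_le (fun x hx => hdB x hx) fun x hx => h1 x hx) fun x hx => h2 x hx
  apply w.soc B hB _ hX1 ⟨d, hd0, fun x hx => hst hx⟩
  rw [eq_bot_iff]
  rintro u ⟨hu, huX⟩
  rw [mem_bot]
  exact hbot u hu (mem_Q_of_o2 h hB hBR hS hg hgA hX2 hu huX)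
    (mem_Q_of_o2 h.swap hB hBR hS' hg' hgA' hX3 hu huX)

/-- **(L2) of bb OMEGA 20646**: case (d) on both sides is impossible for `k ≥ 2` -/
theorem lTwo' (h : TwoN V U T M H H' R F k co co' t) {a : ℕ} (w : World V U T M a) (hk : 2 ≤ k)
    (hD : DD V U H H' R co co') (hD' : DD V U H' H R co' co) : False := by
  have two := h.amb.two
  obtain ⟨B, hB, hBR, hBQ⟩ := Amal.exists_not_QQ h.a h.amb
  have hBQ' := not_le_Q' h w hD hD' hB hBR hBQ
  obtain ⟨i, m⟩ := mb h hD hD' hB hBR hBQ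
  obtain ⟨i', m'⟩ := mb h.swap hD' hD hB hBR hBQ'
  have : Nontrivial (Fin k) := Fin.nontrivial_iff_two_le.2 hk
  obtain ⟨l, hl⟩ := exists_ne i
  obtain ⟨C, hC, hCR, hCQ, hSC⟩ := exists_single_member h.K h.amb h.a h.we hD l
  have hCQ' := not_le_Q' h w hD hD' hC hCR hCQ
  obtain ⟨l₁, n⟩ := mb h hD hD' hC hCR hCQ
  obtain ⟨l', n'⟩ := mb h.swap hD' hD hC hCR hCQ'
  classical
  obtain ⟨u, hu, huA⟩ := hSC.full (Pi.single l 1) fun j hj => Pi.single_eq_of_ne (by simpa using hj) _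
  obtain ⟨x, hx, hxl, hx0⟩ := h.K.exists_at l ![0, 1]
  have huH := h.a.RH (hCR hu)
  have hdW : u • x + x ∈ WW V H R := add_mem (smul_mem_WW huH hx) hx
  have hd1 : co (u • x + x) l 0 = 1 := by
    rw [h.K.add_apply (smul_mem_WW huH hx) hx, huA.up_fst hx, hxl, Pi.single_eq_same]
    simp
  have hdj : ∀ {B : Subgroup Y} {i : Fin k} {u : Y} {x : V}, B ≤ R → Supp V H R co B {i} → u ∈ B → x ∈ WW V H R →
      ∀ j, j ≠ i → co (u • x + x) j = 0 := by
    intro B i u x hBR hS hu hx j hj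
    obtain ⟨β, hβ0, hβ⟩ := hS.act u hu
    have huH := h.a.RH (hBR hu)
    have h1 := hβ.1 x hx j
    simp only [hβ0 j (by simpa using hj), up_zero, NatPair.ap_one] at h1
    rw [h.K.add _ (smul_mem_WW huH hx) _ hx, Pi.add_apply, h1]
    funext e
    exact h.K.ff two j _
  have hdj' : ∀ {B : Subgroup Y} {i : Fin k} {u : Y} {x : V}, B ≤ R → Supp V H' R co' B {i} → u ∈ B → x ∈ WW V H' R →
      ∀ j, j ≠ i → co' (u • x + x) j = 0 := by
    intro B i u x hBR hS hu hx j hj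
    obtain ⟨β, hβ0, hβ⟩ := hS.act u hu
    have huH := h.a'.RH (hBR hu)
    have h1 := hβ.1 x hx j
    simp only [hβ0 j (by simpa using hj), up_zero, NatPair.ap_one] at h1
    rw [h.K'.add _ (smul_mem_WW huH hx) _ hx, Pi.add_apply, h1]
    funext e
    exact h.K'.ff two j _
  obtain ⟨y, hy, s, hs, hsy⟩ := exists_of_comm h hC hCR n n' hx hu
  have hne : l' ≠ i' := by
    rintro rfl
    obtain ⟨β, hβ0, hβ⟩ := n'.supp.act s hs
    obtain ⟨s', hs', hβ'⟩ := m'.supp.full β hβ0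
    have h1 : s • y = s' • y := eq_of_up h.K' two (h.a'.RH (hCR hs)) (h.a'.RH (hBR hs'))
      ((h.amb.cls.mem B hB).sq s' hs') hβ hβ' hy
    obtain ⟨z, hz, r, hr, hrz⟩ := exists_of_comm h.swap hB hBR m' m hy hs'
    have h2 := hdj hBR m.supp hr hz l hl
    rw [← hrz, ← h1, ← hsy] at h2
    rw [h2] at hd1
    exact zero_ne_one hd1
  refine kill_soc h w hB hBR m.supp m'.supp (fun b hb h1 h2 => inf_eq_bot h w hD hD' hB hBR m m' hb h1 h2)
    (d := u • x + x) ?_ hdW ?_ (hdj hCR hSC hu hx i hl.symm) ?_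
  · intro h0
    rw [h0, h.K.zero] at hd1
    exact zero_ne_one hd1
  · rw [hsy]
    exact add_mem (smul_mem_WW (h.a'.RH (hCR hs)) hy) hy
  · rw [hsy]
    exact hdj' hCR n'.supp hs hy i' hne.symm

end one

end Cfsg.Agent.Omega.NO1.TH.K.L2K

namespace Cfsg.Agent.Omega.NO1.TH.K

universe v

/-- **(L2) of bb OMEGA 20646**: case (d) on both sides is impossible for `k ≥ 2` -/
theorem lTwo {Y V : Type v} [Group Y] [AddCommGroup V] [DistribMulAction Y V] [Finite Y] [Finite V]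
    {U : Set (Subgroup Y)} {T : Sylow 2 Y} {M H H' R : Subgroup Y} {t : Y} {F : Type} [Field F] [Finite F] {k : ℕ}
    {co co' : V → Fin k → Fin 2 → F} (h : TwoN V U T M H H' R F k co co' t) {a : ℕ} (w : World V U T M a)
    (hk : 2 ≤ k) (hD : DD V U H H' R co co') (hD' : DD V U H' H R co' co) : False :=
  L2K.lTwo' h w hk hD hD'

end Cfsg.Agent.Omega.NO1.TH.K

end
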