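import Cfsg.Agent.Mrg.Omega.NO1.TH.K.ZedN
import Cfsg.Agent.Mrg.Omega.NO1.TH.K.Root
import Cfsg.Agent.Mrg.Omega.NO1.TH.PlusFin


/-!
# N1, natural type with `k ≥ 2` factors: impossible (bb OMEGA 20646, 20937, 21480)

* `TwoN.false` : for an opposite member `A`, `W' ≤ E_A` is impossible by (L1), `W' ≰ E_A` by (L2);
* `sockNat` : the socket of `Chain.lean`.
-/

set_option autoImplicit false
set_option linter.unusedSectionVars false
set_option linter.dupNamespace false

namespace Cfsg.Agent.Omega.NO1.TH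

open Subgroup Cfsg.Agent.Omega.NO1.AB Cfsg.Agent.Omega.FFBr Cfsg.Agent.Lib.SL2Mat
open scoped Pointwise

universe u

namespace K

/-- **natural type, `k ≥ 2`, is impossible** -/
theorem TwoN.false {Y V : Type u} [Group Y] [AddCommGroup V] [DistribMulAction Y V] [Finite Y] [Finite V]
    {U : Set (Subgroup Y)} {T : Sylow 2 Y} {M H H' R : Subgroup Y} {t : Y} {F : Type} [Field F] [Finite F]
    [CharP F 2] {k : ℕ} {co co' : V → _root_.Fin k → _root_.Fin 2 → F} (h : TwoN V U T M H H' R F k co co' t) {a : ℕ}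
    (w : World V U T M a) (hk : 2 ≤ k) : False := by
  obtain ⟨B, hB, hBR, hBQ⟩ := Amal.exists_not_QQ h.a h.amb
  obtain ⟨I, hI, hS⟩ := exists_supp h.K h.amb h.a h.we hB hBR hBQ
  have hBH := hBR.trans h.a.RH
  obtain ⟨g, hg, -, hO⟩ := exists_opp h.K hBH hS
  have hA := h.amb.cls.conj B hB g
  have hAH : MulAut.conj g • B ≤ H := by
    intro x hx
    rw [mem_conj] at hx
    have h1 := H.mul_mem (H.mul_mem hg (hBH hx)) (H.inv_mem hg)
    have e : g * (g⁻¹ * x * g) * g⁻¹ = x := by group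
    rwa [e] at h1
  have hc := h.d_all hA hAH (hO.not_le h.K h.amb h.a hAH hI) hO (h.not_le_Ee hA hAH hI hO)
  refine lTwo h w hk (fun B hB hBR hBQ g hg hgA => ?_) fun B hB hBR hBQ g hg hgA => ?_
  · obtain ⟨h1, i, j, s1, -, s3, s4, s5, s6, s7, s8⟩ := h.d_out hc hB hBR hBQ hg hgA
    exact ⟨h1, i, j, ⟨s1, s3, s4, s5, s6, s7, s8⟩⟩
  · obtain ⟨h1, i, j, s1, -, s3, s4, s5, s6, s7, s8⟩ := h.swap.d_out hc hB hBR hBQ hg hgA
    exact ⟨h1, i, j, ⟨s1, s3, s4, s5, s6, s7, s8⟩⟩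

end K

/-- the socket, for any conclusion -/
theorem sockNat_any (Out : OutT.{u}) : SockNat Out := by
  intro Y V _ _ _ _ _ U T M a w H R t am we P M₁ hAbs hP hno F _ _ _ k hk N
  obtain ⟨co, h⟩ := K.exists_twoN w.toAmb am we hAbs hP hno N
  exact (h.false w hk).elim

/-- **the socket `SockNat`** -/
theorem sockNat : SockNat OutF.{u} := sockNat_any _

end Cfsg.Agent.Omega.NO1.TH
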