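import Cfsg.Agent.Mrg.Omega.NO1.TH.Fact
import Cfsg.Agent.Mrg.Omega.NO1.AB.Beta

section


/-!
# N1, natural type, `k` factors: supports and opposite members (bb OMEGA 20646 (a), (c))

`Supp B I` : `B` acts on `W` as the product of the root groups `R_i`, `i ∈ I`;  `Opp B I` : as the product of the
opposite root groups.  For a member `B ≤ R`, `B ≰ Q`: `exists_supp`, `Supp.fx_iff`, `Supp.card`; `exists_opp`.
`mem_Q_of_shift` : (a) of #20646.
-/

set_option autoImplicit false
set_option linter.unusedSectionVars false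
set_option linter.dupNamespace false

namespace Cfsg.Agent.Omega.NO1.TH.K

open Subgroup Cfsg.Agent.Omega.NO1.AB Cfsg.Agent.Omega.FFBr Cfsg.Agent.Lib.SL2Mat
open Cfsg.Agent.Omega.NatPair (ap)
open scoped Pointwise

universe u

theorem ap_up {F : Type} [Field F] (b : F) (x : Fin 2 → F) : ap (up b) x = ![x 0 + b * x 1, x 1] := by
  apply NatPair.ext2
  · rw [NatPair.ap_zero', up_00, up_01, one_mul]; rfl
  · rw [NatPair.ap_one', up_10, up_11, zero_mul, zero_add, one_mul]; rfl

theorem ap_lo {F : Type} [Field F] (b : F) (x : Fin 2 → F) : ap (lo b) x = ![x 0, b * x 0 + x 1] := by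
  apply NatPair.ext2
  · rw [NatPair.ap_zero', lo_00, lo_01, zero_mul, add_zero, one_mul]; rfl
  · rw [NatPair.ap_one', lo_10, lo_11, one_mul]; rfl

variable {Y : Type u} [Group Y] {V : Type u} [AddCommGroup V] [DistribMulAction Y V]

section coords

variable {H R : Subgroup Y} {F : Type} [Field F] {k : ℕ} {co : V → Fin k → Fin 2 → F}

/-- `B` acts on `W` as the full product of the root groups `R_i`, `i ∈ I` -/
structure Supp (V : Type u) [AddCommGroup V] [DistribMulAction Y V] (H R : Subgroup Y) {F : Type} [Field F] {k : ℕ}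
    (co : V → Fin k → Fin 2 → F) (B : Subgroup Y) (I : Set (Fin k)) : Prop where
  act : ∀ u ∈ B, ∃ b : Fin k → F, (∀ i, i ∉ I → b i = 0) ∧ Acts V H R co u fun i => up (b i)
  full : ∀ b : Fin k → F, (∀ i, i ∉ I → b i = 0) → ∃ u ∈ B, Acts V H R co u fun i => up (b i)

/-- `B` acts on `W` as the full product of the opposite root groups, `i ∈ I` -/
structure Opp (V : Type u) [AddCommGroup V] [DistribMulAction Y V] (H R : Subgroup Y) {F : Type} [Field F] {k : ℕ}
    (co : V → Fin k → Fin 2 → F) (B : Subgroup Y) (I : Set (Fin k)) : Prop where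
  act : ∀ u ∈ B, ∃ b : Fin k → F, (∀ i, i ∉ I → b i = 0) ∧ Acts V H R co u fun i => lo (b i)
  full : ∀ b : Fin k → F, (∀ i, i ∉ I → b i = 0) → ∃ u ∈ B, Acts V H R co u fun i => lo (b i)

theorem Acts.up_fst {g : Y} {b : Fin k → F} (h : Acts V H R co g fun i => up (b i)) {v : V} (hv : v ∈ WW V H R)
    (i : Fin k) : co (g • v) i 0 = co v i 0 + b i * co v i 1 := by
  rw [h.1 v hv i, ap_up]; rfl

theorem Acts.up_snd {g : Y} {b : Fin k → F} (h : Acts V H R co g fun i => up (b i)) {v : V} (hv : v ∈ WW V H R)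
    (i : Fin k) : co (g • v) i 1 = co v i 1 := by
  rw [h.1 v hv i, ap_up]; rfl

theorem Acts.lo_fst {g : Y} {b : Fin k → F} (h : Acts V H R co g fun i => lo (b i)) {v : V} (hv : v ∈ WW V H R)
    (i : Fin k) : co (g • v) i 0 = co v i 0 := by
  rw [h.1 v hv i, ap_lo]; rfl

theorem Acts.lo_snd {g : Y} {b : Fin k → F} (h : Acts V H R co g fun i => lo (b i)) {v : V} (hv : v ∈ WW V H R)
    (i : Fin k) : co (g • v) i 1 = b i * co v i 0 + co v i 1 := by
  rw [h.1 v hv i, ap_lo]; rfl

theorem Acts.up_mul {g h : Y} {b c : Fin k → F} (hh : h ∈ H) (h1 : Acts V H R co g fun i => up (b i))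
    (h2 : Acts V H R co h fun i => up (c i)) : Acts V H R co (g * h) fun i => up (b i + c i) := by
  have h3 := h1.mul hh h2
  have e : ((fun i => up (b i)) * fun i => up (c i)) = fun i => up (b i + c i) := by
    funext i
    exact Cfsg.Agent.Lib.SL2Mat.up_mul _ _
  rwa [e] at h3

namespace KNat

variable (K : KNat V H R F k co)
include K

theorem zero : co 0 = 0 := by
  have h := K.add 0 (zero_mem _) 0 (zero_mem _)
  rw [add_zero] at h
  exact left_eq_add.1 h

theorem add_apply {v w : V} (hv : v ∈ WW V H R) (hw : w ∈ WW V H R) (i : Fin k) (j : Fin 2) :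
    co (v + w) i j = co v i j + co w i j := by
  rw [K.add v hv w hw]; rfl

theorem neg {v : V} (hv : v ∈ WW V H R) : co (-v) = - co v := by
  have h := K.add v hv (-v) (neg_mem hv)
  rw [add_neg_cancel, K.zero] at h
  exact (neg_eq_of_add_eq_zero_right h.symm).symm

theorem exists_at (i : Fin k) (x : Fin 2 → F) : ∃ v ∈ WW V H R, co v i = x ∧ ∀ j, j ≠ i → co v j = 0 := by
  obtain ⟨v, hv, h⟩ := K.surj (Function.update 0 i x)
  refine ⟨v, hv, ?_, fun j hj => ?_⟩
  · rw [h, Function.update_self]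
  · rw [h, Function.update_of_ne hj]; rfl

theorem up_inj {g : Y} {b c : Fin k → F} (h1 : Acts V H R co g fun i => up (b i))
    (h2 : Acts V H R co g fun i => up (c i)) : b = c := by
  funext i
  obtain ⟨v, hv, hvi, _⟩ := K.exists_at i ![0, 1]
  have h3 := h1.up_fst hv i
  rw [h2.up_fst hv i, hvi] at h3
  simpa using h3.symm

theorem ff (two : ∀ v : V, v + v = 0) (i : Fin k) (x : F) : x + x = 0 := by
  obtain ⟨v, hv, hvi, _⟩ := K.exists_at i ![x, 0]
  have h := K.add_apply hv hv i 0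
  rw [two, K.zero, hvi] at h
  simpa using h.symm

theorem co_add_self (two : ∀ v : V, v + v = 0) {v w : V} (hv : v ∈ WW V H R) (hw : w ∈ WW V H R)
    (h : co v = co w) : co (v + w) = 0 := by
  rw [K.add v hv w hw, h, ← K.add w hw w hw, two, K.zero]

theorem co_eq_of_add (two : ∀ v : V, v + v = 0) {v w : V} (hv : v ∈ WW V H R) (hw : w ∈ WW V H R)
    (h : co (v + w) = 0) : co v = co w := by
  have h1 := K.add (v + w) (add_mem hv hw) w hw
  rw [add_assoc, two, add_zero, h, zero_add] at h1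
  exact h1

/-- an element of `H` acting as `1` is trivial on `W` -/
theorem fix_of_one {x : Y} (h : Acts V H R co x fun _ => 1) (hx : x ∈ H) {w : V} (hw : w ∈ WW V H R) : x • w = w := by
  apply K.trivH x hx _ w hw
  intro w hw
  funext i
  rw [h.1 w hw i, NatPair.ap_one]

theorem mem_Q_of_up_zero (two : ∀ v : V, v + v = 0) (hRH : R ≤ H) {x : Y} (hx : x ∈ R) {b : Fin k → F}
    (h : Acts V H R co x fun i => up (b i)) (hb : ∀ i, b i = 0) : x ∈ QQ H R := by
  apply K.triv x hx
  intro w hw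
  apply K.co_add_self two (smul_mem_WW (hRH hx) hw) hw
  funext i
  rw [h.1 w hw i]
  simp only [hb, up_zero, NatPair.ap_one]

/-- `A ≤ R` elementary abelian and exact: `A` has a support -/
theorem exists_supp_of (two : ∀ v : V, v + v = 0) (hRH : R ≤ H) {A : Subgroup Y} (hAR : A ≤ R) (hel : ElAb A)
    (hAQ : ¬ A ≤ QQ H R)
    (hex : Nat.card ↥(A ⊓ QQ H R) * Nat.card ↥(WW V H R) ≤ Nat.card A * Nat.card ↥(fx V A ⊓ WW V H R)) :
    ∃ I : Set (Fin k), I.Nonempty ∧ Supp V H R co A I := by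
  obtain ⟨I, h1, h2⟩ := K.off A hAR hel hAQ hex
  refine ⟨I, ?_, ⟨h1, h2⟩⟩
  by_contra hI
  rw [Set.not_nonempty_iff_eq_empty] at hI
  subst hI
  apply hAQ
  intro x hx
  obtain ⟨b, hb, hbx⟩ := h1 x hx
  exact K.mem_Q_of_up_zero two hRH (hAR hx) hbx fun i => hb i (by simp)

/-- `D₀ ∩ C(R) ≤ C(H)` -/
theorem D_fix (hRH : R ≤ H) {w : V} (hw : w ∈ WW V H R) (h0 : co w = 0) (hR : ∀ r ∈ R, r • w = w) :
    ∀ x ∈ H, x • w = w := by
  have h1 := K.gen (H ⊓ MulAction.stabilizer Y w) (le_inf hRH fun r hr => hR r hr) inf_le_left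
    fun h hh A hA => ⟨hh, hA.2 w hw h0⟩
  intro x hx
  rw [← h1] at hx
  exact hx.2

end KNat

/-- the cut by the second coordinates in `I` -/
def cut (K : KNat V H R F k co) (I : Set (Fin k)) (j : Fin 2) : AddSubgroup V where
  carrier := {w | w ∈ WW V H R ∧ ∀ i ∈ I, co w i j = 0}
  add_mem' := fun {v w} hv hw => ⟨add_mem hv.1 hw.1, fun i hi => by
    rw [K.add_apply hv.1 hw.1, hv.2 i hi, hw.2 i hi, add_zero]⟩
  zero_mem' := ⟨zero_mem _, fun i _ => by rw [K.zero]; rfl⟩
  neg_mem' := fun {v} hv => ⟨neg_mem hv.1, fun i hi => by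
    rw [K.neg hv.1]
    change -(co v i j) = 0
    rw [hv.2 i hi, neg_zero]⟩

theorem mem_cut {K : KNat V H R F k co} {I : Set (Fin k)} {j : Fin 2} {w : V} :
    w ∈ cut K I j ↔ w ∈ WW V H R ∧ ∀ i ∈ I, co w i j = 0 := Iff.rfl

theorem card_cut [Finite V] (K : KNat V H R F k co) (I : Set (Fin k)) (j : Fin 2) :
    Nat.card ↥(WW V H R) = Nat.card ↥(cut K I j) * Nat.card (I → F) := by
  let f : ↥(WW V H R) →+ (I → F) :=
    { toFun := fun w i => co w i j
      map_zero' := by
        funext i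
        change co (0 : V) i j = 0
        rw [K.zero]; rfl
      map_add' := fun v w => by
        funext i
        exact K.add_apply v.2 w.2 i j }
  have hs : Function.Surjective f := by
    intro x
    classical
    obtain ⟨v, hv, h⟩ := K.surj fun i _ => if h : i ∈ I then x ⟨i, h⟩ else 0
    refine ⟨⟨v, hv⟩, ?_⟩
    funext i
    change co v i j = x i
    rw [h]
    exact dif_pos i.2
  have h1 := f.ker.card_mul_index
  rw [AddSubgroup.index_ker, AddMonoidHom.range_eq_top.2 hs] at h1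
  have h2 : Nat.card f.ker = Nat.card ↥(cut K I j) := by
    refine Nat.card_congr
      { toFun := fun w => ⟨w.1, w.1.2, fun i hi => congrFun (show f w.1 = 0 from w.2) ⟨i, hi⟩⟩
        invFun := fun w => ⟨⟨w.1, w.2.1⟩, ?_⟩
        left_inv := fun w => rfl
        right_inv := fun w => rfl }
    change f ⟨w.1, w.2.1⟩ = 0
    funext i
    exact w.2.2 i i.2
  rw [← h1, h2]
  congr 1
  exact (Nat.card_congr (AddSubgroup.topEquiv (G := I → F)).toEquiv)

/-- `|A| = |A ∩ Q| |F|^|I|` -/
theorem Supp.card [Finite Y] [Finite V] (K : KNat V H R F k co) (two : ∀ v : V, v + v = 0) (hRH : R ≤ H)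
    (hQ : ∀ q ∈ QQ H R, ∀ w ∈ WW V H R, q • w = w) {A : Subgroup Y} {I : Set (Fin k)} (hAR : A ≤ R)
    (hS : Supp V H R co A I) : Nat.card A = Nat.card ↥(A ⊓ QQ H R) * Nat.card (I → F) := by
  choose! β hβ0 hβ using hS.act
  let f : A →* Multiplicative (I → F) :=
    { toFun := fun u => Multiplicative.ofAdd fun i => β u i
      map_one' := by
        have h1 : β ((1 : A) : Y) = 0 := K.up_inj (hβ _ (1 : A).2) (by
          refine ⟨fun v _ i => ?_, fun d _ _ => one_smul Y d⟩
          change co ((1 : Y) • v) i = ap (up ((0 : Fin k → F) i)) (co v i)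
          rw [one_smul, Pi.zero_apply, up_zero, NatPair.ap_one])
        apply congrArg Multiplicative.ofAdd
        funext i
        rw [h1]; rfl
      map_mul' := fun x y => by
        have h1 : β ((x * y : A) : Y) = fun i => β x i + β y i :=
          K.up_inj (hβ _ (x * y).2) ((hβ _ x.2).up_mul (hRH (hAR y.2)) (hβ _ y.2))
        apply congrArg Multiplicative.ofAdd
        funext i
        rw [h1]; rfl }
  have hs : Function.Surjective f := by
    intro x
    classical
    obtain ⟨u, hu, h⟩ := hS.full (fun i => if h : i ∈ I then Multiplicative.toAdd x ⟨i, h⟩ else 0)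
      fun i hi => dif_neg hi
    refine ⟨⟨u, hu⟩, ?_⟩
    apply Multiplicative.toAdd.injective
    funext i
    change β u i = _
    rw [K.up_inj (hβ u hu) h]
    exact dif_pos i.2
  have h2 : f.ker.map A.subtype = A ⊓ QQ H R := by
    ext x
    constructor
    · rintro ⟨u, hu, rfl⟩
      refine ⟨u.2, ?_⟩
      have h3 : f u = 1 := hu
      apply K.mem_Q_of_up_zero two hRH (hAR u.2) (hβ _ u.2)
      intro i
      by_cases hi : i ∈ I
      · exact congrFun (congrArg Multiplicative.toAdd h3) ⟨i, hi⟩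
      · exact hβ0 u u.2 i hi
    · rintro ⟨h3, h4⟩
      refine ⟨⟨x, h3⟩, ?_, rfl⟩
      have h5 : β x = 0 := K.up_inj (hβ x h3) (by
          refine ⟨fun v hv i => ?_, fun d hd _ => hQ x h4 d hd⟩
          change co (x • v) i = ap (up ((0 : Fin k → F) i)) (co v i)
          rw [hQ x h4 v hv, Pi.zero_apply, up_zero, NatPair.ap_one])
      change f ⟨x, h3⟩ = 1
      apply Multiplicative.toAdd.injective
      funext i
      change β x i = 0
      rw [h5]; rfl
  rw [← h2, Nat.card_congr (f.ker.equivMapOfInjective _ A.subtype_injective).symm.toEquiv]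
  have h3 := f.ker.card_mul_index
  rw [index_ker, MonoidHom.range_eq_top.2 hs] at h3
  rw [← h3]
  congr 1
  exact Nat.card_congr ((Subgroup.topEquiv (G := Multiplicative (I → F))).toEquiv.trans Multiplicative.toAdd)

/-- `C_W(A)` for `A` with support `I` and exact -/
theorem Supp.fx_iff [Finite Y] [Finite V] [Finite F] (K : KNat V H R F k co) (two : ∀ v : V, v + v = 0) (hRH : R ≤ H)
    (hQ : ∀ q ∈ QQ H R, ∀ w ∈ WW V H R, q • w = w) {A : Subgroup Y} {I : Set (Fin k)} (hAR : A ≤ R)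
    (hS : Supp V H R co A I)
    (hex : Nat.card ↥(A ⊓ QQ H R) * Nat.card ↥(WW V H R) ≤ Nat.card A * Nat.card ↥(fx V A ⊓ WW V H R)) {w : V}
    (hw : w ∈ WW V H R) : w ∈ fx V A ↔ ∀ i ∈ I, co w i 1 = 0 := by
  have h1 : fx V A ⊓ WW V H R ≤ cut K I 1 := by
    rintro v ⟨h2, h3⟩
    refine ⟨h3, fun i hi => ?_⟩
    classical
    obtain ⟨u, hu, h4⟩ := hS.full (Pi.single i 1) fun j hj => by
      rw [Pi.single_eq_of_ne]
      rintro rfl
      exact hj hi
    have h5 := h4.up_fst h3 i
    rw [h2 u hu, Pi.single_eq_same, one_mul] at h5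
    exact left_eq_add.1 h5
  have h2 : fx V A ⊓ WW V H R = cut K I 1 := by
    apply eq_of_le_as h1
    have h3 := card_cut K I 1
    have h4 := hS.card K two hRH hQ hAR
    rw [h3, h4] at hex
    have h5 : 0 < Nat.card ↥(A ⊓ QQ H R) := Nat.card_pos
    have h6 : 0 < Nat.card (I → F) := Nat.card_pos
    apply Nat.le_of_mul_le_mul_left _ (Nat.mul_pos h5 h6)
    calc _ = Nat.card ↥(A ⊓ QQ H R) * (Nat.card ↥(cut K I 1) * Nat.card (I → F)) := by ring
      _ ≤ _ := hex
      _ = _ := by ring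
  constructor
  · intro h3
    exact (h1 ⟨h3, hw⟩).2
  · intro h3
    have h4 : w ∈ cut K I 1 := ⟨hw, h3⟩
    rw [← h2] at h4
    exact h4.1

/-! ### (a) : `s_x ∈ Q` -/

theorem shift_mul (two : ∀ v : V, v + v = 0) {B : Subgroup Y} (hm : Mem B (Ee V B) (fx V B)) {w x y : V} {s s' : Y}
    (hs : s ∈ B) (hs' : s' ∈ B) (h1 : s • w + w + x ∈ fx V B) (h2 : s' • w + w + y ∈ fx V B) :
    (s * s') • w + w + (x + y) ∈ fx V B := by
  have h3 : s • (s' • w + w) + (s' • w + w) ∈ fx V B := hm.EB s hs _ (hm.VB s' hs' w)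
  have e : (s * s') • w + w + (x + y) =
      (s • (s' • w + w) + (s' • w + w)) + (s • w + w + x) + (s' • w + w + y) := by
    rw [mul_smul, smul_add]
    have e1 : s • s' • w + s • w + (s' • w + w) + (s • w + w + x) + (s' • w + w + y) =
        s • s' • w + w + (x + y) + (s • w + s • w) + (s' • w + s' • w) + (w + w) := by abel
    rw [e1, two, two, two, add_zero, add_zero, add_zero]
  rw [e]
  exact add_mem (add_mem h3 h1) h2

theorem shift_R (K : KNat V H R F k co) (two : ∀ v : V, v + v = 0) (hRH : R ≤ H) {B : Subgroup Y}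
    (hm : Mem B (Ee V B) (fx V B)) (hBR : B ≤ R) {I : Set (Fin k)} (hS : Supp V H R co B I)
    (hW : WW V H R ≤ Ee V B) {w x : V} (hw : w ∉ Ee V B) (hx : x ∈ WW V H R) {s : Y} (hs : s ∈ B)
    (h1 : s • w + w + x ∈ fx V B) : s ∈ QQ H R := by
  obtain ⟨b, hb0, hb⟩ := hS.act s hs
  apply K.mem_Q_of_up_zero two hRH (hBR hs) hb
  -- the key: `x_{i1} ≠ 0` implies `b_i = 0`
  have key : ∀ {x : V} {s : Y} {b : Fin k → F}, x ∈ WW V H R → s ∈ B → s • w + w + x ∈ fx V B →
      (Acts V H R co s fun i => up (b i)) → ∀ i, co x i 1 ≠ 0 → b i = 0 := by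
    intro x s b hx hs h1 hb i hi
    have h2 := Amal.smul_self_of hm hs h1
    have h3 := hb.up_fst hx i
    rw [h2] at h3
    rcases mul_eq_zero.1 (left_eq_add.1 h3) with h4 | h4
    · exact h4
    · exact absurd h4 hi
  intro i
  by_cases hi : co x i 1 = 0
  · obtain ⟨y, hy, hyi, _⟩ := K.exists_at i ![0, 1]
    have hy1 : co y i 1 ≠ 0 := by
      rw [hyi]
      change (1 : F) ≠ 0
      exact one_ne_zero
    obtain ⟨s', hs', h2⟩ := hm.surj w hw y (hW hy)
    obtain ⟨b', hb0', hb'⟩ := hS.act s' hs'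
    have h3 := key hy hs' h2 hb' i hy1
    have h4 := key (add_mem hx hy) (B.mul_mem hs hs') (shift_mul two hm hs hs' h1 h2)
      (hb.up_mul (hRH (hBR hs')) hb') i (by
        rw [K.add_apply hx hy, hi, zero_add]
        exact hy1)
    rw [h3, add_zero] at h4
    exact h4
  · exact key hx hs h1 hb i hi

/-! ### Opposite members -/

theorem Acts.inv {h : Y} {A : Fin k → Matrix.SpecialLinearGroup (Fin 2) F} (hh : h ∈ H)
    (hA : Acts V H R co h A) : Acts V H R co h⁻¹ fun i => (A i)⁻¹ := by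
  refine ⟨fun v hv i => ?_, fun d hd h0 => ?_⟩
  · have h1 := hA.1 _ (smul_mem_WW (H.inv_mem hh) hv) i
    rw [smul_inv_smul] at h1
    rw [h1, NatPair.ap_inv_ap]
  · rw [inv_smul_eq_iff, hA.2 d hd h0]

theorem wm_up_wm (b : F) : wm (1 : F) one_ne_zero * up (-b) * (wm (1 : F) one_ne_zero)⁻¹ = lo b := by
  rw [wm_up, one_pow, div_one, neg_neg, mul_inv_cancel_right]

theorem Supp.opp {h : Y} (hh : h ∈ H) (hA : Acts V H R co h fun _ => wm 1 one_ne_zero) {B : Subgroup Y}
    (hBH : B ≤ H) {I : Set (Fin k)} (hS : Supp V H R co B I) : Opp V H R co (MulAut.conj h • B) I := by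
  have key : ∀ {u : Y} {b : Fin k → F}, u ∈ H → (Acts V H R co u fun i => up (b i)) →
      Acts V H R co (h * u * h⁻¹) fun i => lo (-b i) := by
    intro u b hu hb
    have h1 := (hA.mul hu hb).mul (H.inv_mem hh) (hA.inv hh)
    have e : (((fun _ => wm (1 : F) one_ne_zero) * fun i => up (b i)) * fun i : Fin k => (wm (1 : F) one_ne_zero)⁻¹) =
        fun i => lo (-b i) := by
      funext i
      rw [← wm_up_wm (-b i), neg_neg]
      rfl
    rwa [e] at h1
  refine ⟨fun u hu => ?_, fun b hb => ?_⟩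
  · rw [mem_conj] at hu
    obtain ⟨b, hb0, hb⟩ := hS.act _ hu
    refine ⟨fun i => -b i, fun i hi => by rw [neg_eq_zero, hb0 i hi], ?_⟩
    have h1 := key (hBH hu) hb
    have e : h * (h⁻¹ * u * h) * h⁻¹ = u := by group
    rwa [e] at h1
  · obtain ⟨u, hu, hub⟩ := hS.full (fun i => -b i) fun i hi => by rw [neg_eq_zero, hb i hi]
    refine ⟨h * u * h⁻¹, conj_mem_conj hu, ?_⟩
    have h1 := key (hBH hu) hub
    simp only [neg_neg] at h1
    exact h1

/-- `C_W(U₁) ⊆ {w_{i0} = 0}` -/
theorem Opp.fx_le {B : Subgroup Y} {I : Set (Fin k)} (hO : Opp V H R co B I) {w : V} (hw : w ∈ WW V H R)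
    (hf : w ∈ fx V B) {i : Fin k} (hi : i ∈ I) : co w i 0 = 0 := by
  classical
  obtain ⟨u, hu, h4⟩ := hO.full (Pi.single i 1) fun j hj => by
    rw [Pi.single_eq_of_ne]
    rintro rfl
    exact hj hi
  have h5 := h4.lo_snd hw i
  rw [hf u hu, Pi.single_eq_same, one_mul] at h5
  exact right_eq_add.1 h5

/-- (c): vectors of `W_R ∩ F₁` have no `I`-components -/
theorem Opp.inf {B : Subgroup Y} {I : Set (Fin k)} (hO : Opp V H R co B I) {w : V} (hw : w ∈ WW V H R)
    (hf : w ∈ fx V B) (hR : ∀ i, co w i 1 = 0) {i : Fin k} (hi : i ∈ I) : co w i = 0 :=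
  NatPair.ext2 (hO.fx_le hw hf hi) (hR i)

/-- `[W, U₁]` has only `I`-components -/
theorem Opp.comm {B : Subgroup Y} {I : Set (Fin k)} (K : KNat V H R F k co) (hBH : B ≤ H) (two : ∀ v : V, v + v = 0)
    (hO : Opp V H R co B I) {w : V} (hw : w ∈ WW V H R) {u : Y} (hu : u ∈ B) {i : Fin k} (hi : i ∉ I) :
    co (u • w + w) i = 0 := by
  obtain ⟨b, hb0, hb⟩ := hO.act u hu
  have h1 : co (u • w) i = co w i := by
    rw [hb.1 w hw i]
    simp only [hb0 i hi, lo_zero, NatPair.ap_one]
  have h2 : co (u • w + w) i = co (u • w) i + co w i := by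
    rw [K.add _ (smul_mem_WW (hBH hu) hw) _ hw]; rfl
  rw [h2, h1]
  funext j
  exact K.ff two i _

end coords

/-! ### Members -/

section members

variable [Finite Y] [Finite V] {U : Set (Subgroup Y)} {T : Sylow 2 Y} {M H R : Subgroup Y} {t : Y} {F : Type} [Field F]
  {k : ℕ} {co : V → Fin k → Fin 2 → F}

theorem member_exact (amb : Amb V U T M) (a : Amal U T M H R t) (we : WE V U H R) {B : Subgroup Y} (hB : B ∈ U)
    (hBH : B ≤ H) : Nat.card ↥(B ⊓ QQ H R) * Nat.card ↥(WW V H R) ≤ Nat.card B * Nat.card ↥(fx V B ⊓ WW V H R) := by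
  rw [mul_comm, a.exact' amb we hB hBH, inf_comm]

/-- **(B1)** a member `B ≤ R`, `B ≰ Q`, has a support -/
theorem exists_supp (K : KNat V H R F k co) (amb : Amb V U T M) (a : Amal U T M H R t) (we : WE V U H R)
    {B : Subgroup Y} (hB : B ∈ U) (hBR : B ≤ R) (hBQ : ¬ B ≤ QQ H R) :
    ∃ I : Set (Fin k), I.Nonempty ∧ Supp V H R co B I :=
  K.exists_supp_of amb.two a.RH hBR (Mem.elAb (amb.cls.mem B hB)) hBQ (member_exact amb a we hB (hBR.trans a.RH))

theorem Q_fix (amb : Amb V U T M) (a : Amal U T M H R t) : ∀ q ∈ QQ H R, ∀ w ∈ WW V H R, q • w = w :=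
  fun _ hq _ hw => Amal.QQ_fix a amb hq hw

/-- **(B1)** `C_W(B) = {w | w_{i1} = 0, i ∈ I}` -/
theorem member_fx_iff [Finite F] (K : KNat V H R F k co) (amb : Amb V U T M) (a : Amal U T M H R t)
    (we : WE V U H R) {B : Subgroup Y} (hB : B ∈ U) (hBR : B ≤ R) {I : Set (Fin k)} (hS : Supp V H R co B I) {w : V}
    (hw : w ∈ WW V H R) : w ∈ fx V B ↔ ∀ i ∈ I, co w i 1 = 0 :=
  hS.fx_iff K amb.two a.RH (Q_fix amb a) hBR (member_exact amb a we hB (hBR.trans a.RH)) hw

theorem member_card (K : KNat V H R F k co) (amb : Amb V U T M) (a : Amal U T M H R t)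
    {B : Subgroup Y} (hBR : B ≤ R) {I : Set (Fin k)} (hS : Supp V H R co B I) :
    Nat.card B = Nat.card ↥(B ⊓ QQ H R) * Nat.card (I → F) :=
  hS.card K amb.two a.RH (Q_fix amb a) hBR

/-- **(a)**: `s_x ∈ Q` for `x ∈ W` -/
theorem mem_Q_of_shift (K : KNat V H R F k co) (amb : Amb V U T M) (a : Amal U T M H R t) (we : WE V U H R)
    {B : Subgroup Y} (hB : B ∈ U) (hBH : B ≤ H) {w x : V} (hw : w ∉ Ee V B) (hx : x ∈ WW V H R) {s : Y}
    (hs : s ∈ B) (h1 : s • w + w + x ∈ fx V B) : s ∈ QQ H R := by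
  obtain ⟨y, hy, hyU, hyR⟩ := Amal.exists_conj a amb hB hBH
  have hback : ∀ {q : Y}, y * q * y⁻¹ ∈ QQ H R → q ∈ QQ H R := by
    intro q hq
    have h5 := conj_mem_QQ (H.inv_mem hy) hq
    have e : y⁻¹ * (y * q * y⁻¹) * y⁻¹⁻¹ = q := by group
    rwa [e] at h5
  by_cases hQ : MulAut.conj y • B ≤ QQ H R
  · exact hback (hQ (conj_mem_conj hs))
  · obtain ⟨I, _, hS⟩ := exists_supp K amb a we hyU hyR hQ
    apply hback
    apply shift_R K amb.two a.RH (amb.cls.mem _ hyU) hyR hS (we _ hyU hyR) (w := y • w) (x := y • x)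
    · rw [Ee_conj, mem_smul_as, inv_smul_smul]
      exact hw
    · exact smul_mem_WW hy hx
    · exact conj_mem_conj hs
    · rw [fx_conj, mem_smul_as, smul_add, smul_add, ← mul_smul, ← mul_smul, inv_smul_smul, inv_smul_smul]
      have e : y⁻¹ * (y * s * y⁻¹) * y = s := by group
      rw [e]
      exact h1

/-- **(B2)** every block lies in the support of a member of `R` -/
theorem exists_member_at (K : KNat V H R F k co) (amb : Amb V U T M) (a : Amal U T M H R t) (we : WE V U H R)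
    (j : Fin k) : ∃ B ∈ U, B ≤ R ∧ ¬ B ≤ QQ H R ∧ ∃ I : Set (Fin k), j ∈ I ∧ Supp V H R co B I := by
  obtain ⟨B, hB, hBR, hBQ⟩ := Amal.exists_not_QQ a amb
  obtain ⟨I, ⟨i, hi⟩, hS⟩ := exists_supp K amb a we hB hBR hBQ
  obtain ⟨r, hr, hrs⟩ := K.trans i j
  have hBr : MulAut.conj r • B ≤ R := by
    intro x hx
    rw [mem_conj] at hx
    have h1 := R.mul_mem (R.mul_mem hr (hBR hx)) (R.inv_mem hr)
    have e : r * (r⁻¹ * x * r) * r⁻¹ = x := by group
    rwa [e] at h1
  have hQr : ¬ MulAut.conj r • B ≤ QQ H R := by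
    intro h1
    apply hBQ
    intro b hb
    have h5 := conj_mem_QQ (H.inv_mem (a.RH hr)) (h1 (conj_mem_conj hb))
    have e : r⁻¹ * (r * b * r⁻¹) * r⁻¹⁻¹ = b := by group
    rwa [e] at h5
  obtain ⟨J, _, hJ⟩ := exists_supp K amb a we (amb.cls.conj B hB r) hBr hQr
  refine ⟨_, amb.cls.conj B hB r, hBr, hQr, J, ?_, hJ⟩
  by_contra hj
  -- `B` acts trivially on block `i`
  classical
  obtain ⟨u, hu, h4⟩ := hS.full (Pi.single i 1) fun l hl => by
    rw [Pi.single_eq_of_ne]
    rintro rfl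
    exact hl hi
  obtain ⟨v, hv, hvi, _⟩ := K.exists_at i ![0, 1]
  obtain ⟨b, hb0, hb⟩ := hJ.act _ (conj_mem_conj (g := r) hu)
  have huH : u ∈ H := a.RH (hBR hu)
  have hrH : r ∈ H := a.RH hr
  have h1 : co (r • (u • v + v)) j = 0 := by
    have e : r • (u • v + v) = (r * u * r⁻¹) • (r • v) + r • v := by
      rw [smul_add, ← mul_smul, ← mul_smul]
      congr 2
      group
    have h2 := hb.1 (r • v) (smul_mem_WW hrH hv) j
    simp only [hb0 j hj, up_zero, NatPair.ap_one] at h2
    rw [e, K.add _ (smul_mem_WW (H.mul_mem (H.mul_mem hrH huH) (H.inv_mem hrH)) (smul_mem_WW hrH hv)) _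
      (smul_mem_WW hrH hv), Pi.add_apply, h2]
    funext l
    exact K.ff amb.two i _
  have h2 := (hrs _ (add_mem (smul_mem_WW huH hv) hv)).1 h1
  have h3 : co (u • v + v) i 0 = 1 := by
    rw [K.add_apply (smul_mem_WW huH hv) hv, h4.up_fst hv i, hvi, Pi.single_eq_same]
    simp
  rw [h2] at h3
  exact zero_ne_one h3

end members

end Cfsg.Agent.Omega.NO1.TH.K

end

section


/-!
# N1, (L1) of bb OMEGA 20646, natural type: the structure `LFac` (bb OMEGA 21480, 21659, helper411)

`KNat V H R F k co`.  `Pp i` = the preimage in `R` of the `i`-th root group, `Ps i = {w ∈ W | co w j 1 = 0, j ≠ i}`.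
* `mem_fx` : the fixed points in `W` of a member `B ≤ R`, `B ≰ Q`; `mem_WJ`, `mem_D0` : the groups `C_W(J)`, `D₀`;
* `fix_Pp` : `co x i 1 = 0` ⟹ `Pp i` centralises `x`; `mem_iSup` : `C_R(C_W(J)) = ⟨Pp i⟩`;
* `lfac` : `LFac V U H R Pp Ps`; `faith`, `mov`, `exact_of` : fields of `LIn`.
-/

set_option autoImplicit false
set_option linter.unusedSectionVars false

namespace Cfsg.Agent.Omega.NO1.TH.K.LF

open Subgroup Cfsg.Agent.Omega.NO1.AB Cfsg.Agent.Omega.FFBr Cfsg.Agent.Lib.SL2Mat
open Cfsg.Agent.Omega.NatPair (ap ap_mul ap_one ap_add ap_inv_ap ap_ap_inv ap_zero' ap_one' ext2)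
open scoped Pointwise

universe u

/-- the action of the root elements -/
theorem apup {F : Type*} [Field F] (a : F) (x : Fin 2 → F) : ap (up a) x = ![x 0 + a * x 1, x 1] := by
  apply ext2
  · rw [ap_zero']; simp
  · rw [ap_one']; simp

theorem aplo {F : Type*} [Field F] (a : F) (x : Fin 2 → F) : ap (lo a) x = ![x 0, a * x 0 + x 1] := by
  apply ext2
  · rw [ap_zero']; simp
  · rw [ap_one']; simp

variable {Y : Type u} [Group Y] {V : Type u} [AddCommGroup V] [DistribMulAction Y V]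
  {H R : Subgroup Y} {F : Type} [Field F] {k : ℕ} {co : V → Fin k → Fin 2 → F}

section basic

theorem co_zero (K : KNat V H R F k co) : co 0 = 0 := by
  have h := K.add 0 (zero_mem _) 0 (zero_mem _)
  rw [add_zero] at h
  simpa using h

theorem add_self (K : KNat V H R F k co) (h2 : ∀ v : V, v + v = 0) (x : Fin k → Fin 2 → F) : x + x = 0 := by
  obtain ⟨v, hv, rfl⟩ := K.surj x
  rw [← K.add v hv v hv, h2, co_zero K]

theorem add_self' (K : KNat V H R F k co) (h2 : ∀ v : V, v + v = 0) (i : Fin k) (x : F) : x + x = 0 :=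
  congrFun (congrFun (add_self K h2 (fun _ _ => x)) i) 0

theorem acts_inv {g : Y} {A : Fin k → Matrix.SpecialLinearGroup (Fin 2) F} (hgH : g ∈ H)
    (hg : Acts V H R co g A) : Acts V H R co g⁻¹ A⁻¹ := by
  refine ⟨fun v hv i => ?_, fun d hd h0 => ?_⟩
  · have h1 := hg.1 _ (smul_mem_WW (H.inv_mem hgH) hv) i
    rw [smul_inv_smul] at h1
    rw [h1, Pi.inv_apply, ap_inv_ap]
  · rw [inv_smul_eq_iff, hg.2 d hd h0]

/-- the action on `W` is determined by the tuple -/
theorem acts_eq (K : KNat V H R F k co) {g h : Y} {A : Fin k → Matrix.SpecialLinearGroup (Fin 2) F}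
    (hgH : g ∈ H) (hhH : h ∈ H) (hg : Acts V H R co g A) (hh : Acts V H R co h A) {w : V} (hw : w ∈ WW V H R) :
    g • w = h • w := by
  have h1 : ∀ w ∈ WW V H R, (h⁻¹ * g) • w = w := by
    apply K.trivH _ (H.mul_mem (H.inv_mem hhH) hgH)
    intro w hw
    have h2 := ((acts_inv hhH hh).mul hgH hg).1 w hw
    funext i
    rw [h2 i, inv_mul_cancel]
    exact ap_one _
  have h2 := h1 w hw
  rw [mul_smul, inv_smul_eq_iff] at h2
  exact h2

/-- trivial action -/
theorem acts_one (K : KNat V H R F k co) {g : Y} (hgH : g ∈ H)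
    (hg : ∀ v ∈ WW V H R, co (g • v) = co v) {w : V} (hw : w ∈ WW V H R) : g • w = w :=
  K.trivH g hgH hg w hw

end basic

section amb

/-- the coordinates of a unipotent element -/
theorem acts_up {g : Y} {b : Fin k → F} (hg : Acts V H R co g fun i => up (b i)) {v : V} (hv : v ∈ WW V H R)
    (i : Fin k) : co (g • v) i = ![co v i 0 + b i * co v i 1, co v i 1] := by
  rw [hg.1 v hv i, apup]

theorem mem_QQ_of_zero (K : KNat V H R F k co) (h2 : ∀ v : V, v + v = 0) (hRH : R ≤ H) {g : Y} (hgR : g ∈ R)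
    {b : Fin k → F} (hg : Acts V H R co g fun i => up (b i)) (hb : ∀ i, b i = 0) : g ∈ QQ H R := by
  apply K.triv g hgR
  intro w hw
  rw [K.add _ (smul_mem_WW (hRH hgR) hw) _ hw]
  funext i
  rw [Pi.add_apply, acts_up hg hw i, hb i]
  have h3 : (![co w i 0 + 0 * co w i 1, co w i 1] : Fin 2 → F) = co w i := by
    apply ext2
    · simp
    · simp
  rw [h3]
  exact congrFun (add_self K h2 (co w)) i

theorem acts_upmul {g h : Y} {b c : Fin k → F} (hhH : h ∈ H) (hg : Acts V H R co g fun i => up (b i))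
    (hh : Acts V H R co h fun i => up (c i)) : Acts V H R co (g * h) fun i => up ((b + c) i) := by
  have h1 := hg.mul hhH hh
  have e : ((fun i => up (b i)) * fun i => up (c i) : Fin k → Matrix.SpecialLinearGroup (Fin 2) F) =
      fun i => up ((b + c) i) := by
    funext i
    rw [Pi.mul_apply, up_mul, Pi.add_apply]
  rwa [e] at h1

theorem acts_upinv {g : Y} {b : Fin k → F} (hgH : g ∈ H) (hg : Acts V H R co g fun i => up (b i)) :
    Acts V H R co g⁻¹ fun i => up ((-b) i) := by
  have h1 := acts_inv hgH hg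
  have e : ((fun i => up (b i))⁻¹ : Fin k → Matrix.SpecialLinearGroup (Fin 2) F) = fun i => up ((-b) i) := by
    funext i
    rw [Pi.inv_apply, up_inv, Pi.neg_apply]
  rwa [e] at h1

variable [Finite Y] [Finite V] {U : Set (Subgroup Y)} {T : Sylow 2 Y} {M : Subgroup Y} {t : Y}

/-- **the fixed points in `W` of a member `B ≤ R`, `B ≰ Q`** -/
theorem exists_I (amb : Amb V U T M) (a : Amal U T M H R t) (we : WE V U H R) (K : KNat V H R F k co)
    {B : Subgroup Y} (hB : B ∈ U) (hBR : B ≤ R) (hBQ : ¬ B ≤ QQ H R) :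
    ∃ I : Set (Fin k), (∃ i, i ∈ I) ∧
      (∀ x ∈ B, ∃ b : Fin k → F, (∀ i, i ∉ I → b i = 0) ∧ Acts V H R co x fun i => up (b i)) ∧
      (∀ b : Fin k → F, (∀ i, i ∉ I → b i = 0) → ∃ x ∈ B, Acts V H R co x fun i => up (b i)) ∧
      ∀ w ∈ WW V H R, (∀ x ∈ B, x • w = w) ↔ ∀ i ∈ I, co w i 1 = 0 := by
  classical
  have hel : ElAb B := Mem.elAb (amb.cls.mem B hB)
  have ex := Amal.exact' a amb we hB (hBR.trans a.RH)
  obtain ⟨I, hI1, hI2⟩ := K.off B hBR hel hBQ (by
    rw [inf_comm (fx V B), mul_comm (Nat.card ↥(B ⊓ QQ H R))]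
    exact ex.le)
  have hfx : ∀ w ∈ WW V H R, (∀ x ∈ B, x • w = w) → ∀ i ∈ I, co w i 1 = 0 := by
    intro w hw hx i hi
    obtain ⟨x, hxB, hxA⟩ := hI2 (Pi.single i 1) (fun j hj => by
      rw [Pi.single_eq_of_ne]
      rintro rfl
      exact hj hi)
    have h1 := acts_up hxA hw i
    rw [hx x hxB] at h1
    have h3 := congrFun h1 0
    simp at h3
    exact h3
  refine ⟨I, ?_, hI1, hI2, fun w hw => ⟨hfx w hw, ?_⟩⟩
  · by_contra hI
    push Not at hI
    apply hBQ
    intro x hx
    obtain ⟨b, hb, hxb⟩ := hI1 x hx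
    exact mem_QQ_of_zero K amb.cls.two a.RH (hBR hx) hxb fun i => hb i (hI i)
  -- counting
  let X : AddSubgroup V :=
    { carrier := {w | w ∈ WW V H R ∧ ∀ i ∈ I, co w i 1 = 0}
      zero_mem' := ⟨zero_mem _, fun i _ => by rw [co_zero K]; rfl⟩
      add_mem' := fun {v w} hv hw => ⟨add_mem hv.1 hw.1, fun i hi => by
        rw [K.add v hv.1 w hw.1, Pi.add_apply, Pi.add_apply, hv.2 i hi, hw.2 i hi, add_zero]⟩
      neg_mem' := fun {v} hv => by
        have h1 : -v = v := by rw [neg_eq_iff_add_eq_zero, amb.cls.two]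
        change -v ∈ WW V H R ∧ ∀ i ∈ I, co (-v) i 1 = 0
        rw [h1]
        exact hv }
  have hX : ∀ w, w ∈ X ↔ w ∈ WW V H R ∧ ∀ i ∈ I, co w i 1 = 0 := fun w => Iff.rfl
  let Z := {z : Fin k → F // ∀ i, i ∉ I → z i = 0}
  have hs : ∀ z : Z, ∃ v ∈ WW V H R, ∀ i, co v i 1 = z.1 i := by
    intro z
    obtain ⟨v, hv, hvz⟩ := K.surj fun i => ![0, z.1 i]
    exact ⟨v, hv, fun i => by rw [hvz]; rfl⟩
  choose s hsW hsz using hs
  let f : Z × X → WW V H R := fun p => ⟨s p.1 + p.2, add_mem (hsW p.1) p.2.2.1⟩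
  have hf : Function.Injective f := by
    rintro ⟨z, x⟩ ⟨z', x'⟩ h
    have h1 : s z + x = s z' + x' := congrArg Subtype.val h
    have h3 : z = z' := by
      apply Subtype.ext
      funext i
      by_cases hi : i ∈ I
      · have h4 := congrFun (congrFun (congrArg co h1) i) 1
        rw [K.add _ (hsW z) _ x.2.1, K.add _ (hsW z') _ x'.2.1, Pi.add_apply, Pi.add_apply, Pi.add_apply,
          Pi.add_apply, hsz, hsz, x.2.2 i hi, x'.2.2 i hi, add_zero, add_zero] at h4
        exact h4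
      · rw [z.2 i hi, z'.2 i hi]
    subst h3
    have h4 := add_left_cancel h1
    rw [Subtype.ext h4]
  have : Finite (Z × X) := Finite.of_injective f hf
  have : Finite Z := by
    have h0 : Function.Injective fun z : Z => ((z, 0) : Z × X) := fun z z' h => (Prod.mk.inj h).1
    exact Finite.of_injective _ h0
  choose σ hσB hσ using hI2
  choose b hb0 hb using hI1
  let g : B → Z × ↥(B ⊓ QQ H R) := fun x => (⟨b x x.2, hb0 x x.2⟩, ⟨x * (σ (b x x.2) (hb0 x x.2))⁻¹,
    B.mul_mem x.2 (B.inv_mem (hσB _ _)), by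
      have h1 := acts_upmul (H.inv_mem (a.RH (hBR (hσB (b x x.2) (hb0 x x.2))))) (hb x x.2)
        (acts_upinv (a.RH (hBR (hσB (b x x.2) (hb0 x x.2)))) (hσ (b x x.2) (hb0 x x.2)))
      exact mem_QQ_of_zero K amb.cls.two a.RH (R.mul_mem (hBR x.2) (R.inv_mem (hBR (hσB _ _)))) h1
        fun i => by rw [Pi.add_apply, Pi.neg_apply, add_neg_cancel]⟩)
  have hg : Function.Injective g := by
    intro x x' h
    have h1 := (Prod.mk.inj h).1
    have h3 := congrArg Subtype.val (Prod.mk.inj h).2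
    have h4 : b x x.2 = b x' x'.2 := congrArg Subtype.val h1
    have h5 : (x : Y) * (σ (b x x.2) (hb0 x x.2))⁻¹ = x' * (σ (b x' x'.2) (hb0 x' x'.2))⁻¹ := h3
    have h6 : σ (b x x.2) (hb0 x x.2) = σ (b x' x'.2) (hb0 x' x'.2) := by
      congr 1
    rw [h6] at h5
    exact Subtype.ext (mul_right_cancel h5)
  have c1 := Nat.card_le_card_of_injective f hf
  have c2 := Nat.card_le_card_of_injective g hg
  rw [Nat.card_prod] at c1 c2
  have hle : WW V H R ⊓ fx V B ≤ X := fun w hw => ⟨hw.1, hfx w hw.1 fun x hx => hw.2 x hx⟩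
  have hcard : Nat.card X ≤ Nat.card ↥(WW V H R ⊓ fx V B) := by
    have p1 : 0 < Nat.card Z := by
      have : Nonempty Z := ⟨⟨0, fun _ _ => rfl⟩⟩
      exact Nat.card_pos
    have p2 : 0 < Nat.card ↥(B ⊓ QQ H R) := Nat.card_pos
    apply Nat.le_of_mul_le_mul_left _ (Nat.mul_pos p1 p2)
    calc _ = Nat.card Z * Nat.card X * Nat.card ↥(B ⊓ QQ H R) := by ring
      _ ≤ Nat.card ↥(WW V H R) * Nat.card ↥(B ⊓ QQ H R) := Nat.mul_le_mul_right _ c1
      _ = _ := ex
      _ ≤ _ := Nat.mul_le_mul_right _ c2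
  have heq : WW V H R ⊓ fx V B = X := by
    apply SetLike.coe_injective
    apply Set.eq_of_subset_of_ncard_le (SetLike.coe_subset_coe.2 hle) _ (Set.toFinite _)
    rw [← Nat.card_coe_set_eq, ← Nat.card_coe_set_eq]
    exact hcard
  intro hi x hx
  have h1 : w ∈ X := ⟨hw, hi⟩
  rw [← heq] at h1
  exact h1.2 x hx

/-- every index belongs to a member -/
theorem exists_mem_I (amb : Amb V U T M) (a : Amal U T M H R t) (we : WE V U H R) (K : KNat V H R F k co)
    (i : Fin k) : ∃ B ∈ U, B ≤ R ∧ ∃ I : Set (Fin k), i ∈ I ∧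
      (∀ b : Fin k → F, (∀ i, i ∉ I → b i = 0) → ∃ x ∈ B, Acts V H R co x fun i => up (b i)) ∧
      ∀ w ∈ WW V H R, (∀ x ∈ B, x • w = w) ↔ ∀ i ∈ I, co w i 1 = 0 := by
  classical
  obtain ⟨B, hB, hBR, hBQ⟩ := Amal.exists_not_QQ a amb
  obtain ⟨I, ⟨j, hj⟩, -, hI2, -⟩ := exists_I amb a we K hB hBR hBQ
  obtain ⟨r, hr, hrij⟩ := K.trans j i
  have hB' : MulAut.conj r • B ≤ R := by
    intro y hy
    rw [mem_conj] at hy
    have h1 := R.mul_mem (R.mul_mem hr (hBR hy)) (R.inv_mem hr)
    have e : r * (r⁻¹ * y * r) * r⁻¹ = y := by group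
    rwa [e] at h1
  have hBQ' : ¬ MulAut.conj r • B ≤ QQ H R := by
    intro h1
    apply hBQ
    intro y hy
    have h2 := conj_mem_QQ (H.inv_mem (a.RH hr)) (h1 (conj_mem_conj (g := r) hy))
    have e : r⁻¹ * (r * y * r⁻¹) * r⁻¹⁻¹ = y := by group
    rwa [e] at h2
  obtain ⟨I', -, hI1', hI2', hI3'⟩ := exists_I amb a we K (amb.cls.conj B hB r) hB' hBQ'
  refine ⟨_, amb.cls.conj B hB r, hB', I', ?_, hI2', hI3'⟩
  by_contra hi
  obtain ⟨x, hxB, hx⟩ := hI2 (Pi.single j 1) (fun l hl => by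
    rw [Pi.single_eq_of_ne]
    rintro rfl
    exact hl hj)
  obtain ⟨b, hb0, hb⟩ := hI1' _ (conj_mem_conj (g := r) hxB)
  obtain ⟨w, hw, hwc⟩ := K.surj (Pi.single j ![0, 1])
  have hxH : x ∈ H := a.RH (hBR hxB)
  have h1 := acts_up hb (smul_mem_WW (a.RH hr) hw) i
  rw [hb0 i hi] at h1
  have e1 : (r * x * r⁻¹) • r • w = r • x • w := by
    rw [mul_smul, mul_smul, inv_smul_smul]
  rw [e1] at h1
  have h3 : co (r • (x • w + w)) i = 0 := by
    rw [smul_add, K.add _ (smul_mem_WW (a.RH hr) (smul_mem_WW hxH hw)) _ (smul_mem_WW (a.RH hr) hw), Pi.add_apply, h1]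
    have h4 : (![co (r • w) i 0 + 0 * co (r • w) i 1, co (r • w) i 1] : Fin 2 → F) = co (r • w) i := by
      apply ext2
      · simp
      · simp
    rw [h4]
    exact congrFun (add_self K amb.cls.two (co (r • w))) i
  rw [hrij _ (add_mem (smul_mem_WW hxH hw) hw), K.add _ (smul_mem_WW hxH hw) _ hw, Pi.add_apply, acts_up hx hw] at h3
  have h5 := congrFun h3 0
  rw [hwc] at h5
  simp at h5

/-- **`C_W(J)`** -/
theorem mem_WJ (amb : Amb V U T M) (a : Amal U T M H R t) (we : WE V U H R) (K : KNat V H R F k co) {w : V} :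
    w ∈ WJ V U H R ↔ w ∈ WW V H R ∧ ∀ i, co w i 1 = 0 := by
  constructor
  · rintro ⟨h1, h2⟩
    refine ⟨h1, fun i => ?_⟩
    obtain ⟨B, hB, hBR, I, hi, -, h3⟩ := exists_mem_I amb a we K i
    exact (h3 w h1).1 (h2 B hB hBR) i hi
  · rintro ⟨h1, h2⟩
    refine ⟨h1, fun B hB hBR b hb => ?_⟩
    by_cases hBQ : B ≤ QQ H R
    · exact Amal.QQ_fix a amb (hBQ hb) h1
    · obtain ⟨I, -, -, -, h3⟩ := exists_I amb a we K hB hBR hBQ
      exact (h3 w h1).2 (fun i _ => h2 i) b hb

/-- the preimage in `R` of the `i`-th root group -/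
def Pp (V : Type u) [AddCommGroup V] [DistribMulAction Y V] (H R : Subgroup Y) {F : Type} [Field F] {k : ℕ}
    (co : V → Fin k → Fin 2 → F) (hRH : R ≤ H) (i : Fin k) : Subgroup Y where
  carrier := {r | r ∈ R ∧ ∃ b : F, Acts V H R co r fun j => up ((Pi.single i b : Fin k → F) j)}
  one_mem' := ⟨R.one_mem, 0, by
    have e : (fun j => up ((Pi.single i (0 : F) : Fin k → F) j)) = 1 := by
      funext j
      rw [Pi.single_zero, Pi.zero_apply, up_zero, Pi.one_apply]
    rw [e]
    exact Acts.one⟩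
  mul_mem' := by
    rintro x y ⟨hx, b, hb⟩ ⟨hy, c, hc⟩
    refine ⟨R.mul_mem hx hy, b + c, ?_⟩
    have h1 := acts_upmul (hRH hy) hb hc
    rwa [← Pi.single_add] at h1
  inv_mem' := by
    rintro x ⟨hx, b, hb⟩
    refine ⟨R.inv_mem hx, -b, ?_⟩
    have h1 := acts_upinv (hRH hx) hb
    rwa [← Pi.single_neg] at h1

theorem mem_Pp {hRH : R ≤ H} {i : Fin k} {r : Y} : r ∈ Pp V H R co hRH i ↔
    r ∈ R ∧ ∃ b : F, Acts V H R co r fun j => up ((Pi.single i b : Fin k → F) j) := Iff.rfl

/-- the elements which act trivially except on the blocks in `s` lie in the product of the root groups -/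
theorem mem_iSup (K : KNat V H R F k co) (h2 : ∀ v : V, v + v = 0) (hRH : R ≤ H) (s : Finset (Fin k)) :
    ∀ r ∈ R, ∀ b : Fin k → F, (∀ i, i ∉ s → b i = 0) → (Acts V H R co r fun i => up (b i)) →
      r ∈ QQ H R ⊔ ⨆ p ∈ s, Pp V H R co hRH p := by
  classical
  induction s using Finset.induction_on with
  | empty =>
    intro r hr b hb hrb
    exact mem_sup_left (mem_QQ_of_zero K h2 hRH hr hrb fun i => hb i (Finset.notMem_empty i))
  | insert i s his ih =>
    intro r hr b hb hrb
    obtain ⟨x, hx, hxb⟩ := K.unip (Pi.single i (b i))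
    have h1 := acts_upmul (H.inv_mem (hRH hx)) hrb (acts_upinv (hRH hx) hxb)
    have h3 := ih (r * x⁻¹) (R.mul_mem hr (R.inv_mem hx)) _ (fun j hj => by
      rw [Pi.add_apply, Pi.neg_apply]
      by_cases hji : j = i
      · subst hji
        rw [Pi.single_eq_same, add_neg_cancel]
      · rw [hb j (by rw [Finset.mem_insert, not_or]; exact ⟨hji, hj⟩), Pi.single_eq_of_ne hji, neg_zero, add_zero]) h1
    have h4 : x ∈ QQ H R ⊔ ⨆ p ∈ insert i s, Pp V H R co hRH p :=
      mem_sup_right (mem_iSup_of_mem i (mem_iSup_of_mem (Finset.mem_insert_self i s) ⟨hx, _, hxb⟩))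
    have h5 : QQ H R ⊔ ⨆ p ∈ s, Pp V H R co hRH p ≤ QQ H R ⊔ ⨆ p ∈ insert i s, Pp V H R co hRH p :=
      sup_le_sup_left (biSup_mono fun p hp => Finset.mem_insert_of_mem hp) _
    have h6 := mul_mem (h5 h3) h4
    rwa [inv_mul_cancel_right] at h6

/-- commuting tuples -/
theorem comm_tuple {i l : Fin k} (hil : i ≠ l) (b : F) (A : Matrix.SpecialLinearGroup (Fin 2) F) :
    ((fun j => up ((Pi.single i b : Fin k → F) j)) * Pi.mulSingle l A :
      Fin k → Matrix.SpecialLinearGroup (Fin 2) F) =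
      Pi.mulSingle l A * fun j => up ((Pi.single i b : Fin k → F) j) := by
  funext j
  rw [Pi.mul_apply, Pi.mul_apply]
  by_cases hj : j = l
  · subst hj
    rw [Pi.single_eq_of_ne (Ne.symm hil), up_zero, one_mul, mul_one]
  · rw [Pi.mulSingle_eq_of_ne hj, one_mul, mul_one]

/-- a vector of the block `l` which is centralised by the `i`-th root group -/
theorem exists_fixed (K : KNat V H R F k co) (h2 : ∀ v : V, v + v = 0) {i l : Fin k} (hil : i ≠ l) {r : Y}
    (hrH : r ∈ H) {b : F} (hr : Acts V H R co r fun j => up ((Pi.single i b : Fin k → F) j)) (y : Fin 2 → F) :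
    ∃ z ∈ WW V H R, co z = Pi.single l y ∧ r • z = z := by
  have key : ∀ (A : Matrix.SpecialLinearGroup (Fin 2) F) (x : Fin 2 → F),
      ∃ z ∈ WW V H R, co z = Pi.single l (ap A x + x) ∧ r • z = z := by
    intro A x
    obtain ⟨g, hg, hgA⟩ := K.lift (Pi.mulSingle l A)
    obtain ⟨w, hw, hwx⟩ := K.surj (Pi.single l x)
    have hgw := smul_mem_WW hg hw
    refine ⟨g • w + w, add_mem hgw hw, ?_, ?_⟩
    · rw [K.add _ hgw _ hw]
      funext j
      rw [Pi.add_apply, hgA.1 w hw j, hwx]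
      by_cases hj : j = l
      · subst hj
        rw [Pi.single_eq_same, Pi.single_eq_same, Pi.mulSingle_eq_same]
      · rw [Pi.single_eq_of_ne hj, Pi.single_eq_of_ne hj, Pi.mulSingle_eq_of_ne hj, ap_one, add_zero]
    · -- `r w = w + e`, `e ∈ D₀`
      have he : co (r • w + w) = 0 := by
        rw [K.add _ (smul_mem_WW hrH hw) _ hw]
        funext j
        rw [Pi.add_apply, acts_up hr hw j, hwx]
        by_cases hj : j = l
        · subst hj
          rw [Pi.single_eq_of_ne (Ne.symm hil), Pi.single_eq_same, zero_mul, add_zero]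
          have e1 : (![x 0, x 1] : Fin 2 → F) = x := by
            apply ext2
            · rfl
            · rfl
          rw [e1]
          have e2 := congrFun (add_self K h2 (fun _ => x)) j
          exact e2
        · rw [Pi.single_eq_of_ne hj]
          have e1 : (![(0 : Fin 2 → F) 0 + (Pi.single i b : Fin k → F) j * (0 : Fin 2 → F) 1, (0 : Fin 2 → F) 1] :
              Fin 2 → F) = 0 := by
            apply ext2
            · simp
            · simp
          rw [e1, add_zero]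
          rfl
      have hc : r • g • w = g • r • w := by
        have h3 := acts_eq K (H.mul_mem hrH hg) (H.mul_mem hg hrH) (hr.mul hg hgA) (by
          rw [comm_tuple hil]
          exact hgA.mul hrH hr) hw
        rwa [mul_smul, mul_smul] at h3
      have h4 : g • (r • w + w) = r • w + w := hgA.2 _ (add_mem (smul_mem_WW hrH hw) hw) he
      rw [smul_add] at h4
      rw [smul_add, hc]
      -- `g r w + r w = g w + w`
      have h5 : g • r • w + g • w + (g • w + r • w) = r • w + w + (g • w + r • w) := by rw [h4]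
      have e3 : g • r • w + g • w + (g • w + r • w) = g • r • w + r • w + (g • w + g • w) := by abel
      have e4 : r • w + w + (g • w + r • w) = g • w + w + (r • w + r • w) := by abel
      rw [e3, e4, h2, h2, add_zero, add_zero] at h5
      exact h5
  obtain ⟨z1, hz1, hc1, hf1⟩ := key (up 1) ![0, y 0]
  obtain ⟨z2, hz2, hc2, hf2⟩ := key (lo 1) ![y 1, 0]
  refine ⟨z1 + z2, add_mem hz1 hz2, ?_, by rw [smul_add, hf1, hf2]⟩
  rw [K.add _ hz1 _ hz2, hc1, hc2, ← Pi.single_add]
  congr 1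
  have hy : ∀ x : F, x + x = 0 := fun x => add_self' K h2 l x
  apply ext2
  · rw [apup, aplo]
    simp only [Pi.add_apply, Matrix.cons_val_zero, Matrix.cons_val_one, one_mul, zero_add, add_zero, hy]
  · rw [apup, aplo]
    simp only [Pi.add_apply, Matrix.cons_val_zero, Matrix.cons_val_one, one_mul, zero_add, add_zero, hy]

/-- **`C_W` of the `i`-th root group** -/
theorem fix_Pp (amb : Amb V U T M) (a : Amal U T M H R t) (we : WE V U H R) (K : KNat V H R F k co) {i : Fin k}
    {r : Y} (hr : r ∈ Pp V H R co a.RH i) {x : V} (hx : x ∈ WW V H R) (hxi : co x i 1 = 0) : r • x = x := by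
  classical
  obtain ⟨hrR, b, hrb⟩ := hr
  have hrH := a.RH hrR
  -- the vectors of `C_W(J)`
  have h0 : ∀ x ∈ WW V H R, (∀ j, co x j 1 = 0) → r • x = x := by
    intro x hx hxj
    obtain ⟨B, hB, hBR, I, hi, h3, h4⟩ := exists_mem_I amb a we K i
    obtain ⟨y, hyB, hy⟩ := h3 (Pi.single i b) (fun j hj => by
      rw [Pi.single_eq_of_ne]
      rintro rfl
      exact hj hi)
    rw [acts_eq K hrH (a.RH (hBR hyB)) hrb hy hx]
    exact (h4 x hx).2 (fun j _ => hxj j) y hyB
  have key : ∀ s : Finset (Fin k), ∀ x ∈ WW V H R, co x i 1 = 0 → (∀ j, j ∉ s → co x j 1 = 0) → r • x = x := by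
    intro s
    induction s using Finset.induction_on with
    | empty =>
      intro x hx _ h
      exact h0 x hx fun j => h j (Finset.notMem_empty j)
    | insert l s hls ih =>
      intro x hx hxi h
      by_cases hli : i = l
      · subst hli
        refine ih x hx hxi fun j hj => ?_
        by_cases hji : j = i
        · rw [hji, hxi]
        · exact h j (by rw [Finset.mem_insert, not_or]; exact ⟨hji, hj⟩)
      · obtain ⟨z, hz, hzc, hzr⟩ := exists_fixed K amb.cls.two hli hrH hrb (co x l)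
        have h5 := ih (x + z) (add_mem hx hz) (by
          rw [K.add _ hx _ hz, hzc, Pi.add_apply, Pi.single_eq_of_ne hli, add_zero, hxi]) (fun j hj => by
          rw [K.add _ hx _ hz, hzc, Pi.add_apply]
          by_cases hjl : j = l
          · subst hjl
            rw [Pi.single_eq_same, Pi.add_apply]
            exact add_self' K amb.cls.two j _
          · rw [Pi.single_eq_of_ne hjl, add_zero]
            exact h j (by rw [Finset.mem_insert, not_or]; exact ⟨hjl, hj⟩))
        rw [smul_add, hzr] at h5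
        exact add_right_cancel h5
  exact key Finset.univ x hx hxi fun j hj => absurd (Finset.mem_univ j) hj

/-- the part of `W` which is moved by the `i`-th root group only -/
def Ps (V : Type u) [AddCommGroup V] [DistribMulAction Y V] (H R : Subgroup Y) {F : Type} [Field F] {k : ℕ}
    (co : V → Fin k → Fin 2 → F) (K : KNat V H R F k co) (h2 : ∀ v : V, v + v = 0) (i : Fin k) : AddSubgroup V where
  carrier := {w | w ∈ WW V H R ∧ ∀ j, j ≠ i → co w j 1 = 0}
  zero_mem' := ⟨zero_mem _, fun j _ => by rw [co_zero K]; rfl⟩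
  add_mem' := fun {v w} hv hw => ⟨add_mem hv.1 hw.1, fun j hj => by
    rw [K.add v hv.1 w hw.1, Pi.add_apply, Pi.add_apply, hv.2 j hj, hw.2 j hj, add_zero]⟩
  neg_mem' := fun {v} hv => by
    have h1 : -v = v := by rw [neg_eq_iff_add_eq_zero, h2]
    change -v ∈ WW V H R ∧ ∀ j, j ≠ i → co (-v) j 1 = 0
    rw [h1]
    exact hv

theorem mem_Ps {K : KNat V H R F k co} {h2 : ∀ v : V, v + v = 0} {i : Fin k} {w : V} :
    w ∈ Ps V H R co K h2 i ↔ w ∈ WW V H R ∧ ∀ j, j ≠ i → co w j 1 = 0 := Iff.rfl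

/-- an element of `R` which centralises `{w | co w j 1 = 0}` acts as a product of root elements -/
theorem exists_up (K : KNat V H R F k co) (h2 : ∀ v : V, v + v = 0) (hRH : R ≤ H) (hR2 : IsPGroup 2 R) {r : Y}
    (hrR : r ∈ R) (hr : ∀ x ∈ WW V H R, (∀ j, co x j 1 = 0) → r • x = x) :
    ∃ b : Fin k → F, Acts V H R co r fun i => up (b i) := by
  classical
  have hrH := hRH hrR
  have hWr : ∀ w ∈ WW V H R, r • w ∈ WW V H R := fun w hw => smul_mem_WW hrH hw
  -- `r` fixes the blocks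
  obtain ⟨σ, hσ⟩ := K.perm r hrH
  have hσi : ∀ i, σ i = i := by
    intro i
    by_contra hi
    obtain ⟨v, hv, hvc⟩ := K.surj (Pi.single i ![1, 0])
    have h1 : r • v = v := hr v hv fun j => by
      rw [hvc]
      by_cases hj : j = i
      · subst hj
        rw [Pi.single_eq_same]
        rfl
      · rw [Pi.single_eq_of_ne hj]
        rfl
    have h3 : co v i = 0 := (hσ v hv i).1 (by rw [h1, hvc, Pi.single_eq_of_ne hi])
    rw [hvc, Pi.single_eq_same] at h3
    have h4 := congrFun h3 0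
    simp at h4
  have hblock : ∀ v ∈ WW V H R, ∀ i, co v i = 0 → co (r • v) i = 0 := by
    intro v hv i h1
    have h3 := (hσ v hv i).2 h1
    rwa [hσi] at h3
  have hdep : ∀ v ∈ WW V H R, ∀ w ∈ WW V H R, ∀ i, co v i = co w i → co (r • v) i = co (r • w) i := by
    intro v hv w hw i h1
    have h3 := hblock (v + w) (add_mem hv hw) i (by
      rw [K.add v hv w hw, Pi.add_apply, h1]
      exact congrFun (add_self K h2 (co w)) i)
    rw [smul_add, K.add _ (hWr v hv) _ (hWr w hw), Pi.add_apply] at h3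
    have h4 : co (r • w) i + co (r • w) i = 0 := congrFun (add_self K h2 (co (r • w))) i
    exact add_right_cancel (h3.trans h4.symm)
  -- the map on the blocks
  have hv1 : ∃ v ∈ WW V H R, co v = fun _ => ![0, 1] := K.surj _
  obtain ⟨v1, hv1W, hv1c⟩ := hv1
  -- the vectors with second coordinate `0` are fixed
  have hx0 : ∀ w ∈ WW V H R, ∀ i, co w i 1 = 0 → co (r • w) i = co w i := by
    intro w hw i h1
    obtain ⟨w', hw', hc⟩ := K.surj (Pi.single i (co w i))
    have h3 : r • w' = w' := hr w' hw' fun j => by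
      rw [hc]
      by_cases hj : j = i
      · subst hj
        rw [Pi.single_eq_same]
        exact h1
      · rw [Pi.single_eq_of_ne hj]
        rfl
    rw [hdep w hw w' hw' i (by rw [hc, Pi.single_eq_same]), h3, hc, Pi.single_eq_same]
  -- the relation given by the normaliser
  have hrel : ∀ h ∈ H, ∀ A : Fin k → Matrix.SpecialLinearGroup (Fin 2) F, Acts V H R co h A →
      ∀ i, ∃ B : Matrix.SpecialLinearGroup (Fin 2) F, ∀ v ∈ WW V H R, co (r • h • v) i = ap B (co (r • v) i) := by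
    intro h hh A hA i
    obtain ⟨B, hB⟩ := K.norm r hrH h hh A hA.1
    refine ⟨B i, fun v hv => ?_⟩
    have h3 := hB _ (hWr v hv) i
    rwa [mul_smul, mul_smul, inv_smul_smul] at h3
  have hadd : ∀ v ∈ WW V H R, ∀ w ∈ WW V H R, ∀ i, co (r • (v + w)) i = co (r • v) i + co (r • w) i := by
    intro v hv w hw i
    rw [smul_add, K.add _ (hWr v hv) _ (hWr w hw), Pi.add_apply]
  -- the second coordinate
  have hdel : ∀ i, ∃ d : F, ∀ w ∈ WW V H R, co (r • w) i 1 = d * co w i 1 := by
    intro i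
    obtain ⟨u, hu, huA⟩ := K.unip fun _ => 1
    obtain ⟨B, hB⟩ := hrel u (hRH hu) _ huA i
    have hB0 : ap B ![1, 0] = ![1, 0] := by
      obtain ⟨w, hw, hwc⟩ := K.surj fun _ => ![1, 0]
      have hwi : co w i = ![1, 0] := by rw [hwc]
      have h3 := hB w hw
      rw [hx0 w hw i (by rw [hwi]; rfl), hwi] at h3
      rw [← h3, hdep _ (smul_mem_WW (hRH hu) hw) w hw i (by
        rw [acts_up huA hw, hwi]
        apply ext2
        · simp
        · rfl), hx0 w hw i (by rw [hwi]; rfl), hwi]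
    have e0 : ent B 0 0 = 1 := by
      have h3 := congrFun hB0 0
      rw [ap_zero'] at h3
      simpa using h3
    have e1 : ent B 1 0 = 0 := by
      have h3 := congrFun hB0 1
      rw [ap_one'] at h3
      simpa using h3
    -- `y = β c₁`
    have h3 : ∀ w ∈ WW V H R, co w i 1 = ent B 0 1 * co (r • w) i 1 := by
      intro w hw
      obtain ⟨z, hz, hzc⟩ := K.surj fun _ => ![co w i 1, 0]
      have hzi : co z i = ![co w i 1, 0] := by rw [hzc]
      have h4 := hB w hw
      rw [hdep _ (smul_mem_WW (hRH hu) hw) (w + z) (add_mem hw hz) i (by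
        rw [acts_up huA hw, K.add w hw z hz, Pi.add_apply, hzi]
        apply ext2
        · simp
        · simp), hadd w hw z hz i, hx0 z hz i (by rw [hzi]; rfl), hzi] at h4
      have h5 := congrFun h4 0
      rw [ap_zero', e0, one_mul, Pi.add_apply] at h5
      exact add_left_cancel h5
    have h4 : ent B 0 1 ≠ 0 := by
      intro h5
      obtain ⟨w, hw, hwc⟩ := K.surj fun _ => ![0, 1]
      have h6 := h3 w hw
      rw [h5, zero_mul, hwc] at h6
      simp at h6
    refine ⟨(ent B 0 1)⁻¹, fun w hw => ?_⟩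
    rw [h3 w hw, inv_mul_cancel_left₀ h4]
  -- the first coordinate
  have hbet : ∀ i, ∃ b : F, ∀ w ∈ WW V H R, co (r • w) i 0 = co w i 0 + b * co w i 1 := by
    intro i
    obtain ⟨u, hu, huA⟩ := K.lift fun _ => lo 1
    obtain ⟨B, hB⟩ := hrel u hu _ huA i
    refine ⟨ent B 0 0 - 1, fun w hw => ?_⟩
    -- `w = z + (u v - v)` in the block `i`, `v = (y, 0)`
    obtain ⟨v, hv, hvc⟩ := K.surj fun _ => ![co w i 1, 0]
    obtain ⟨z, hz, hzc⟩ := K.surj fun _ => ![co w i 0 - co w i 1, 0]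
    have hvi : co v i = ![co w i 1, 0] := by rw [hvc]
    have hzi : co z i = ![co w i 0 - co w i 1, 0] := by rw [hzc]
    have huv := smul_mem_WW hu hv
    have h4 := hB v hv
    rw [hx0 v hv i (by rw [hvi]; rfl), hvi] at h4
    rw [hdep w hw (z + u • v) (add_mem hz huv) i (by
      rw [K.add z hz _ huv, Pi.add_apply, hzi, huA.1 v hv, hvi, aplo]
      apply ext2
      · simp
      · simp), hadd z hz _ huv i, hx0 z hz i (by rw [hzi]; rfl), hzi, h4, Pi.add_apply, ap_zero']
    simp
    ring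
  choose d hd using hdel
  choose b hb using hbet
  have hpow : ∀ n : ℕ, ∀ w ∈ WW V H R, ∀ i, co (r ^ n • w) i 1 = d i ^ n * co w i 1 := by
    intro n
    induction n with
    | zero =>
      intro w _ i
      rw [pow_zero, one_smul, pow_zero, one_mul]
    | succ n ih =>
      intro w hw i
      rw [pow_succ, mul_smul, ih _ (hWr w hw) i, hd i w hw, pow_succ]
      ring
  have hd1 : ∀ i, d i = 1 := by
    intro i
    obtain ⟨n, hn⟩ := hR2 ⟨r, hrR⟩
    have hn' : r ^ 2 ^ n = 1 := congrArg Subtype.val hn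
    obtain ⟨w, hw, hwc⟩ := K.surj fun _ => ![0, 1]
    have h3 := hpow (2 ^ n) w hw i
    rw [hn', one_smul, hwc] at h3
    have h4 : d i ^ 2 ^ n = 1 := by simpa using h3.symm
    have key : ∀ m : ℕ, ∀ x : F, x ^ 2 ^ m = 1 → x = 1 := by
      intro m
      induction m with
      | zero => intro x hx; simpa using hx
      | succ m ih =>
        intro x hx
        apply ih
        rw [pow_succ, pow_mul] at hx
        have h5 : (x ^ 2 ^ m + 1) * (x ^ 2 ^ m + 1) = 0 := by
          have h6 := add_self' K h2 i (x ^ 2 ^ m)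
          have h7 := add_self' K h2 i (1 : F)
          linear_combination hx + h6 + h7
        have h6 := mul_self_eq_zero.1 h5
        have h7 := add_self' K h2 i (1 : F)
        exact add_right_cancel (h6.trans h7.symm)
    exact key n _ h4
  refine ⟨b, fun v hv i => ?_, fun x hx h0 => ?_⟩
  · rw [apup]
    apply ext2
    · rw [hb i v hv]; rfl
    · rw [hd i v hv, hd1, one_mul]; rfl
  · exact hr x hx fun j => by rw [h0]; rfl

/-- the root groups in terms of their fixed points -/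
theorem mem_Pp_iff (amb : Amb V U T M) (a : Amal U T M H R t) (we : WE V U H R) (K : KNat V H R F k co) {i : Fin k}
    {y : Y} : y ∈ Pp V H R co a.RH i ↔ y ∈ R ∧ ∀ w ∈ WW V H R, co w i 1 = 0 → y • w = w := by
  classical
  refine ⟨fun h => ⟨h.1, fun w hw hwi => fix_Pp amb a we K h hw hwi⟩, ?_⟩
  rintro ⟨hyR, hy⟩
  obtain ⟨b, hb⟩ := exists_up K amb.cls.two a.RH a.R2 hyR fun x hx h => hy x hx (h i)
  have h1 : b = Pi.single i (b i) := by
    funext j
    by_cases hj : j = i
    · subst hj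
      rw [Pi.single_eq_same]
    · rw [Pi.single_eq_of_ne hj]
      obtain ⟨w, hw, hwc⟩ := K.surj (Pi.single j ![0, 1])
      have h3 := hy w hw (by rw [hwc, Pi.single_eq_of_ne (Ne.symm hj)]; rfl)
      have h4 := acts_up hb hw j
      rw [h3, hwc, Pi.single_eq_same] at h4
      have h5 := congrFun h4 0
      simpa using h5.symm
  refine ⟨hyR, b i, ?_⟩
  rw [← h1]
  exact hb

/-- **`LFac` for the natural type** -/
theorem lfac (amb : Amb V U T M) (a : Amal U T M H R t) (we : WE V U H R) (K : KNat V H R F k co) :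
    LFac V U H R (Pp V H R co a.RH) (Ps V H R co K amb.cls.two) where
  le := fun p r hr => hr.1
  fixJ := fun p r hr x hx => by
    have h1 := (mem_WJ amb a we K).1 hx
    exact fix_Pp amb a we K hr h1.1 (h1.2 p)
  ofJ := fun r hr h => by
    classical
    obtain ⟨b, hb⟩ := exists_up K amb.cls.two a.RH a.R2 hr fun x hx h1 => h x ((mem_WJ amb a we K).2 ⟨hx, h1⟩)
    have h1 := mem_iSup K amb.cls.two a.RH Finset.univ r hr b (fun i hi => absurd (Finset.mem_univ i) hi) hb
    have h2 : QQ H R ≤ ⨆ p, Pp V H R co a.RH p := by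
      obtain ⟨B, hB, hBR, hBQ⟩ := Amal.exists_not_QQ a amb
      obtain ⟨I, ⟨i, -⟩, -⟩ := exists_I amb a we K hB hBR hBQ
      refine le_trans ?_ (le_iSup _ i)
      intro q hq
      refine ⟨QQ_le hq, 0, ?_⟩
      have e : (fun j => up ((Pi.single i (0 : F) : Fin k → F) j)) = 1 := by
        funext j
        rw [Pi.single_zero, Pi.zero_apply, up_zero, Pi.one_apply]
      rw [e]
      exact Acts.of_triv fun w hw => Amal.QQ_fix a amb hq hw
    have h3 : QQ H R ⊔ ⨆ p ∈ (Finset.univ : Finset (Fin k)), Pp V H R co a.RH p ≤ ⨆ p, Pp V H R co a.RH p :=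
      sup_le h2 (iSup₂_le fun p _ => le_iSup _ p)
    exact h3 h1
  Ψle := fun p w hw => hw.1
  sup := by
    classical
    have key : ∀ s : Finset (Fin k), ∀ w ∈ WW V H R, (∀ j, j ∉ s → co w j 1 = 0) →
        w ∈ WJ V U H R ⊔ ⨆ p, Ps V H R co K amb.cls.two p := by
      intro s
      induction s using Finset.induction_on with
      | empty =>
        intro w hw h
        exact AddSubgroup.mem_sup_left ((mem_WJ amb a we K).2 ⟨hw, fun i => h i (Finset.notMem_empty i)⟩)
      | insert i s his ih =>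
        intro w hw h
        obtain ⟨z, hz, hzc⟩ := K.surj (Pi.single i (co w i))
        have h1 := ih (w + z) (add_mem hw hz) (fun j hj => by
          rw [K.add _ hw _ hz, hzc, Pi.add_apply]
          by_cases hji : j = i
          · subst hji
            rw [Pi.single_eq_same, Pi.add_apply]
            exact add_self' K amb.cls.two j _
          · rw [Pi.single_eq_of_ne hji, add_zero]
            exact h j (by rw [Finset.mem_insert, not_or]; exact ⟨hji, hj⟩))
        have h2 : z ∈ WJ V U H R ⊔ ⨆ p, Ps V H R co K amb.cls.two p := by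
          refine AddSubgroup.mem_sup_right (AddSubgroup.mem_iSup_of_mem i ⟨hz, fun j hj => ?_⟩)
          rw [hzc, Pi.single_eq_of_ne hj]
          rfl
        have h3 := add_mem h1 h2
        rwa [add_assoc, amb.cls.two, add_zero] at h3
    exact fun w hw => key Finset.univ w hw fun j hj => absurd (Finset.mem_univ j) hj
  orth := fun p p' hpp r hr x hx => fix_Pp amb a we K hr hx.1 (hx.2 p hpp)
  quad := fun p r hr x hx => by
    obtain ⟨hrR, b, hb⟩ := hr
    rw [mem_WJ amb a we K]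
    have h1 := smul_mem_WW (a.RH hrR) hx.1
    refine ⟨add_mem h1 hx.1, fun i => ?_⟩
    rw [K.add _ h1 _ hx.1, Pi.add_apply, acts_up hb hx.1 i]
    exact add_self' K amb.cls.two i _
  trans := fun p p' => by
    obtain ⟨r, hr, hrp⟩ := K.trans p p'
    obtain ⟨σ, hσ⟩ := K.line r hr
    obtain ⟨τ, hτ⟩ := K.perm r (a.RH hr)
    have hσp : σ p = p' := by
      obtain ⟨v, hv, hvc⟩ := K.surj (Pi.single p ![0, 1])
      have h1 : co (r • v) p' ≠ 0 := fun h2 => by
        have h3 := (hrp v hv).1 h2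
        rw [hvc, Pi.single_eq_same] at h3
        have h4 := congrFun h3 1
        simp at h4
      have h2 : co (r • v) (σ p) ≠ 0 := fun h2 => by
        have h3 := (hσ v hv p).1 (by rw [h2]; rfl)
        rw [hvc, Pi.single_eq_same] at h3
        simp at h3
      have h3 : ∀ j, co (r • v) j ≠ 0 → j = τ p := by
        intro j hj
        by_contra h4
        apply hj
        have h5 := (hτ v hv (τ.symm j)).2 (by
          rw [hvc, Pi.single_eq_of_ne]
          intro h6
          apply h4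
          rw [← h6, Equiv.apply_symm_apply])
        rwa [Equiv.apply_symm_apply] at h5
      rw [h3 _ h1, h3 _ h2]
    have hinv := H.inv_mem (a.RH hr)
    refine ⟨r, hr, ?_, ?_⟩
    · ext y
      rw [mem_conj, mem_Pp_iff amb a we K, mem_Pp_iff amb a we K]
      constructor
      · rintro ⟨h1, h2⟩
        refine ⟨R.mul_mem (R.mul_mem (R.inv_mem hr) h1) hr, fun w hw hwp => ?_⟩
        have h3 := h2 (r • w) (smul_mem_WW (a.RH hr) hw) (by rw [← hσp, hσ w hw p]; exact hwp)
        rw [mul_smul, mul_smul, h3, inv_smul_smul]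
      · rintro ⟨h1, h2⟩
        have e : r * (r⁻¹ * y * r) * r⁻¹ = y := by group
        refine ⟨?_, fun w hw hwp => ?_⟩
        · have h3 := R.mul_mem (R.mul_mem hr h1) (R.inv_mem hr)
          rwa [e] at h3
        · have h4 := smul_mem_WW hinv hw
          have h3 := h2 (r⁻¹ • w) h4 (by
            rw [← hσ _ h4 p, hσp, smul_inv_smul]
            exact hwp)
          rw [mul_smul, mul_smul, smul_inv_smul, smul_left_cancel_iff] at h3
          exact h3
    · ext w
      rw [mem_smul_as]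
      constructor
      · rintro ⟨h1, h2⟩
        refine ⟨smul_mem_WW hinv h1, fun j hj => ?_⟩
        rw [← hσ _ (smul_mem_WW hinv h1) j, smul_inv_smul]
        apply h2
        intro h3
        apply hj
        rw [← hσp] at h3
        exact σ.injective h3
      · rintro ⟨h1, h2⟩
        have h3 := smul_mem_WW (a.RH hr) h1
        rw [smul_inv_smul] at h3
        refine ⟨h3, fun j hj => ?_⟩
        have h4 := (hσ _ h1 (σ.symm j)).2 (h2 _ (by
          intro h5
          apply hj
          rw [← h5, Equiv.apply_symm_apply] at hσp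
          exact hσp))
        rwa [smul_inv_smul, Equiv.apply_symm_apply] at h4

/-- **`D₀`** -/
theorem mem_D0 (amb : Amb V U T M) (a : Amal U T M H R t) (we : WE V U H R) (K : KNat V H R F k co) {w : V} :
    w ∈ D0 V U H R ↔ w ∈ WW V H R ∧ co w = 0 := by
  constructor
  · rintro ⟨h1, h2⟩
    refine ⟨h1, ?_⟩
    have h3 : ∀ g ∈ H, ∀ i, co (g • w) i 1 = 0 := by
      intro g hg
      apply ((mem_WJ amb a we K).1 _).2
      refine ⟨smul_mem_WW hg h1, fun B hB hBR b hb => ?_⟩
      have h4 := h2 _ (amb.cls.conj B hB g⁻¹) (by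
        intro y hy
        rw [mem_conj, inv_inv] at hy
        have h5 := H.mul_mem (H.mul_mem (H.inv_mem hg) (a.RH (hBR hy))) hg
        have e : g⁻¹ * (g * y * g⁻¹) * g = y := by group
        rwa [e] at h5) _ (conj_mem_conj (g := g⁻¹) hb)
      rw [inv_inv, mul_smul, mul_smul, inv_smul_eq_iff] at h4
      exact h4
    obtain ⟨g, hg, hgA⟩ := K.lift fun _ => lo 1
    funext i
    have h4 := h3 1 H.one_mem i
    rw [one_smul] at h4
    have h5 := h3 g hg i
    rw [hgA.1 w h1 i, aplo] at h5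
    simp only [Matrix.cons_val_one, one_mul, h4, add_zero] at h5
    exact ext2 h5 h4
  · rintro ⟨h1, h2⟩
    refine ⟨h1, fun B hB hBH b hb => ?_⟩
    obtain ⟨x, hx, hxU, hxR⟩ := Amal.exists_conj a amb hB hBH
    have h3 := smul_mem_WW hx h1
    have h4 : co (x • w) = 0 := by
      obtain ⟨σ, hσ⟩ := K.perm x hx
      funext i
      have h5 := (hσ w h1 (σ.symm i)).2 (by rw [h2]; rfl)
      rwa [Equiv.apply_symm_apply] at h5
    have h5 : x • w ∈ WJ V U H R := (mem_WJ amb a we K).2 ⟨h3, fun i => by rw [h4]; rfl⟩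
    have h6 := h5.2 _ hxU hxR _ (conj_mem_conj (g := x) hb)
    rw [mul_smul, mul_smul, inv_smul_smul, smul_left_cancel_iff] at h6
    exact h6

/-- the field `faith` of `LIn` -/
theorem faith (amb : Amb V U T M) (a : Amal U T M H R t) (we : WE V U H R) (K : KNat V H R F k co)
    {A : Subgroup Y} (hA : A ∈ U) (hAH : A ≤ H) :
    ∀ u ∈ A, (∀ w ∈ WW V H R, u • w + w ∈ D0 V U H R) → u ∈ QQ H R := by
  intro u hu h
  have h1 : ∀ w ∈ WW V H R, u • w = w := by
    apply K.trivH u (hAH hu)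
    intro w hw
    have h2 := ((mem_D0 amb a we K).1 (h w hw)).2
    rw [K.add _ (smul_mem_WW (hAH hu) hw) _ hw] at h2
    have h3 := add_self K amb.cls.two (co w)
    exact add_right_cancel (h2.trans h3.symm)
  have h2 : u ∈ A ⊓ CW V H R := ⟨hu, h1⟩
  rw [Amal.inf_CW' a amb hA hAH] at h2
  exact h2.2

/-- the group `[Ψ_i, P_i]` in coordinates -/
theorem brk_le (amb : Amb V U T M) (a : Amal U T M H R t) (K : KNat V H R F k co) {i : Fin k} {x : V}
    (hx : x ∈ brk (Ps V H R co K amb.cls.two i) (Pp V H R co a.RH i)) :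
    x ∈ WW V H R ∧ ∃ s : F, co x = Pi.single i ![s, 0] := by
  unfold brk at hx
  have hz : (![0, 0] : Fin 2 → F) = 0 := ext2 rfl rfl
  induction hx using AddSubgroup.closure_induction with
  | mem x hx =>
    obtain ⟨w, hw, p, ⟨hpR, b, hb⟩, rfl⟩ := hx
    have h1 := smul_mem_WW (a.RH hpR) hw.1
    refine ⟨add_mem h1 hw.1, b * co w i 1, ?_⟩
    rw [K.add _ h1 _ hw.1]
    funext j
    rw [Pi.add_apply, acts_up hb hw.1 j]
    have h3 := fun y : F => add_self' K amb.cls.two j y
    by_cases hj : j = i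
    · subst hj
      rw [Pi.single_eq_same, Pi.single_eq_same]
      apply ext2
      · simp only [Pi.add_apply, Matrix.cons_val_zero]
        linear_combination h3 (co w j 0)
      · change co w j 1 + co w j 1 = 0
        exact h3 _
    · rw [Pi.single_eq_of_ne hj, Pi.single_eq_of_ne hj]
      apply ext2
      · simp only [Pi.add_apply, Matrix.cons_val_zero, Pi.zero_apply, zero_mul, add_zero, h3]
      · change co w j 1 + co w j 1 = 0
        exact h3 _
  | zero => exact ⟨zero_mem _, 0, by rw [co_zero K, hz, Pi.single_zero]⟩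
  | add x y _ _ h1 h2 =>
    obtain ⟨h3, s, hs⟩ := h1
    obtain ⟨h4, s', hs'⟩ := h2
    refine ⟨add_mem h3 h4, s + s', ?_⟩
    rw [K.add _ h3 _ h4, hs, hs', ← Pi.single_add]
    congr 1
    apply ext2
    · rfl
    · simp
  | neg x _ h1 =>
    have h3 : -x = x := by rw [neg_eq_iff_add_eq_zero, amb.cls.two]
    rw [h3]
    exact h1

/-- the field `mov` of `LIn` -/
theorem mov (amb : Amb V U T M) (a : Amal U T M H R t) (we : WE V U H R) (K : KNat V H R F k co)
    {A : Subgroup Y} {i : Fin k}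
    (hi : ∀ w ∈ WW V H R, ∀ s : F, s ≠ 0 → co w = Pi.single i ![s, 0] → ∃ u ∈ A, co (u • w) i 1 ≠ 0) :
    (∀ x ∈ brk (Ps V H R co K amb.cls.two i) (Pp V H R co a.RH i), x ∈ fx V A → x ∈ D0 V U H R) ∧
      (∃ u ∈ A, ∃ x ∈ brk (Ps V H R co K amb.cls.two i) (Pp V H R co a.RH i),
        u • x ∉ brk (Ps V H R co K amb.cls.two i) (Pp V H R co a.RH i)) ∧
      ∀ r ∈ Pp V H R co a.RH i, (∃ x ∈ Ps V H R co K amb.cls.two i, r • x ≠ x) →
        ∀ z ∈ brk (Ps V H R co K amb.cls.two i) (Pp V H R co a.RH i),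
          ∃ x ∈ Ps V H R co K amb.cls.two i, r • x + x + z ∈ D0 V U H R := by
  classical
  refine ⟨fun x hx hxA => ?_, ?_, ?_⟩
  · obtain ⟨hxW, s, hs⟩ := brk_le amb a K hx
    rw [mem_D0 amb a we K]
    refine ⟨hxW, ?_⟩
    by_cases h0 : s = 0
    · have hz : (![0, 0] : Fin 2 → F) = 0 := ext2 rfl rfl
      rw [hs, h0, hz, Pi.single_zero]
    · obtain ⟨u, hu, h1⟩ := hi x hxW s h0 hs
      rw [hxA u hu, hs, Pi.single_eq_same] at h1
      exact absurd rfl h1
  · -- `x = r w + w`, `w` with coordinates `(0, 1)`, `r = up 1`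
    obtain ⟨r, hr, hrA⟩ := K.unip (Pi.single i 1)
    obtain ⟨w, hw, hwc⟩ := K.surj (Pi.single i ![0, 1])
    have hx : r • w + w ∈ brk (Ps V H R co K amb.cls.two i) (Pp V H R co a.RH i) := by
      refine AddSubgroup.subset_closure ⟨w, ⟨hw, fun j hj => ?_⟩, r, ⟨hr, 1, hrA⟩, rfl⟩
      rw [hwc, Pi.single_eq_of_ne hj]
      rfl
    have h1 := smul_mem_WW (a.RH hr) hw
    obtain ⟨u, hu, h3⟩ := hi (r • w + w) (add_mem h1 hw) 1 one_ne_zero (by
      rw [K.add _ h1 _ hw]
      funext j
      rw [Pi.add_apply, acts_up hrA hw j, hwc]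
      have h3 := fun y : F => add_self' K amb.cls.two j y
      by_cases hj : j = i
      · subst hj
        rw [Pi.single_eq_same, Pi.single_eq_same, Pi.single_eq_same]
        apply ext2
        · simp
        · change (1 : F) + 1 = 0
          exact h3 _
      · rw [Pi.single_eq_of_ne hj, Pi.single_eq_of_ne hj, Pi.single_eq_of_ne hj]
        apply ext2
        · simp
        · simp)
    refine ⟨u, hu, _, hx, fun h4 => h3 ?_⟩
    obtain ⟨-, s, hs⟩ := brk_le amb a K h4
    rw [hs, Pi.single_eq_same]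
    rfl
  · rintro r ⟨hrR, b, hb⟩ ⟨x, hx, hrx⟩ z hz
    obtain ⟨hzW, s, hs⟩ := brk_le amb a K hz
    have hb0 : b ≠ 0 := by
      rintro rfl
      apply hrx
      exact Amal.QQ_fix a amb (mem_QQ_of_zero K amb.cls.two a.RH hrR hb fun j => by
        rw [Pi.single_zero, Pi.zero_apply]) hx.1
    obtain ⟨w, hw, hwc⟩ := K.surj (Pi.single i ![0, s / b])
    have h1 := smul_mem_WW (a.RH hrR) hw
    refine ⟨w, ⟨hw, fun j hj => by rw [hwc, Pi.single_eq_of_ne hj]; rfl⟩, ?_⟩
    rw [mem_D0 amb a we K]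
    refine ⟨add_mem (add_mem h1 hw) hzW, ?_⟩
    rw [K.add _ (add_mem h1 hw) _ hzW, K.add _ h1 _ hw, hs]
    funext j
    rw [Pi.add_apply, Pi.add_apply, acts_up hb hw j, hwc]
    have h3 := fun y : F => add_self' K amb.cls.two j y
    by_cases hj : j = i
    · subst hj
      rw [Pi.single_eq_same, Pi.single_eq_same, Pi.single_eq_same]
      apply ext2
      · simp [mul_div_cancel₀ _ hb0, h3]
      · simp [h3]
    · rw [Pi.single_eq_of_ne hj, Pi.single_eq_of_ne hj, Pi.single_eq_of_ne hj]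
      apply ext2
      · simp
      · simp

/-- `mov` for an opposite member -/
theorem mov_opp (amb : Amb V U T M) (a : Amal U T M H R t) (we : WE V U H R) (K : KNat V H R F k co)
    {A : Subgroup Y} {I : Set (Fin k)} (hO : Opp V H R co A I) {i : Fin k} (hi : i ∈ I) :
    (∀ x ∈ brk (Ps V H R co K amb.cls.two i) (Pp V H R co a.RH i), x ∈ fx V A → x ∈ D0 V U H R) ∧
      (∃ u ∈ A, ∃ x ∈ brk (Ps V H R co K amb.cls.two i) (Pp V H R co a.RH i),
        u • x ∉ brk (Ps V H R co K amb.cls.two i) (Pp V H R co a.RH i)) ∧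
      ∀ r ∈ Pp V H R co a.RH i, (∃ x ∈ Ps V H R co K amb.cls.two i, r • x ≠ x) →
        ∀ z ∈ brk (Ps V H R co K amb.cls.two i) (Pp V H R co a.RH i),
          ∃ x ∈ Ps V H R co K amb.cls.two i, r • x + x + z ∈ D0 V U H R := by
  classical
  apply mov amb a we K
  intro w hw s hs hwc
  obtain ⟨u, hu, huA⟩ := hO.full (Pi.single i 1) fun j hj => by
    rw [Pi.single_eq_of_ne]
    rintro rfl
    exact hj hi
  refine ⟨u, hu, ?_⟩
  rw [huA.1 w hw i, aplo, hwc, Pi.single_eq_same, Pi.single_eq_same]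
  simpa using hs

/-- the field `exact` of `LIn`, from an offender `B₁ ≤ R` (used for `H' = H^t`, `B₁ = A ⊓ Q`) -/
theorem exact_of (amb : Amb V U T M) (a : Amal U T M H R t) (K : KNat V H R F k co)
    {B₁ : Subgroup Y} (hB : B₁ ≤ R) (hel : ElAb B₁) (hQ : ¬ B₁ ≤ QQ H R)
    (hoff : Nat.card ↥(B₁ ⊓ QQ H R) * Nat.card ↥(WW V H R) ≤ Nat.card B₁ * Nat.card ↥(fx V B₁ ⊓ WW V H R)) :
    ∃ Δ : Set (Fin k), Δ.Nonempty ∧ (∀ b ∈ B₁, b ∈ ⨆ p ∈ Δ, Pp V H R co a.RH p) ∧
      ∀ p ∈ Δ, ∀ r ∈ Pp V H R co a.RH p, ∃ b ∈ B₁, b⁻¹ * r ∈ QQ H R := by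
  classical
  obtain ⟨I, hI1, hI2⟩ := K.off B₁ hB hel hQ hoff
  have hne : ∃ i, i ∈ I := by
    by_contra hI
    push Not at hI
    apply hQ
    intro x hx
    obtain ⟨b, hb, hxb⟩ := hI1 x hx
    exact mem_QQ_of_zero K amb.cls.two a.RH (hB hx) hxb fun i => hb i (hI i)
  obtain ⟨i₀, hi₀⟩ := hne
  refine ⟨I, ⟨i₀, hi₀⟩, fun x hx => ?_, fun p hp r hr => ?_⟩
  · obtain ⟨b, hb, hxb⟩ := hI1 x hx
    have h1 := mem_iSup K amb.cls.two a.RH (Finset.univ.filter fun i => i ∈ I) x (hB hx) b (fun i hi => hb i (by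
      intro h2
      apply hi
      rw [Finset.mem_filter]
      exact ⟨Finset.mem_univ i, h2⟩)) hxb
    have h2 : QQ H R ≤ ⨆ p ∈ I, Pp V H R co a.RH p := by
      refine le_trans ?_ (le_iSup₂_of_le i₀ hi₀ le_rfl)
      intro q hq
      refine ⟨QQ_le hq, 0, ?_⟩
      have e : (fun j => up ((Pi.single i₀ (0 : F) : Fin k → F) j)) = 1 := by
        funext j
        rw [Pi.single_zero, Pi.zero_apply, up_zero, Pi.one_apply]
      rw [e]
      exact Acts.of_triv fun w hw => Amal.QQ_fix a amb hq hw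
    have h3 : (⨆ p ∈ Finset.univ.filter fun i => i ∈ I, Pp V H R co a.RH p) ≤ ⨆ p ∈ I, Pp V H R co a.RH p :=
      iSup₂_le fun p hp => le_iSup₂_of_le p (Finset.mem_filter.1 hp).2 le_rfl
    exact sup_le h2 h3 h1
  · obtain ⟨hrR, b, hb⟩ := hr
    obtain ⟨x, hx, hxb⟩ := hI2 (Pi.single p b) fun i hi => by
      rw [Pi.single_eq_of_ne]
      rintro rfl
      exact hi hp
    refine ⟨x, hx, ?_⟩
    have h1 := acts_upmul (a.RH hrR) (acts_upinv (a.RH (hB hx)) hxb) hb
    exact mem_QQ_of_zero K amb.cls.two a.RH (R.mul_mem (R.inv_mem (hB hx)) hrR) h1 fun i => by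
      rw [Pi.add_apply, Pi.neg_apply, neg_add_cancel]

end amb

end Cfsg.Agent.Omega.NO1.TH.K.LF

end

section


/-!
# N1, natural type, `k` factors: an opposite member generates `H` with `R`

`Opp.not_le` : a subgroup of `H` which acts on `W` as the product of the opposite root groups `i ∈ I ≠ ∅` is not in `M`.
`exists_opp` : opposite members exist, with the support of a given member of `R`.
-/

set_option autoImplicit false
set_option linter.unusedSectionVars false
set_option linter.dupNamespace false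

namespace Cfsg.Agent.Omega.NO1.TH.K

open Subgroup Cfsg.Agent.Omega.NO1.AB Cfsg.Agent.Omega.FFBr Cfsg.Agent.Lib.SL2Mat
open Cfsg.Agent.Omega.NatPair (ap)
open scoped Pointwise

universe u

variable {Y : Type u} [Group Y] {V : Type u} [AddCommGroup V] [DistribMulAction Y V]

section coords

variable {H R : Subgroup Y} {F : Type} [Field F] {k : ℕ} {co : V → Fin k → Fin 2 → F}

/-- the elements of `SL₂(F)^k` which are induced by elements of `L` -/
def ind (_ : KNat V H R F k co) {L : Subgroup Y} (hL : L ≤ H) :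
    Subgroup (Fin k → Matrix.SpecialLinearGroup (Fin 2) F) where
  carrier := {A | ∃ g ∈ L, Acts V H R co g A}
  one_mem' := ⟨1, L.one_mem, Acts.one⟩
  mul_mem' := by
    rintro A B ⟨g, hg, h1⟩ ⟨h, hh, h2⟩
    exact ⟨g * h, L.mul_mem hg hh, h1.mul (hL hh) h2⟩
  inv_mem' := by
    rintro A ⟨g, hg, h1⟩
    exact ⟨g⁻¹, L.inv_mem hg, h1.inv (hL hg)⟩

theorem Acts.inj (K : KNat V H R F k co) {g : Y} {A B : Fin k → Matrix.SpecialLinearGroup (Fin 2) F}
    (h1 : Acts V H R co g A) (h2 : Acts V H R co g B) : A = B := by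
  funext i
  apply NatPair.ap_inj
  intro x
  obtain ⟨v, hv, hvi, _⟩ := K.exists_at i x
  rw [← hvi, ← h1.1 v hv i, ← h2.1 v hv i]

theorem mulSingle_up [DecidableEq (Fin k)] (i : Fin k) (b : F) :
    (fun l => up ((Pi.single i b : Fin k → F) l)) = Pi.mulSingle i (up b) := by
  funext l
  by_cases h : l = i
  · subst h
    rw [Pi.single_eq_same, Pi.mulSingle_eq_same]
  · rw [Pi.single_eq_of_ne h, Pi.mulSingle_eq_of_ne h, up_zero]

theorem mulSingle_lo [DecidableEq (Fin k)] (i : Fin k) (b : F) :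
    (fun l => lo ((Pi.single i b : Fin k → F) l)) = Pi.mulSingle i (lo b) := by
  funext l
  by_cases h : l = i
  · subst h
    rw [Pi.single_eq_same, Pi.mulSingle_eq_same]
  · rw [Pi.single_eq_of_ne h, Pi.mulSingle_eq_of_ne h, lo_zero]

theorem inv_mul_one (A : Fin k → Matrix.SpecialLinearGroup (Fin 2) F) : (fun l => (A l)⁻¹) * A = fun _ => 1 := by
  funext l
  exact inv_mul_cancel _

/-- `SL₂(F)` in one block is generated by `R` and an opposite group -/
theorem ind_single (K : KNat V H R F k co) {L : Subgroup Y} (hL : L ≤ H) (hR : R ≤ L) {B : Subgroup Y} (hB : B ≤ L)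
    {I : Set (Fin k)} (hO : Opp V H R co B I) {i : Fin k} (hi : i ∈ I)
    (A : Matrix.SpecialLinearGroup (Fin 2) F) : Pi.mulSingle i A ∈ ind K hL := by
  obtain ⟨p, q, r, s, rfl⟩ := exists_up_lo A
  have hup : ∀ b : F, Pi.mulSingle i (up b) ∈ ind K hL := by
    intro b
    obtain ⟨g, hg, h1⟩ := K.unip (Pi.single i b)
    refine ⟨g, hR hg, ?_⟩
    rw [← mulSingle_up]
    exact h1
  have hlo : ∀ b : F, Pi.mulSingle i (lo b) ∈ ind K hL := by
    intro b
    obtain ⟨g, hg, h1⟩ := hO.full (Pi.single i b) fun l hl => by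
      rw [Pi.single_eq_of_ne]
      rintro rfl
      exact hl hi
    refine ⟨g, hB hg, ?_⟩
    rw [← mulSingle_lo]
    exact h1
  rw [Pi.mulSingle_mul, Pi.mulSingle_mul, Pi.mulSingle_mul]
  exact mul_mem (mul_mem (mul_mem (hup p) (hlo q)) (hup r)) (hlo s)

/-- transport to another block -/
theorem ind_trans [Finite F] (K : KNat V H R F k co) (two : ∀ v : V, v + v = 0) {L : Subgroup Y} (hL : L ≤ H)
    (hR : R ≤ L) {i : Fin k} (hi : ∀ A, Pi.mulSingle i A ∈ ind K hL) (j : Fin k)
    (A : Matrix.SpecialLinearGroup (Fin 2) F) : Pi.mulSingle j A ∈ ind K hL := by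
  classical
  obtain ⟨r, hr, hrs⟩ := K.trans i j
  have hrH : r ∈ H := hL (hR hr)
  obtain ⟨σ, hσ⟩ := K.perm r hrH
  have hσi : σ i = j := by
    by_contra hne
    obtain ⟨v, hv, hvi, hv0⟩ := K.exists_at i ![1, 0]
    have h1 : co (r • v) j ≠ 0 := by
      rw [Ne, hrs v hv, hvi]
      intro h2
      have h3 : (1 : F) = 0 := congrFun h2 0
      exact one_ne_zero h3
    apply h1
    have h2 := (hσ v hv (σ.symm j)).2 (hv0 _ fun h3 => hne (by rw [← h3, Equiv.apply_symm_apply]))
    rwa [Equiv.apply_symm_apply] at h2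
  -- conjugation with `r`
  have key : ∀ A : Matrix.SpecialLinearGroup (Fin 2) F, ∃ (g : Y) (B : Matrix.SpecialLinearGroup (Fin 2) F), g ∈ L ∧
      Acts V H R co g (Pi.mulSingle i A) ∧ Acts V H R co (r * g * r⁻¹) (Pi.mulSingle j B) := by
    intro A
    obtain ⟨g, hg, h1⟩ := hi A
    have hgH := hL hg
    obtain ⟨B, hB⟩ := K.norm r hrH g hgH _ h1.1
    have hcH : r * g * r⁻¹ ∈ H := H.mul_mem (H.mul_mem hrH hgH) (H.inv_mem hrH)
    have h2 : B = Pi.mulSingle j (B j) := by
      funext l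
      by_cases h : l = j
      · subst h
        rw [Pi.mulSingle_eq_same]
      · rw [Pi.mulSingle_eq_of_ne h]
        apply NatPair.ap_inj
        intro x
        obtain ⟨v, hv, hvl, _⟩ := K.exists_at l x
        have h3 := hB v hv l
        rw [hvl] at h3
        rw [← h3, NatPair.ap_one]
        -- the block `σ⁻¹ l ≠ i` of `g` is trivial
        have h4 : σ.symm l ≠ i := by
          intro h5
          apply h
          rw [← hσi, ← h5, Equiv.apply_symm_apply]
        have hvr : r⁻¹ • v ∈ WW V H R := smul_mem_WW (H.inv_mem hrH) hv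
        have h5 : co (g • r⁻¹ • v + r⁻¹ • v) (σ.symm l) = 0 := by
          rw [K.add _ (smul_mem_WW hgH hvr) _ hvr, Pi.add_apply, h1.1 _ hvr, Pi.mulSingle_eq_of_ne h4,
            NatPair.ap_one]
          funext m
          exact K.ff two i _
        have h6 := (hσ _ (add_mem (smul_mem_WW hgH hvr) hvr) (σ.symm l)).2 h5
        rw [Equiv.apply_symm_apply, smul_add, smul_inv_smul, ← mul_smul, ← mul_smul,
          K.add _ (smul_mem_WW hcH hv) _ hv, Pi.add_apply] at h6
        have h7 : co ((r * g * r⁻¹) • v) l + co v l + co v l = co v l := by rw [h6, zero_add]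
        rw [add_assoc] at h7
        have h8 : co v l + co v l = 0 := by
          funext m
          exact K.ff two i _
        rw [h8, add_zero, hvl] at h7
        exact h7
    refine ⟨g, B j, hg, h1, ?_, fun d hd h0 => ?_⟩
    · rw [← h2]; exact hB
    · have h3 : r⁻¹ • d ∈ WW V H R := smul_mem_WW (H.inv_mem hrH) hd
      have h4 : co (r⁻¹ • d) = 0 := by
        funext l
        exact (hσ _ h3 l).1 (by rw [smul_inv_smul, h0]; rfl)
      rw [mul_smul, mul_smul, h1.2 _ h3 h4, smul_inv_smul]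
  choose g B hg h1 h2 using key
  have hinj : Function.Injective B := by
    intro A A' hAA
    -- `r g r⁻¹` and `r g' r⁻¹` act alike
    have h3 : ∀ w ∈ WW V H R, (g A) • w = (g A') • w := by
      intro w hw
      have h4 := h2 A
      have h5 := h2 A'
      rw [← hAA] at h5
      have hrw : r • w ∈ WW V H R := smul_mem_WW hrH hw
      have hcH : ∀ A, r * g A * r⁻¹ ∈ H := fun A => H.mul_mem (H.mul_mem hrH (hL (hg A))) (H.inv_mem hrH)
      have h6 := K.fix_of_one (x := (r * g A' * r⁻¹)⁻¹ * (r * g A * r⁻¹)) (by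
        have h7 := (h5.inv (hcH A')).mul (hcH A) h4
        rwa [inv_mul_one] at h7) (H.mul_mem (H.inv_mem (hcH A')) (hcH A)) hrw
      rw [mul_smul, inv_smul_eq_iff] at h6
      have e : ∀ x : Y, (r * x * r⁻¹) • r • w = r • x • w := by
        intro x
        rw [← mul_smul, ← mul_smul]
        congr 1
        group
      rw [e, e, smul_left_cancel_iff] at h6
      exact h6
    have h4 : Acts V H R co (g A) (Pi.mulSingle i A') := by
      refine ⟨fun v hv l => ?_, fun d hd h0 => ?_⟩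
      · rw [h3 v hv]
        exact (h1 A').1 v hv l
      · rw [h3 d hd]
        exact (h1 A').2 d hd h0
    have h5 := Acts.inj K (h1 A) h4
    have h6 := congrFun h5 i
    rwa [Pi.mulSingle_eq_same, Pi.mulSingle_eq_same] at h6
  obtain ⟨A', hA'⟩ := Finite.surjective_of_injective hinj A
  refine ⟨r * g A' * r⁻¹, L.mul_mem (L.mul_mem (hR hr) (hg A')) (L.inv_mem (hR hr)), ?_⟩
  rw [← hA']
  exact h2 A'

theorem ind_top [Finite F] (K : KNat V H R F k co) (two : ∀ v : V, v + v = 0) {L : Subgroup Y} (hL : L ≤ H)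
    (hR : R ≤ L) {B : Subgroup Y} (hB : B ≤ L) {I : Set (Fin k)} (hI : I.Nonempty) (hO : Opp V H R co B I)
    (A : Fin k → Matrix.SpecialLinearGroup (Fin 2) F) : ∃ g ∈ L, Acts V H R co g A := by
  classical
  obtain ⟨i, hi⟩ := hI
  have h1 : A ∈ ind K hL := Subgroup.pi_mem_of_mulSingle_mem A fun j =>
    ind_trans K two hL hR (fun A => ind_single K hL hR hB hO hi A) j (A j)
  exact h1

end coords

section members

variable [Finite Y] [Finite V] {U : Set (Subgroup Y)} {T : Sylow 2 Y} {M H R : Subgroup Y} {t : Y} {F : Type} [Field F]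
  {k : ℕ} {co : V → Fin k → Fin 2 → F}

/-- **an opposite group is not in `M`** -/
theorem Opp.not_le [Finite F] (K : KNat V H R F k co) (amb : Amb V U T M) (a : Amal U T M H R t) {B : Subgroup Y}
    (hBH : B ≤ H) {I : Set (Fin k)} (hI : I.Nonempty) (hO : Opp V H R co B I) : ¬ B ≤ M := by
  intro hBM
  have hRM : R ≤ M := a.RT.trans amb.TM
  have h1 := K.gen (M ⊓ H) (le_inf hRM a.RH) inf_le_right fun h hh A hA => by
    obtain ⟨g, hg, h2⟩ := ind_top K amb.two (L := M ⊓ H) inf_le_right (le_inf hRM a.RH) (le_inf hBM hBH) hI hO A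
    have h3 : Acts V H R co (g⁻¹ * h) fun _ => 1 := by
      have h4 := (h2.inv hg.2).mul hh hA
      rwa [inv_mul_one] at h4
    have h4 : ∀ w ∈ WW V H R, (g⁻¹ * h) • w = w := fun w hw =>
      K.fix_of_one h3 (H.mul_mem (H.inv_mem hg.2) hh) hw
    have h5 : zpowers (g⁻¹ * h) ≤ M := Amal.ker_le_M a amb (by
      intro x hx v hv
      have h6 : zpowers (g⁻¹ * h) ≤ MulAction.stabilizer Y v := by
        rw [zpowers_le, MulAction.mem_stabilizer_iff]
        exact h4 v (fx_le_WW hv)
      exact h6 hx)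
    have h6 := M.mul_mem hg.1 (h5 (mem_zpowers _))
    rw [mul_inv_cancel_left] at h6
    exact ⟨h6, hh⟩
  apply Amal.H_not_le a amb
  rw [← h1]
  exact inf_le_left

/-- `⟨R, U₁⟩ = H` -/
theorem Opp.gen [Finite F] (K : KNat V H R F k co) (amb : Amb V U T M) (a : Amal U T M H R t) {B : Subgroup Y}
    (hBH : B ≤ H) {I : Set (Fin k)} (hI : I.Nonempty) (hO : Opp V H R co B I) : R ⊔ B = H :=
  a.gen hBH (hO.not_le K amb a hBH hI)

/-- opposite members -/
theorem exists_opp (K : KNat V H R F k co) {B : Subgroup Y} (hBH : B ≤ H) {I : Set (Fin k)}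
    (hS : Supp V H R co B I) : ∃ h ∈ H, (Acts V H R co h fun _ => wm 1 one_ne_zero) ∧
      Opp V H R co (MulAut.conj h • B) I := by
  obtain ⟨h, hh, hA⟩ := K.lift fun _ => wm 1 one_ne_zero
  exact ⟨h, hh, hA, hS.opp hh hA hBH⟩

end members

end Cfsg.Agent.Omega.NO1.TH.K

end
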