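import Cfsg.Agent.Mrg.Omega.NO1.TH.Fact
import Cfsg.Agent.Mrg.Omega.NO1.AB.Beta

section


/-!
# N1, BETA, the amalgam `(H, H')`: (1) of bb OMEGA 20297 for any type (helper503; #20646 (e))

`W = WW V H R`, `W' = WW V H' R`, `Q = QQ H R`, `Q' = QQ H' R`, `A ≤ H` a member with `W' ≤ E_A`, `B₁ = A ∩ Q`,
`K = B₁ ∩ Q'`:
* `Amal.noOver` : no over-offender, for `B ≤ R` elementary abelian;
* `Amal.e_one` : `|K| |W'| = |B₁| |C_{W'}(B₁)|`, `C_E(K) = W + W' + F_A`, `|K| |W + W' + F_A| = |A| |F_A|`;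
* `Amal.e_fx` : `C_V(K) = W + W' + F_A` if `K ≠ 1`;
* `Amal.e_off` : `B₁` is an (exact) offender on `W'`;
* `Amal.e_S` : the elements `s_x`, `x ∈ W + W'`, are `|A / K|` in number.
-/

set_option autoImplicit false
set_option linter.unusedSectionVars false

namespace Cfsg.Agent.Omega.NO1.TH

open Subgroup Cfsg.Agent.Omega.NO1.AB Cfsg.Agent.Omega.FFBr
open scoped Pointwise

universe u

variable {Y : Type u} [Group Y] {V : Type u} [AddCommGroup V] [DistribMulAction Y V]

theorem arith_e {w w' i x y z m n k b α f e g : ℕ} (hw : 0 < w) (hi : 0 < i) (hy : 0 < y) (hm : 0 < m)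
    (hk : 0 < k) (hf : 0 < f) (h1 : x * i = w * w') (h2 : z * i = w * y)
    (h3 : z * n = w * m) (h4 : w * b = α * n) (h5 : k * e ≤ f * α) (h6 : g ≤ e) (h7 : g * m = x * f)
    (h8 : b * y ≤ k * w') : k * w' = b * y ∧ e ≤ g ∧ k * g = α * f := by
  have e2 : x * y = z * w' := by
    apply Nat.eq_of_mul_eq_mul_right (Nat.mul_pos hi hw)
    calc x * y * (i * w) = (x * i) * (w * y) := by ring
      _ = w * w' * (z * i) := by rw [h1, h2]
      _ = _ := by ring
  have e4 : z * b = m * α := by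
    apply Nat.eq_of_mul_eq_mul_left hw
    calc w * (z * b) = z * (w * b) := by ring
      _ = z * n * α := by rw [h4]; ring
      _ = w * m * α := by rw [h3]
      _ = _ := by ring
  have e5 : k * x ≤ α * m := by
    apply Nat.le_of_mul_le_mul_right _ hf
    calc k * x * f = k * (x * f) := by ring
      _ = k * (g * m) := by rw [h7]
      _ ≤ k * (e * m) := Nat.mul_le_mul_left _ (Nat.mul_le_mul_right _ h6)
      _ = k * e * m := by ring
      _ ≤ f * α * m := Nat.mul_le_mul_right _ h5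
      _ = _ := by ring
  have hz : 0 < z := by
    rcases Nat.eq_zero_or_pos z with h0 | h0
    · rw [h0, zero_mul] at h3
      exact absurd h3.symm (Nat.mul_pos hw hm).ne'
    · exact h0
  have e6 : k * w' ≤ b * y := by
    apply Nat.le_of_mul_le_mul_left _ hz
    calc z * (k * w') = k * (z * w') := by ring
      _ = k * x * y := by rw [← e2]; ring
      _ ≤ α * m * y := Nat.mul_le_mul_right _ e5
      _ = z * b * y := by rw [e4]; ring
      _ = _ := by ring
  have e7 := le_antisymm e6 h8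
  have e8 : α * m = k * x := by
    apply Nat.eq_of_mul_eq_mul_right hy
    calc α * m * y = z * b * y := by rw [e4]; ring
      _ = z * (b * y) := by ring
      _ = k * (z * w') := by rw [← e7]; ring
      _ = _ := by rw [← e2]; ring
  have e9 : e ≤ g := by
    apply Nat.le_of_mul_le_mul_left _ (Nat.mul_pos hk hm)
    calc k * m * e = m * (k * e) := by ring
      _ ≤ m * (f * α) := Nat.mul_le_mul_left _ h5
      _ = α * m * f := by ring
      _ = k * (x * f) := by rw [e8]; ring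
      _ = _ := by rw [← h7]; ring
  refine ⟨e7, e9, ?_⟩
  apply Nat.eq_of_mul_eq_mul_right hm
  calc k * g * m = k * (g * m) := by ring
    _ = k * x * f := by rw [h7]; ring
    _ = _ := by rw [← e8]; ring

/-- the count of `ANoOver` -/
theorem noOver_of [Finite Y] [Finite V] {H R : Subgroup Y} (hno : ANoOver (XH V H R) (Wm V H R)) {B : Subgroup Y}
    (hBH : B ≤ H) (hB : ElAb B) : Nat.card B * Nat.card ↥(WW V H R ⊓ fx V B) ≤
      Nat.card ↥(WW V H R) * Nat.card ↥(B ⊓ CW V H R) := by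
  have h1 := hno ((B.subgroupOf H).map (pr V H R)) (by
    rintro _ ⟨x, hx, rfl⟩ _ ⟨y, hy, rfl⟩
    rw [← map_mul, ← map_mul]
    congr 1
    exact Subtype.ext (hB.1 x hx y hy)) (by
    rintro _ ⟨x, hx, rfl⟩
    rw [← map_mul]
    have : x * x = 1 := Subtype.ext (hB.2 x hx)
    rw [this, map_one])
  have h2 := card_im (V := V) (R := R) hBH
  have h3 := card_cv (V := V) (R := R) hBH
  rw [← h2, ← h3]
  calc _ = Nat.card ↥((B.subgroupOf H).map (pr V H R)) *
        (Nat.card ↥(B ⊓ CW V H R) * Nat.card ↥(WW V H R ⊓ fx V B)) := mul_assoc _ _ _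
    _ ≤ _ := Nat.mul_le_mul_right _ h1
    _ = _ := by ring

/-- an offender from the orders -/
theorem aOff_of [Finite Y] [Finite V] {H R : Subgroup Y} {B : Subgroup Y} (hBH : B ≤ H) (hB : ElAb B)
    (hBQ : ¬ B ≤ CW V H R) (hc : Nat.card ↥(WW V H R) * Nat.card ↥(B ⊓ CW V H R) ≤
      Nat.card B * Nat.card ↥(WW V H R ⊓ fx V B)) : AOff (Wm V H R) ((B.subgroupOf H).map (pr V H R)) where
  comm := by
    rintro _ ⟨x, hx, rfl⟩ _ ⟨y, hy, rfl⟩
    rw [← map_mul, ← map_mul]
    congr 1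
    exact Subtype.ext (hB.1 x hx y hy)
  sq := by
    rintro _ ⟨x, hx, rfl⟩
    rw [← map_mul]
    have : x * x = 1 := Subtype.ext (hB.2 x hx)
    rw [this, map_one]
  ne := by
    intro h1
    apply hBQ
    intro b hb w hw
    have h2 : pr V H R ⟨b, hBH hb⟩ ∈ (B.subgroupOf H).map (pr V H R) := ⟨_, hb, rfl⟩
    rw [h1, mem_bot, pr_eq_one] at h2
    exact h2 w hw
  le := by
    have h2 := card_im (V := V) (R := R) hBH
    have h3 := card_cv (V := V) (R := R) hBH
    rw [← h2, ← h3] at hc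
    have h4 : 0 < Nat.card ↥(B ⊓ CW V H R) := Nat.card_pos
    have h5 : 0 < Nat.card ↥(WW V H R ⊓ fx V B) := Nat.card_pos
    have h6 := Nat.mul_pos h4 h5
    apply Nat.le_of_mul_le_mul_right _ h6
    calc _ = _ := (mul_assoc _ _ _).symm
      _ = _ := by rw [mul_right_comm]
      _ ≤ _ := hc
      _ = _ := mul_assoc _ _ _

namespace Amal

variable {U : Set (Subgroup Y)} {T : Sylow 2 Y} {M H H' R : Subgroup Y} {t : Y}

/-- **no over-offender** -/
theorem noOver [Finite Y] [Finite V] (a : Amal U T M H R t) (h : Amb V U T M) (we : WE V U H R) {B : Subgroup Y}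
    (hBR : B ≤ R) (hB : ElAb B) : Nat.card B * Nat.card ↥(fx V B ⊓ WW V H R) ≤
      Nat.card ↥(B ⊓ QQ H R) * Nat.card ↥(WW V H R) := by
  obtain ⟨P, M₁, _, _, hno, _⟩ := a.ff' h we
  have h1 := noOver_of hno (hBR.trans a.RH) hB
  rw [inf_CW a h hBR] at h1
  rw [inf_comm (fx V B), mul_comm (Nat.card ↥(B ⊓ QQ H R))]
  exact h1

variable [Finite Y] [Finite V] (a : Amal U T M H R t) (a' : Amal U T M H' R t) (h : Amb V U T M) (we : WE V U H R)
  (we' : WE V U H' R)
include a a' h we we'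

/-- **(1) of #20297, any type** -/
theorem e_one {A : Subgroup Y} (hA : A ∈ U) (hAH : A ≤ H) (hE : WW V H' R ≤ Ee V A) :
    Nat.card ↥(A ⊓ QQ H R ⊓ QQ H' R) * Nat.card ↥(WW V H' R) =
        Nat.card ↥(A ⊓ QQ H R) * Nat.card ↥(fx V (A ⊓ QQ H R) ⊓ WW V H' R) ∧
      fx V (A ⊓ QQ H R ⊓ QQ H' R) ⊓ Ee V A = WW V H R ⊔ WW V H' R ⊔ fx V A ∧
      Nat.card ↥(A ⊓ QQ H R ⊓ QQ H' R) * Nat.card ↥(WW V H R ⊔ WW V H' R ⊔ fx V A) =
        Nat.card A * Nat.card ↥(fx V A) := by
  have hm := h.cls.mem A hA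
  set W := WW V H R with hW
  set W' := WW V H' R with hW'
  set F := fx V A with hF
  set E := Ee V A with hEd
  set B₁ := A ⊓ QQ H R with hB₁
  set K := B₁ ⊓ QQ H' R with hK
  have hWE : W ≤ E := a.WW_le_Ee h we hA hAH
  have hZ : fx V B₁ = W ⊔ F := a.fx_eq h we hA hAH
  have hWZ : W ≤ fx V B₁ := by rw [hZ]; exact le_sup_left
  have hX : W ⊔ W' ⊔ F ≤ fx V K ⊓ E := by
    refine sup_le (sup_le ?_ ?_) ?_
    · exact le_inf (hWZ.trans (fx_mono inf_le_left)) hWE
    · exact le_inf (fun v hv b hb => Amal.QQ_fix a' h hb.2 hv) hE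
    · exact le_inf (fx_mono (inf_le_left.trans inf_le_left)) hm.FE
  have c1 := card_sup_as W W'
  have c2 := card_sup_as W (fx V B₁ ⊓ W')
  have i2 : W ⊓ (fx V B₁ ⊓ W') = W ⊓ W' := by
    rw [← inf_assoc, inf_eq_left.2 hWZ]
  rw [i2] at c2
  have i3 : (W ⊔ W') ⊓ fx V B₁ = W ⊔ fx V B₁ ⊓ W' := by
    rw [sup_inf_assoc_of_le _ hWZ, inf_comm W']
  have i4 : (W ⊔ W') ⊓ fx V B₁ = W ⊔ (W ⊔ W') ⊓ F := by
    rw [hZ, inf_comm, sup_inf_assoc_of_le _ le_sup_left, inf_comm F]
  have c3 := card_sup_as W ((W ⊔ W') ⊓ F)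
  have i5 : W ⊓ ((W ⊔ W') ⊓ F) = W ⊓ F := by
    rw [← inf_assoc, inf_eq_left.2 (le_sup_left : W ≤ W ⊔ W')]
  rw [i5, ← i4, i3] at c3
  have c4 : Nat.card W * Nat.card B₁ = Nat.card A * Nat.card ↥(W ⊓ F) := a.exact' h we hA hAH
  have c5 := h.cls.mu A hA K (inf_le_left.trans inf_le_left)
  rw [hm.card_E h.two] at c5
  have c6 := Nat.card_le_card_of_injective _ (AddSubgroup.inclusion_injective hX)
  have c7 := card_sup_as (W ⊔ W') F
  have c8 := a'.noOver h we' (B := B₁) (inf_le_right.trans QQ_le) (ElAb.mono (Mem.elAb hm) inf_le_left)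
  obtain ⟨r1, r2, r3⟩ := arith_e (w := Nat.card W) (w' := Nat.card W') (i := Nat.card ↥(W ⊓ W'))
    (x := Nat.card ↥(W ⊔ W')) (y := Nat.card ↥(fx V B₁ ⊓ W')) (z := Nat.card ↥(W ⊔ fx V B₁ ⊓ W'))
    (m := Nat.card ↥((W ⊔ W') ⊓ F)) (n := Nat.card ↥(W ⊓ F)) (k := Nat.card K) (b := Nat.card B₁)
    (α := Nat.card A) (f := Nat.card F) (e := Nat.card ↥(fx V K ⊓ E)) (g := Nat.card ↥(W ⊔ W' ⊔ F))
    Nat.card_pos Nat.card_pos Nat.card_pos Nat.card_pos Nat.card_pos Nat.card_pos
    c1 c2 c3 c4 c5 c6 c7 c8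
  exact ⟨r1, (eq_of_le_as hX r2).symm, r3⟩

/-- `C_V(K) = W + W' + F` -/
theorem e_fx {A : Subgroup Y} (hA : A ∈ U) (hAH : A ≤ H) (hE : WW V H' R ≤ Ee V A)
    (hK : A ⊓ QQ H R ⊓ QQ H' R ≠ ⊥) :
    fx V (A ⊓ QQ H R ⊓ QQ H' R) = WW V H R ⊔ WW V H' R ⊔ fx V A := by
  rw [← (e_one a a' h we we' hA hAH hE).2.1]
  exact (inf_eq_left.2 (fx_le_Ee a h hA (inf_le_left.trans inf_le_left) hK)).symm

/-- `B₁` is an offender on `W'` -/
theorem e_off {A : Subgroup Y} (hA : A ∈ U) (hAH : A ≤ H) (hE : WW V H' R ≤ Ee V A)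
    (hn : ¬ A ⊓ QQ H R ≤ QQ H' R) :
    AOff (Wm V H' R) (((A ⊓ QQ H R).subgroupOf H').map (pr V H' R)) := by
  have hR : A ⊓ QQ H R ≤ R := inf_le_right.trans QQ_le
  refine aOff_of (hR.trans a'.RH) (ElAb.mono (Mem.elAb (h.cls.mem A hA)) inf_le_left) ?_ ?_
  · intro h1
    apply hn
    have h2 := inf_CW a' h hR
    rw [inf_eq_left.2 h1] at h2
    rw [h2]
    exact inf_le_right
  · rw [inf_CW a' h hR, mul_comm, (e_one a a' h we we' hA hAH hE).1, inf_comm (fx V _)]

end Amal

/-! ### The elements `s_x` -/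

/-- `|X| = |F| |S_X|` for `F ≤ X ≤ E`, `S_X = {s ∈ A : [w, s] ∈ X}` -/
theorem card_SX [Finite Y] [Finite V] (h2 : ∀ v : V, v + v = 0) {A : Subgroup Y} {E F : AddSubgroup V}
    (h : Mem A E F) {w : V} (hw : w ∉ E) {X : AddSubgroup V} (hFX : F ≤ X) (hXE : X ≤ E) :
    Nat.card X = Nat.card F * Nat.card {s : Y // s ∈ A ∧ s • w + w ∈ X} := by
  let f : F × {s : Y // s ∈ A ∧ s • w + w ∈ X} → X := fun p =>
    ⟨(p.2 : Y) • w + w + p.1, X.add_mem p.2.2.2 (hFX p.1.2)⟩
  have hf : Function.Bijective f := by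
    constructor
    · rintro ⟨⟨x, hx⟩, ⟨a, ha⟩⟩ ⟨⟨y, hy⟩, ⟨b, hb⟩⟩ he
      have h3 : a • w + w + x = b • w + w + y := congrArg Subtype.val he
      have h4 : (b * a) • w + w ∈ F := by
        have h5 : a • w = b • w + y + x := by
          have : a • w + w + x + w + x = b • w + w + y + w + x := by rw [h3]
          have e1 : a • w + w + x + w + x = a • w + (w + w) + (x + x) := by abel
          have e2 : b • w + w + y + w + x = b • w + (w + w) + y + x := by abel
          rw [e1, e2, h2, h2, add_zero, add_zero, add_zero] at this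
          exact this
        rw [mul_smul, h5, smul_add, smul_add, ← mul_smul, h.sq b hb.1, one_smul, h.FB b hb.1 y hy, h.FB b hb.1 x hx]
        have e3 : w + y + x + w = (w + w) + (y + x) := by abel
        rw [e3, h2, zero_add]
        exact F.add_mem hy hx
      have h5 := h.inj w hw _ (mul_mem hb.1 ha.1) h4
      have h6 : a = b := by
        have : b * (b * a) = b * 1 := by rw [h5]
        rw [← mul_assoc, h.sq b hb.1, one_mul, mul_one] at this
        exact this
      subst h6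
      have h7 : x = y := add_left_cancel h3
      subst h7
      rfl
    · rintro ⟨e, he⟩
      obtain ⟨b, hb, h3⟩ := h.surj w hw e (hXE he)
      have h4 : b • w + w ∈ X := by
        have h5 := X.add_mem (hFX h3) he
        rwa [add_assoc, h2, add_zero] at h5
      refine ⟨⟨⟨_, h3⟩, ⟨b, hb, h4⟩⟩, Subtype.ext ?_⟩
      change b • w + w + (b • w + w + e) = e
      rw [← add_assoc, h2, zero_add]
  rw [← Nat.card_prod]
  exact (Nat.card_congr (Equiv.ofBijective f hf)).symm

/-- `[x, s_y] = [y, s_x]` -/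
theorem s_symm (h2 : ∀ v : V, v + v = 0) {A : Subgroup Y} {E F : AddSubgroup V} (h : Mem A E F) {w x y : V} {s r : Y}
    (hs : s ∈ A) (hr : r ∈ A) (hsx : s • w + w + x ∈ F) (hry : r • w + w + y ∈ F) : r • x + x = s • y + y := by
  have h3 := h.FB r hr _ hsx
  have h4 := h.FB s hs _ hry
  rw [smul_add, smul_add, ← mul_smul] at h3 h4
  rw [h.comm s hs r hr] at h4
  -- `r s w + r w + r x = s w + w + x`, `r s w + s w + s y = r w + w + y`
  have h5 : (r * s) • w + r • w + r • x + ((r * s) • w + s • w + s • y) = s • w + w + x + (r • w + w + y) := by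
    rw [h3, h4]
  have e1 : (r * s) • w + r • w + r • x + ((r * s) • w + s • w + s • y) =
      ((r * s) • w + (r * s) • w) + (r • w + s • w) + (r • x + s • y) := by abel
  have e2 : s • w + w + x + (r • w + w + y) = (w + w) + (r • w + s • w) + (x + y) := by abel
  rw [e1, e2, h2, h2, zero_add] at h5
  have h6 := add_left_cancel h5
  have h7 : r • x + x + (s • y + y) = (r • x + s • y) + (x + y) := by abel
  rw [h6, h2] at h7
  exact (HE.add_eq_zero' h2).1 h7

/-- `s_x s_y = s_(x+y)` -/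
theorem s_mul (h2 : ∀ v : V, v + v = 0) {A : Subgroup Y} {E F : AddSubgroup V} (h : Mem A E F) {w x y : V} {s r : Y}
    (hs : s ∈ A) (hy : y ∈ E) (hsx : s • w + w + x ∈ F) (hry : r • w + w + y ∈ F) :
    (s * r) • w + w + (x + y) ∈ F := by
  have h3 := h.FB s hs _ hry
  rw [smul_add, smul_add, ← mul_smul] at h3
  -- `(s r) w = r w + w + y + s w + s y`
  have h4 : (s * r) • w = (r • w + w + y) + s • w + s • y := by
    rw [← h3]
    have e : (s * r) • w + s • w + s • y + s • w + s • y = (s * r) • w + (s • w + s • w) + (s • y + s • y) := by abel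
    rw [e, h2, h2, add_zero, add_zero]
  have h5 : (s * r) • w + w + (x + y) = (r • w + w + y) + (s • w + w + x) + (s • y + y) := by
    rw [h4]; abel
  rw [h5]
  exact F.add_mem (F.add_mem hry hsx) (h.EB s hs y hy)

/-- an element of `A` with the commutator of `s_x` is `s_x` -/
theorem s_uniq (h2 : ∀ v : V, v + v = 0) {A : Subgroup Y} {E F : AddSubgroup V} (h : Mem A E F) {w x : V}
    (hw : w ∉ E) {s r : Y} (hs : s ∈ A) (hr : r ∈ A) (hx : x ∈ E) (hsx : s • w + w + x ∈ F)
    (hrx : r • w + w + x ∈ F) : s = r := by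
  have h3 := s_mul h2 h hs hx hsx hrx
  rw [h2, add_zero] at h3
  have h4 := h.inj w hw _ (mul_mem hs hr) h3
  have h5 : s * (s * r) = s * 1 := by rw [h4]
  rw [← mul_assoc, h.sq s hs, one_mul, mul_one] at h5
  exact h5.symm

theorem mul_card_le [Finite Y] {A B : Subgroup Y} (h : A < B) : 2 * Nat.card A ≤ Nat.card B := by
  obtain ⟨n, hn⟩ := card_dvd_of_le h.le
  have h1 := Amb.card_lt' h
  have h2 : 0 < Nat.card A := Nat.card_pos
  rw [hn] at h1 ⊢
  have h3 : 2 ≤ n := by
    by_contra h3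
    have h4 : n = 0 ∨ n = 1 := by omega
    rcases h4 with rfl | rfl <;> omega
  calc 2 * Nat.card A = Nat.card A * 2 := by ring
    _ ≤ _ := Nat.mul_le_mul_left _ h3

namespace Amal

variable {U : Set (Subgroup Y)} {T : Sylow 2 Y} {M H H' R : Subgroup Y} {t : Y}

variable [Finite Y] [Finite V] (a : Amal U T M H R t) (a' : Amal U T M H' R t) (h : Amb V U T M) (we : WE V U H R)
  (we' : WE V U H' R)
include a a' h we we'

/-- `|K| |S_X| = |A|` -/
theorem e_S {A : Subgroup Y} (hA : A ∈ U) (hAH : A ≤ H) (hE : WW V H' R ≤ Ee V A) {w : V} (hw : w ∉ Ee V A) :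
    Nat.card ↥(A ⊓ QQ H R ⊓ QQ H' R) *
      Nat.card {s : Y // s ∈ A ∧ s • w + w ∈ WW V H R ⊔ WW V H' R ⊔ fx V A} = Nat.card A := by
  have hm := h.cls.mem A hA
  have h1 := (e_one a a' h we we' hA hAH hE).2.2
  have h2 := card_SX h.two hm hw (X := WW V H R ⊔ WW V H' R ⊔ fx V A) le_sup_right
    (sup_le (sup_le (a.WW_le_Ee h we hA hAH) hE) hm.FE)
  rw [h2] at h1
  have h3 : 0 < Nat.card ↥(fx V A) := Nat.card_pos
  apply Nat.eq_of_mul_eq_mul_right h3
  rw [← h1]
  ring

/-- **`S_X ≤ K`: `|A| ≥ 16`, `|K| ≥ 4`** -/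
theorem e_card {A : Subgroup Y} (hA : A ∈ U) (hAH : A ≤ H) (hE : WW V H' R ≤ Ee V A) {w : V} (hw : w ∉ Ee V A)
    (hAQ : ¬ A ≤ QQ H R) (hBQ : ¬ A ⊓ QQ H R ≤ QQ H' R)
    (hS : ∀ s ∈ A, s • w + w ∈ WW V H R ⊔ WW V H' R ⊔ fx V A → s ∈ QQ H R ∧ s ∈ QQ H' R) :
    4 ≤ Nat.card ↥(A ⊓ QQ H R ⊓ QQ H' R) ∧ Nat.card ↥(A ⊓ QQ H R ⊓ QQ H' R) ^ 2 ≥ Nat.card A ∧
      16 ≤ Nat.card A := by
  have h1 := e_S a a' h we we' hA hAH hE hw
  have h2 : Nat.card {s : Y // s ∈ A ∧ s • w + w ∈ WW V H R ⊔ WW V H' R ⊔ fx V A} ≤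
      Nat.card ↥(A ⊓ QQ H R ⊓ QQ H' R) := by
    apply Nat.card_le_card_of_injective
      (fun s : {s : Y // s ∈ A ∧ s • w + w ∈ WW V H R ⊔ WW V H' R ⊔ fx V A} =>
        (⟨s, ⟨s.2.1, (hS s s.2.1 s.2.2).1⟩, (hS s s.2.1 s.2.2).2⟩ : ↥(A ⊓ QQ H R ⊓ QQ H' R)))
    intro s r hsr
    exact Subtype.ext (congrArg (fun z : ↥(A ⊓ QQ H R ⊓ QQ H' R) => (z : Y)) hsr)
  have h3 : 2 * Nat.card ↥(A ⊓ QQ H R ⊓ QQ H' R) ≤ Nat.card ↥(A ⊓ QQ H R) := by
    apply mul_card_le
    exact lt_of_le_of_ne inf_le_left fun h4 => hBQ (by rw [← h4]; exact inf_le_right)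
  have h4 : 2 * Nat.card ↥(A ⊓ QQ H R) ≤ Nat.card A := by
    apply mul_card_le
    exact lt_of_le_of_ne inf_le_left fun h4 => hAQ (by rw [← h4]; exact inf_le_right)
  set κ := Nat.card ↥(A ⊓ QQ H R ⊓ QQ H' R) with hκ
  set σ := Nat.card {s : Y // s ∈ A ∧ s • w + w ∈ WW V H R ⊔ WW V H' R ⊔ fx V A} with hσ
  have h5 : 0 < κ := Nat.card_pos
  have h6 : 4 ≤ σ := by
    apply Nat.le_of_mul_le_mul_left _ h5
    rw [h1]; omega
  refine ⟨h6.trans h2, ?_, ?_⟩
  · rw [ge_iff_le, ← h1, pow_two]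
    exact Nat.mul_le_mul_left _ h2
  · rw [← h1]
    exact Nat.mul_le_mul (h6.trans h2) h6

/-- **(e)**: `C_V(K) = W + W' + F` -/
theorem e_CK {A : Subgroup Y} (hA : A ∈ U) (hAH : A ≤ H) (hE : WW V H' R ≤ Ee V A) {w : V} (hw : w ∉ Ee V A)
    (hAQ : ¬ A ≤ QQ H R) (hBQ : ¬ A ⊓ QQ H R ≤ QQ H' R)
    (hS : ∀ s ∈ A, s • w + w ∈ WW V H R ⊔ WW V H' R ⊔ fx V A → s ∈ QQ H R ∧ s ∈ QQ H' R) :
    fx V (A ⊓ QQ H R ⊓ QQ H' R) = WW V H R ⊔ WW V H' R ⊔ fx V A := by
  apply e_fx a a' h we we' hA hAH hE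
  intro h1
  have h2 := (e_card a a' h we we' hA hAH hE hw hAQ hBQ hS).1
  rw [h1, Subgroup.card_bot] at h2
  omega

/-- **(e), `S_X ≤ K`, type-free**: from `S₁ ≤ Q`, `[W', S₁] = 0` and the computation (a) for `B₁` on `W'` -/
theorem e_SK {A : Subgroup Y} (hA : A ∈ U) (hAH : A ≤ H) (hE : WW V H' R ≤ Ee V A) {w : V} (hw : w ∉ Ee V A)
    (ha : ∀ s ∈ A, s • w + w ∈ WW V H R ⊔ fx V A → s ∈ QQ H R)
    (hg : ∀ s ∈ A, s • w + w ∈ WW V H R ⊔ fx V A → ∀ y ∈ WW V H' R, s • y = y)
    (htriv : ∀ σ : V → Y, (∀ y ∈ WW V H' R, σ y ∈ A ⊓ QQ H R) → (∀ y ∈ WW V H' R, σ y • y = y) →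
      (∀ x ∈ WW V H' R, ∀ y ∈ WW V H' R, σ y • x + x = σ x • y + y) → ∀ y ∈ WW V H' R, σ y ∈ QQ H' R) :
    ∀ s ∈ A, s • w + w ∈ WW V H R ⊔ WW V H' R ⊔ fx V A → s ∈ QQ H R ∧ s ∈ QQ H' R := by
  classical
  have hm := h.cls.mem A hA
  have hWE : WW V H R ≤ Ee V A := a.WW_le_Ee h we hA hAH
  have hcan : ∀ {u v f : V}, u + v = f → u = v + f := by
    intro u v f huv
    rw [← huv, add_comm u v, ← add_assoc, h.two, zero_add]
  -- `s_x`, `x ∈ E`
  have hex : ∀ y : V, ∃ s : Y, y ∈ Ee V A → s ∈ A ∧ s • w + w + y ∈ fx V A := by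
    intro y
    by_cases hy : y ∈ Ee V A
    · obtain ⟨s, hs, h1⟩ := hm.surj w hw y hy
      exact ⟨s, fun _ => ⟨hs, h1⟩⟩
    · exact ⟨1, fun h1 => absurd h1 hy⟩
  choose σ hσ using hex
  have hmem : ∀ {x f : V}, x ∈ WW V H R → f ∈ fx V A → ∀ {s : Y}, s • w + w + x = f → s • w + w ∈ WW V H R ⊔ fx V A := by
    intro x f hx hf s h1
    rw [hcan h1]
    exact add_mem (AddSubgroup.mem_sup_left hx) (AddSubgroup.mem_sup_right hf)
  -- `s_x`, `x ∈ W`
  have hx1 : ∀ x ∈ WW V H R, ∀ s ∈ A, s • w + w + x ∈ fx V A → s ∈ QQ H R ∧ s ∈ QQ H' R := by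
    intro x hx s hs h1
    have h2 := hmem hx h1 rfl
    have h3 := ha s hs h2
    exact ⟨h3, (mem_QQ_iff a' h (QQ_le h3)).2 fun y hy => hg s hs h2 y hy⟩
  -- `s_y ∈ B₁`, `y ∈ W'`
  have hy1 : ∀ y ∈ WW V H' R, ∀ s ∈ A, s • w + w + y ∈ fx V A → s ∈ QQ H R := by
    intro y hy s hs h1
    have h2 : s ∈ A ⊓ CW V H R := by
      refine ⟨hs, fun x hx => ?_⟩
      obtain ⟨h3, h4⟩ := hσ x (hWE hx)
      have h5 := s_symm h.two hm h3 hs h4 h1
      rw [hg _ h3 (hmem hx h4 rfl) y hy, h.two] at h5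
      exact (HE.add_eq_zero' h.two).1 h5
    rw [inf_CW' a h hA hAH] at h2
    exact h2.2
  have hy2 : ∀ y ∈ WW V H' R, σ y ∈ QQ H' R := by
    apply htriv σ
    · intro y hy
      exact ⟨(hσ y (hE hy)).1, hy1 y hy _ (hσ y (hE hy)).1 (hσ y (hE hy)).2⟩
    · intro y hy
      exact smul_self_of hm (hσ y (hE hy)).1 (hσ y (hE hy)).2
    · intro x hx y hy
      exact s_symm h.two hm (hσ x (hE hx)).1 (hσ y (hE hy)).1 (hσ x (hE hx)).2 (hσ y (hE hy)).2
  intro s hs h1
  obtain ⟨z, hz, f, hf, hzf⟩ := AddSubgroup.mem_sup.1 h1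
  obtain ⟨x, hx, y, hy, hxy⟩ := AddSubgroup.mem_sup.1 hz
  have hxs := hσ x (hWE hx)
  have hys := hσ y (hE hy)
  have h2 := s_mul h.two hm hxs.1 (hE hy) hxs.2 hys.2
  have h3 : s • w + w + (x + y) ∈ fx V A := by
    rw [← hzf, ← hxy]
    have e : x + y + f + (x + y) = (x + y) + (x + y) + f := by abel
    rw [e, h.two, zero_add]
    exact hf
  have h4 : s = σ x * σ y := s_uniq h.two hm hw hs (mul_mem hxs.1 hys.1)
    (add_mem (hWE hx) (hE hy)) h3 h2
  rw [h4]
  exact ⟨mul_mem (hx1 x hx _ hxs.1 hxs.2).1 (hy1 y hy _ hys.1 hys.2),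
    mul_mem (hx1 x hx _ hxs.1 hxs.2).2 (hy2 y hy)⟩

end Amal

end Cfsg.Agent.Omega.NO1.TH

end

section


/-!
# N1, BETA, `S_n` type: the computation (a) of bb OMEGA 20646 / 21203 (helper247, helper864)

`co : V → Fin k → Fin n → ZMod 2` coordinates on `W` (even vectors), `B` a commutative group which acts by disjoint
transpositions, `σ : W → B` with `σ y • y = y` and `[x, σ y] = [y, σ x]`: then every `σ y` is trivial on the
coordinates.
-/

set_option autoImplicit false
set_option linter.unusedSectionVars false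

namespace Cfsg.Agent.Omega.NO1.TH.K

open Subgroup
open scoped Pointwise

universe u

variable {Y : Type u} [Group Y] {V : Type u} [AddCommGroup V] [DistribMulAction Y V]

/-- a vector with two non-zero coordinates -/
theorem exists_pair {W : AddSubgroup V} {k n : ℕ} {co : V → Fin k → Fin n → ZMod 2}
    (surj : ∀ y : Fin k → Fin n → ZMod 2, (∀ i, ∑ x, y i x = 0) → ∃ v ∈ W, co v = y) (i : Fin k) {p r : Fin n}
    (hpr : p ≠ r) : ∃ v ∈ W, co v i p = 1 ∧ co v i r = 1 ∧ ∀ x, x ≠ p → x ≠ r → co v i x = 0 := by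
  obtain ⟨v, hv, h1⟩ := surj (fun j => if j = i then (Pi.single p 1 + Pi.single r 1) else 0) (by
    intro j
    by_cases hj : j = i
    · rw [if_pos hj]
      simp only [Pi.add_apply, Finset.sum_add_distrib, Finset.sum_pi_single', Finset.mem_univ, if_true]
      exact CharTwo.add_self_eq_zero 1
    · rw [if_neg hj]; simp)
  have h2 : co v i = Pi.single p 1 + Pi.single r 1 := by rw [h1]; exact if_pos rfl
  refine ⟨v, hv, ?_, ?_, fun x hxp hxr => ?_⟩
  · rw [h2, Pi.add_apply, Pi.single_eq_same, Pi.single_eq_of_ne hpr, add_zero]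
  · rw [h2, Pi.add_apply, Pi.single_eq_same, Pi.single_eq_of_ne hpr.symm, zero_add]
  · rw [h2, Pi.add_apply, Pi.single_eq_of_ne hxp, Pi.single_eq_of_ne hxr, add_zero]

/-- commuting transpositions -/
theorem swap_comm_eq {W : AddSubgroup V} {k n : ℕ} {co : V → Fin k → Fin n → ZMod 2}
    (surj : ∀ y : Fin k → Fin n → ZMod 2, (∀ i, ∑ x, y i x = 0) → ∃ v ∈ W, co v = y) {b c : Y}
    (hbW : ∀ v ∈ W, b • v ∈ W) (hcW : ∀ v ∈ W, c • v ∈ W) (hbc : b * c = c * b) {i : Fin k} {p q r : Fin n}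
    (hb : ∀ v ∈ W, ∀ x, co (b • v) i x = co v i (Equiv.swap p q x))
    (hc : ∀ v ∈ W, ∀ x, co (c • v) i x = co v i (Equiv.swap r q x)) (hpq : p ≠ q) (hrq : r ≠ q) : r = p := by
  by_contra hrp
  obtain ⟨v, hv, h1, h2, h3⟩ := exists_pair surj i hpq
  have h4 : co (b • c • v) i p = co (c • b • v) i p := by rw [← mul_smul, ← mul_smul, hbc]
  rw [hb _ (hcW v hv), hc v hv, hc _ (hbW v hv), hb v hv, Equiv.swap_apply_left, Equiv.swap_apply_right,
    Equiv.swap_apply_of_ne_of_ne (Ne.symm hrp) hpq, Equiv.swap_apply_left, h2, h3 r hrp hrq] at h4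
  exact zero_ne_one h4

/-- **the computation (a), `S_n` type** -/
theorem dtr_triv {W : AddSubgroup V} {k n : ℕ} (hn : 3 ≤ n) {co : V → Fin k → Fin n → ZMod 2}
    (add : ∀ v ∈ W, ∀ w ∈ W, co (v + w) = co v + co w)
    (surj : ∀ y : Fin k → Fin n → ZMod 2, (∀ i, ∑ x, y i x = 0) → ∃ v ∈ W, co v = y) {B : Subgroup Y}
    (comm : ∀ a ∈ B, ∀ b ∈ B, a * b = b * a) (hBW : ∀ b ∈ B, ∀ v ∈ W, b • v ∈ W)
    (tr : ∀ a ∈ B, ∃ τ : Fin k → Equiv.Perm (Fin n), (∀ v ∈ W, ∀ i x, co (a • v) i (τ i x) = co v i x) ∧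
      ∀ i x, τ i x ≠ x → ∃ b ∈ B, ∀ v ∈ W, ∀ y, co (b • v) i (Equiv.swap x (τ i x) y) = co v i y)
    {σ : V → Y} (h1 : ∀ y ∈ W, σ y ∈ B) (h2 : ∀ y ∈ W, σ y • y = y)
    (h3 : ∀ x ∈ W, ∀ y ∈ W, σ y • x + x = σ x • y + y) : ∀ y ∈ W, ∀ z ∈ W, co (σ y • z) = co z := by
  have hsw : ∀ {b : Y} {i : Fin k} {p q : Fin n}, (∀ v ∈ W, ∀ y, co (b • v) i (Equiv.swap p q y) = co v i y) →
      ∀ v ∈ W, ∀ y, co (b • v) i y = co v i (Equiv.swap p q y) := by
    intro b i p q hb v hv y
    have h4 := hb v hv (Equiv.swap p q y)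
    rwa [Equiv.swap_apply_self] at h4
  intro y hy z hz
  obtain ⟨τ, hτ, hτ2⟩ := tr _ (h1 y hy)
  have hid : ∀ i x, τ i x = x := by
    intro i p
    by_contra hpq
    obtain ⟨b, hb, hb2⟩ := hτ2 i p hpq
    set q := τ i p with hq
    -- a third point
    obtain ⟨r, hrp, hrq⟩ : ∃ r : Fin n, r ≠ p ∧ r ≠ q := by
      by_contra hcon
      push Not at hcon
      have h5 : (Finset.univ : Finset (Fin n)) ⊆ {p, q} := by
        intro w _
        rw [Finset.mem_insert, Finset.mem_singleton]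
        by_cases h6 : w = p
        · exact Or.inl h6
        · exact Or.inr (hcon w h6)
      have h6 := Finset.card_le_card h5
      rw [Finset.card_univ, Fintype.card_fin] at h6
      have h7 := Finset.card_insert_le p {q}
      rw [Finset.card_singleton] at h7
      omega
    obtain ⟨x', hx', e1, e2, e3⟩ := exists_pair surj i (p := p) (r := r) (Ne.symm hrp)
    have e4 : co x' i q = 0 := e3 q hpq (Ne.symm hrq)
    obtain ⟨τ', hτ', hτ2'⟩ := tr _ (h1 x' hx')
    -- `τ'` fixes `q`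
    have hfix : (τ' i).symm q = q := by
      by_contra hne
      set q' := (τ' i).symm q with hq'
      have hq2 : τ' i q' = q := by rw [hq']; exact Equiv.apply_symm_apply _ _
      obtain ⟨c, hc, hc2⟩ := hτ2' i q' (by rw [hq2]; exact Ne.symm hne)
      rw [hq2] at hc2
      have h5 : q' = p := swap_comm_eq surj (hBW b hb) (hBW c hc) (comm b hb c hc) (hsw hb2) (hsw hc2)
        (Ne.symm hpq) hne
      have h6 := hτ' x' hx' i q'
      rw [h2 x' hx', hq2, h5, e1, e4] at h6
      exact zero_ne_one h6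
    have h5 := h3 x' hx' y hy
    have h6 : co (σ y • x' + x') i q = co (σ x' • y + y) i q := by rw [h5]
    rw [add _ (hBW _ (h1 y hy) x' hx') x' hx', add _ (hBW _ (h1 x' hx') y hy) y hy] at h6
    change co (σ y • x') i q + co x' i q = co (σ x' • y) i q + co y i q at h6
    have h7 : co (σ y • x') i q = 1 := by rw [hq, hτ x' hx' i p, e1]
    have h8 : co (σ x' • y) i q = co y i q := by
      have h9 := hτ' y hy i q
      have h10 : τ' i q = q := by
        conv_rhs => rw [← Equiv.apply_symm_apply (τ' i) q, hfix]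
      rw [h10] at h9
      exact h9
    rw [h7, h8, e4, add_zero, CharTwo.add_self_eq_zero] at h6
    exact one_ne_zero h6
  funext i x
  have h4 := hτ z hz i x
  rwa [hid] at h4

end Cfsg.Agent.Omega.NO1.TH.K

end

section


/-!
# N1, the amalgam, `S_n` type: basic facts on `KSym`

`trans_points` : Sylow 2-subgroups of `S_{2^m+1} wr (2-group)` are transitive on the nonzero letters;
`actS_unique`, `smul_eq`, `trD_of` : the action on `W` is determined by the action on the coordinates.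
-/

set_option autoImplicit false
set_option linter.unusedSectionVars false
set_option linter.dupNamespace false

namespace Cfsg.Agent.Omega.NO1.TH.K.SI

open Subgroup Cfsg.Agent.Omega.NO1.AB
open scoped Pointwise

universe u

/-- Sylow 2-subgroups of `S_{2^m+1} wr (2-group)` are transitive on the nonzero points -/
theorem trans_points {k m : ℕ} {G P : Subgroup (Equiv.Perm (Fin k × Fin (2 ^ m + 1)))} (hPG : P ≤ G)
    {c : ℕ} (hc : Nat.card G = Nat.card P * c) (hodd : Odd c) (hP : IsPGroup 2 P)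
    (blk : ∀ g ∈ G, ∀ p q, p.1 = q.1 → (g p).1 = (g q).1)
    (full : ∀ τ : Fin k → Equiv.Perm (Fin (2 ^ m + 1)), ∃ g ∈ G, ∀ i x, g (i, x) = (i, τ i x))
    (tr : ∀ i j, ∃ g ∈ P, (g (i, 0)).1 = j) (fix0 : ∀ g ∈ P, ∀ i, (g (i, 0)).2 = 0)
    {i j : Fin k} {x y : Fin (2 ^ m + 1)} (hx : x ≠ 0) (hy : y ≠ 0) : ∃ g ∈ P, g (i, x) = (j, y) := by
  classical
  have : Fact (Nat.Prime 2) := ⟨Nat.prime_two⟩
  let X := Fin k × Fin (2 ^ m + 1)
  let ω : X × X := ((i, 0), (i, x))
  -- `k` is a power of `2`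
  obtain ⟨e, he⟩ : ∃ e, k = 2 ^ e := by
    have h1 : MulAction.orbit P ((i, 0) : X) = Set.range fun j : Fin k => ((j, 0) : X) := by
      ext q
      constructor
      · rintro ⟨g, rfl⟩
        refine ⟨((g : Equiv.Perm X) (i, 0)).1, ?_⟩
        exact Prod.ext rfl (fix0 g g.2 i).symm
      · rintro ⟨j, rfl⟩
        obtain ⟨g, hg, hgj⟩ := tr i j
        exact ⟨⟨g, hg⟩, Prod.ext hgj (fix0 g hg i)⟩
    have h2 : Nat.card (MulAction.orbit P ((i, 0) : X)) = k := by
      rw [h1, Nat.card_range_of_injective, Nat.card_eq_fintype_card, Fintype.card_fin]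
      intro a b hab
      exact (Prod.ext_iff.1 hab).1
    have h3 := hP.card_orbit ((i, 0) : X)
    rw [h2] at h3
    exact h3
  have hGo : Nat.card (MulAction.orbit G ω) = k * ((2 ^ m + 1) * 2 ^ m) := by
    have h1 : MulAction.orbit G ω = Set.range fun q : Fin k × Fin (2 ^ m + 1) × Fin (2 ^ m) =>
        (((q.1, q.2.1), (q.1, q.2.1.succAbove q.2.2)) : X × X) := by
      ext q
      constructor
      · rintro ⟨g, rfl⟩
        have h2 : ((g : Equiv.Perm X) (i, x)).1 = ((g : Equiv.Perm X) (i, 0)).1 := blk g g.2 _ _ rfl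
        have h3 : ((g : Equiv.Perm X) (i, x)).2 ≠ ((g : Equiv.Perm X) (i, 0)).2 := by
          intro h4
          have h5 := (g : Equiv.Perm X).injective (Prod.ext h2 h4)
          exact hx (Prod.ext_iff.1 h5).2
        obtain ⟨b, hb⟩ := Fin.exists_succAbove_eq h3
        refine ⟨(((g : Equiv.Perm X) (i, 0)).1, ((g : Equiv.Perm X) (i, 0)).2, b), ?_⟩
        refine Prod.ext rfl ?_
        refine Prod.ext h2.symm ?_
        exact hb
      · rintro ⟨⟨j, a, b⟩, rfl⟩
        -- a block permutation to the block `j`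
        obtain ⟨g, hg, hgj⟩ := tr i j
        have hg2 := hPG hg
        set a' := (g (i, 0)).2 with ha'
        set b' := (g (i, x)).2 with hb'
        have h1 : (g (i, x)).1 = j := (blk g hg2 (i, x) (i, 0) rfl).trans hgj
        have hab : a' ≠ b' := by
          intro h4
          have h5 := g.injective (Prod.ext (hgj.trans h1.symm) h4 : g (i, 0) = g (i, x))
          exact hx (Prod.ext_iff.1 h5).2.symm
        have hne : a ≠ a.succAbove b := (Fin.succAbove_ne a b).symm
        -- a permutation `a' ↦ a`, `b' ↦ succAbove`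
        obtain ⟨τ, hτ1, hτ2⟩ : ∃ τ : Equiv.Perm (Fin (2 ^ m + 1)), τ a' = a ∧ τ b' = a.succAbove b := by
          set u := Equiv.swap a' a b' with hu
          have hua : u ≠ a := by
            intro h6
            have h7 : Equiv.swap a' a b' = Equiv.swap a' a a' := by rw [Equiv.swap_apply_left]; exact h6
            exact hab ((Equiv.swap a' a).injective h7).symm
          refine ⟨Equiv.swap u (a.succAbove b) * Equiv.swap a' a, ?_, ?_⟩
          · rw [Equiv.Perm.mul_apply, Equiv.swap_apply_left, Equiv.swap_apply_of_ne_of_ne hua.symm hne]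
          · rw [Equiv.Perm.mul_apply, ← hu, Equiv.swap_apply_left]
        obtain ⟨f, hf, hfτ⟩ := full fun _ => τ
        refine ⟨⟨f * g, G.mul_mem hf hg2⟩, ?_⟩
        refine Prod.ext ?_ ?_
        · change f (g (i, 0)) = (j, a)
          have h5 : g (i, 0) = (j, a') := Prod.ext hgj rfl
          rw [h5, hfτ, hτ1]
        · change f (g (i, x)) = (j, a.succAbove b)
          have h5 : g (i, x) = (j, b') := Prod.ext h1 rfl
          rw [h5, hfτ, hτ2]
    rw [h1, Nat.card_range_of_injective]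
    · rw [Nat.card_prod, Nat.card_prod]
      simp only [Nat.card_eq_fintype_card, Fintype.card_fin]
    · rintro ⟨j, a, b⟩ ⟨j', a', b'⟩ h2
      have h3 := (Prod.ext_iff.1 h2).1
      have h4 := (Prod.ext_iff.1 (Prod.ext_iff.1 h2).2).2
      have h5 : j = j' := (Prod.ext_iff.1 h3).1
      have h6 : a = a' := (Prod.ext_iff.1 h3).2
      subst h5 h6
      have h7 : a.succAbove b = a.succAbove b' := h4
      rw [Fin.succAbove_right_inj] at h7
      rw [h7]
  let S : Set (X × X) := Set.range fun q : Fin k × Fin (2 ^ m) => (((q.1, 0), (q.1, q.2.succ)) : X × X)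
  have hS : Nat.card S = k * 2 ^ m := by
    change Nat.card (Set.range fun q : Fin k × Fin (2 ^ m) => (((q.1, 0), (q.1, q.2.succ)) : X × X)) = _
    rw [Nat.card_range_of_injective]
    · rw [Nat.card_prod]
      simp only [Nat.card_eq_fintype_card, Fintype.card_fin]
    · rintro ⟨j, b⟩ ⟨j', b'⟩ h2
      have h3 := (Prod.ext_iff.1 h2).1
      have h4 : b.succ = b'.succ := (Prod.ext_iff.1 (Prod.ext_iff.1 h2).2).2
      have h5 : j = j' := (Prod.ext_iff.1 h3).1
      rw [Fin.succ_inj] at h4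
      rw [h4, h5]
  have hPS : MulAction.orbit P ω ⊆ S := by
    rintro _ ⟨g, rfl⟩
    have h2 : ((g : Equiv.Perm X) (i, x)).1 = ((g : Equiv.Perm X) (i, 0)).1 := blk g (hPG g.2) _ _ rfl
    have h3 : ((g : Equiv.Perm X) (i, x)).2 ≠ 0 := by
      intro h4
      have h5 := (g : Equiv.Perm X).injective (Prod.ext h2 (h4.trans (fix0 g g.2 i).symm))
      exact hx (Prod.ext_iff.1 h5).2
    obtain ⟨b, hb⟩ := Fin.exists_succ_eq.2 h3
    refine ⟨(((g : Equiv.Perm X) (i, 0)).1, b), ?_⟩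
    refine Prod.ext (Prod.ext rfl (fix0 g g.2 i).symm) (Prod.ext h2.symm hb)
  have h1 : Nat.card (MulAction.orbit G ω) * Nat.card (MulAction.stabilizer G ω) = Nat.card G := by
    rw [← Nat.card_prod]
    exact Nat.card_congr (MulAction.orbitProdStabilizerEquivGroup G ω)
  have h2 : Nat.card (MulAction.orbit P ω) * Nat.card (MulAction.stabilizer P ω) = Nat.card P := by
    rw [← Nat.card_prod]
    exact Nat.card_congr (MulAction.orbitProdStabilizerEquivGroup P ω)
  have h3 : Nat.card (MulAction.stabilizer P ω) ∣ Nat.card (MulAction.stabilizer G ω) := by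
    let f : MulAction.stabilizer P ω →* MulAction.stabilizer G ω :=
      ((Subgroup.inclusion hPG).comp (MulAction.stabilizer P ω).subtype).codRestrict (MulAction.stabilizer G ω)
        fun g => g.2
    apply Subgroup.card_dvd_of_injective f
    intro a b hab
    have h4 := congrArg (fun z : MulAction.stabilizer G ω => ((z : G) : Equiv.Perm X)) hab
    exact Subtype.ext (Subtype.ext h4)
  obtain ⟨s, hs⟩ := h3
  have hpos : 0 < Nat.card (MulAction.stabilizer P ω) := Nat.card_pos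
  have h4 : k * 2 ^ m * ((2 ^ m + 1) * s) = Nat.card (MulAction.orbit P ω) * c := by
    apply Nat.eq_of_mul_eq_mul_right hpos
    calc k * 2 ^ m * ((2 ^ m + 1) * s) * Nat.card (MulAction.stabilizer P ω)
        = k * ((2 ^ m + 1) * 2 ^ m) * (Nat.card (MulAction.stabilizer P ω) * s) := by ring
      _ = Nat.card P * c := by rw [← hs, ← hGo, h1, hc]
      _ = Nat.card (MulAction.orbit P ω) * Nat.card (MulAction.stabilizer P ω) * c := by rw [h2]
      _ = _ := by ring
  have h5 : k * 2 ^ m ∣ Nat.card (MulAction.orbit P ω) := by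
    have h6 : Nat.Coprime (k * 2 ^ m) c := by
      rw [he, ← pow_add]
      exact Nat.Coprime.pow_left _ (Nat.coprime_two_left.2 hodd)
    exact h6.dvd_of_dvd_mul_right ⟨_, h4.symm⟩
  have h6 : MulAction.orbit P ω = S := by
    apply Set.eq_of_subset_of_ncard_le hPS
    rw [← Nat.card_coe_set_eq, ← Nat.card_coe_set_eq, hS]
    apply Nat.le_of_dvd _ h5
    have : Nonempty (MulAction.orbit P ω) := ⟨⟨ω, MulAction.mem_orbit_self ω⟩⟩
    exact Nat.card_pos
  obtain ⟨b, hb⟩ := Fin.exists_succ_eq.2 hy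
  have h7 : (((j, 0), (j, y)) : X × X) ∈ MulAction.orbit P ω := by
    rw [h6]
    exact ⟨(j, b), by rw [← hb]⟩
  obtain ⟨g, hg⟩ := h7
  exact ⟨g, g.2, (Prod.ext_iff.1 hg).2⟩

theorem papp {α : Type*} (f : Equiv.Perm α) (x : α) : f (f⁻¹ x) = x := Equiv.apply_symm_apply f x

theorem papp' {α : Type*} (f : Equiv.Perm α) (x : α) : f⁻¹ (f x) = x := Equiv.symm_apply_apply f x

variable {Y : Type u} [Group Y] {V : Type u} [AddCommGroup V] [DistribMulAction Y V]

section act

variable {H R : Subgroup Y} {k m : ℕ} {co : V → Fin k → Fin (2 ^ m + 1) → ZMod 2} (K : KSym V H R k m co)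

/-- the transposition of the letters `a`, `b` of the block `i` -/
def tp {k n : ℕ} (i : Fin k) (a b : Fin n) : Fin k → Equiv.Perm (Fin n) := Function.update 1 i (Equiv.swap a b)

theorem tp_self {k n : ℕ} (i : Fin k) (a b : Fin n) : tp i a b i = Equiv.swap a b := Function.update_self i _ _

theorem tp_of_ne {k n : ℕ} {i j : Fin k} (h : j ≠ i) (a b : Fin n) : tp i a b j = 1 := by
  rw [tp, Function.update_of_ne h]; rfl

theorem tp_comm {k n : ℕ} (i : Fin k) (a b : Fin n) : tp i a b = tp i b a := by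
  rw [tp, tp, Equiv.swap_comm]

theorem tp_mul_self {k n : ℕ} (i : Fin k) (a b : Fin n) : tp i a b * tp i a b = 1 := by
  funext j
  rw [Pi.mul_apply]
  by_cases h : j = i
  · subst h
    rw [tp_self, Equiv.swap_mul_self]; rfl
  · rw [tp_of_ne h, mul_one]; rfl

/-- the vector with the coordinates `{a, b}` in the block `i` -/
def dl {k n : ℕ} (i : Fin k) (a b : Fin n) : Fin k → Fin n → ZMod 2 := Pi.single i (Pi.single a 1 + Pi.single b 1)

theorem dl_apply {k n : ℕ} (i : Fin k) (a b : Fin n) (j : Fin k) (x : Fin n) :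
    dl i a b j x = if j = i then (if x = a then 1 else 0) + (if x = b then 1 else 0) else 0 := by
  unfold dl
  by_cases h : j = i
  · subst h
    rw [Pi.single_eq_same, if_pos rfl, Pi.add_apply, Pi.single_apply, Pi.single_apply]
  · rw [Pi.single_eq_of_ne h, if_neg h]; rfl

theorem dl_sum {k n : ℕ} (i : Fin k) (a b : Fin n) (j : Fin k) : ∑ x, dl i a b j x = 0 := by
  simp only [dl_apply]
  by_cases h : j = i
  · simp only [if_pos h, Finset.sum_add_distrib, Finset.sum_ite_eq', Finset.mem_univ, if_true]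
    exact CharTwo.add_self_eq_zero 1
  · simp only [if_neg h, Finset.sum_const_zero]

include K

theorem exists_dl (i : Fin k) (a b : Fin (2 ^ m + 1)) : ∃ v ∈ WW V H R, co v = dl i a b := K.surj _ (dl_sum i a b)

theorem five_le : 5 ≤ 2 ^ m + 1 := by
  have h1 : 2 ^ 2 ≤ 2 ^ m := Nat.pow_le_pow_right (by norm_num) K.two_le
  omega

/-- a letter outside a small set -/
theorem exists_not (s : Finset (Fin (2 ^ m + 1))) (hs : s.card ≤ 4) : ∃ x, x ∉ s := by
  by_contra hcon
  push Not at hcon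
  have h1 : s = Finset.univ := Finset.eq_univ_iff_forall.2 hcon
  have h2 := five_le K
  rw [h1, Finset.card_univ, Fintype.card_fin] at hs
  omega

theorem co_zero : co 0 = 0 := by
  have h1 := K.add 0 (zero_mem _) 0 (zero_mem _)
  rw [add_zero] at h1
  exact left_eq_add.1 h1

/-- the coordinates as a homomorphism -/
def coH : WW V H R →+ (Fin k → Fin (2 ^ m + 1) → ZMod 2) where
  toFun w := co w
  map_zero' := co_zero K
  map_add' v w := K.add v v.2 w w.2

theorem co_eq_zero_of {w : V} (hw : w ∈ WW V H R) (h : ∀ i x, x ≠ 0 → co w i x = 0) : co w = 0 := by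
  funext i x
  by_cases hx : x = 0
  · subst hx
    have h1 := K.even w hw i
    rw [Finset.sum_eq_single 0 (fun x _ hx => h i x hx) (fun h => absurd (Finset.mem_univ _) h)] at h1
    exact h1
  · exact h i x hx

theorem actS_mul {g h : Y} {σ σ' : Equiv.Perm (Fin k)} {τ τ' : Fin k → Equiv.Perm (Fin (2 ^ m + 1))} (hh : h ∈ H)
    (h1 : ActS V H R co g σ τ) (h2 : ActS V H R co h σ' τ') :
    ActS V H R co (g * h) (σ * σ') fun i => τ (σ' i) * τ' i := by
  intro v hv i x
  rw [mul_smul, Equiv.Perm.mul_apply, Equiv.Perm.mul_apply, h1 _ (smul_mem_WW hh hv), h2 v hv]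

omit K in
theorem actS_mul1 {g h : Y} {τ τ' : Fin k → Equiv.Perm (Fin (2 ^ m + 1))} (hh : h ∈ H)
    (h1 : ActS V H R co g 1 τ) (h2 : ActS V H R co h 1 τ') : ActS V H R co (g * h) 1 (τ * τ') := by
  intro v hv i x
  have h3 := h1 _ (smul_mem_WW hh hv) i (τ' i x)
  rw [mul_smul]
  exact h3.trans (h2 v hv i x)

omit K in
theorem actS_one : ActS V H R co (1 : Y) 1 1 := fun v _ i x => by rw [one_smul]; rfl

omit K in
theorem actS_inv1 {g : Y} (hg : g ∈ H) {τ : Fin k → Equiv.Perm (Fin (2 ^ m + 1))} (h1 : ActS V H R co g 1 τ) :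
    ActS V H R co g⁻¹ 1 τ⁻¹ := by
  intro v hv i x
  have h3 := h1 _ (smul_mem_WW (H.inv_mem hg) hv) i ((τ⁻¹) i x)
  rw [smul_inv_smul] at h3
  rw [Equiv.Perm.one_apply]
  have h4 : (τ i) ((τ⁻¹) i x) = x := by rw [Pi.inv_apply]; exact papp _ _
  rw [h4] at h3
  exact h3.symm

/-- the coordinates separate the letters -/
theorem separate {i j : Fin k} {x y : Fin (2 ^ m + 1)} (h : ∀ v ∈ WW V H R, co v i x = co v j y) : i = j ∧ x = y := by
  obtain ⟨z, hz⟩ := exists_not K {x, y} (by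
    have := Finset.card_le_two (a := x) (b := y); omega)
  rw [Finset.mem_insert, Finset.mem_singleton, not_or] at hz
  obtain ⟨v, hv, hco⟩ := exists_dl K i x z
  have h1 := h v hv
  rw [hco, dl_apply, dl_apply, if_pos rfl, if_pos rfl, if_neg (Ne.symm hz.1), add_zero] at h1
  by_cases hij : j = i
  · subst hij
    rw [if_pos rfl] at h1
    by_cases hxy : y = x
    · exact ⟨rfl, hxy.symm⟩
    · rw [if_neg hxy, if_neg (Ne.symm hz.2), add_zero] at h1
      exact absurd h1 one_ne_zero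
  · rw [if_neg hij] at h1
    exact absurd h1 one_ne_zero

theorem actS_unique {g : Y} (hg : g ∈ H) {σ σ' : Equiv.Perm (Fin k)} {τ τ' : Fin k → Equiv.Perm (Fin (2 ^ m + 1))}
    (h1 : ActS V H R co g σ τ) (h2 : ActS V H R co g σ' τ') : σ = σ' ∧ τ = τ' := by
  have key : ∀ i x, σ i = σ' i ∧ τ i x = τ' i x := by
    intro i x
    apply separate K
    intro v hv
    have h3 := h1 _ (smul_mem_WW (H.inv_mem hg) hv) i x
    have h4 := h2 _ (smul_mem_WW (H.inv_mem hg) hv) i x
    rw [smul_inv_smul] at h3 h4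
    rw [h3, h4]
  exact ⟨Equiv.ext fun i => (key i 0).1, funext fun i => Equiv.ext fun x => (key i x).2⟩

/-- the action on `W` is determined by the action on the coordinates -/
theorem smul_eq {g h : Y} (hg : g ∈ H) (hh : h ∈ H) (h1 : ∀ w ∈ WW V H R, co (g • w) = co (h • w)) :
    ∀ w ∈ WW V H R, g • w = h • w := by
  obtain ⟨σ, τ, hστ⟩ := K.perm g hg
  have h2 := K.trivH (g⁻¹ * h) (H.mul_mem (H.inv_mem hg) hh) (by
    intro w hw
    funext i x
    have hx : (g⁻¹ * h) • w ∈ WW V H R := smul_mem_WW (H.mul_mem (H.inv_mem hg) hh) hw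
    have h3 := hστ _ hx i x
    rw [← mul_smul, mul_inv_cancel_left, ← h1 w hw, hστ w hw] at h3
    exact h3.symm)
  intro w hw
  have h3 := h2 w hw
  rw [mul_smul, inv_smul_eq_iff] at h3
  exact h3.symm

theorem smul_eq_of_actS {g h : Y} (hg : g ∈ H) (hh : h ∈ H) {σ : Equiv.Perm (Fin k)}
    {τ : Fin k → Equiv.Perm (Fin (2 ^ m + 1))} (h1 : ActS V H R co g σ τ) (h2 : ActS V H R co h σ τ) :
    ∀ w ∈ WW V H R, g • w = h • w := by
  apply smul_eq K hg hh
  intro w hw
  funext i x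
  have h3 := h1 w hw (σ⁻¹ i) ((τ (σ⁻¹ i))⁻¹ x)
  have h4 := h2 w hw (σ⁻¹ i) ((τ (σ⁻¹ i))⁻¹ x)
  rw [papp, papp] at h3 h4
  rw [h3, h4]

theorem trD_of {g : Y} (hg : g ∈ H) {τ : Fin k → Equiv.Perm (Fin (2 ^ m + 1))} (h1 : ActS V H R co g 1 τ) :
    TrD V H R co g := by
  obtain ⟨h, hh, h2, h3⟩ := K.lift τ
  intro d hd h0
  rw [smul_eq_of_actS K hg hh h1 h2 d hd]
  exact h3 d hd h0

end act

end Cfsg.Agent.Omega.NO1.TH.K.SI

end

section


/-!
# N1, the amalgam, `S_n` type: transpositions and pairs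

`fix_of_const` : `g ∈ H` acting as the transposition `(a b)` of the block `i` fixes every `w ∈ W` which is constant
on `{a, b}`; `trans_pt` : `R` is transitive on the nonzero letters; `PI` : the pairs of `R`.
-/

set_option autoImplicit false
set_option linter.unusedSectionVars false
set_option linter.dupNamespace false

namespace Cfsg.Agent.Omega.NO1.TH.K.SI

open Subgroup Cfsg.Agent.Omega.NO1.AB
open scoped Pointwise

universe u

variable {Y : Type u} [Group Y] {V : Type u} [AddCommGroup V] [DistribMulAction Y V]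

section act

variable {H R : Subgroup Y} {k m : ℕ} {co : V → Fin k → Fin (2 ^ m + 1) → ZMod 2} (K : KSym V H R k m co)

/-- an even vector is a sum of the vectors `{c, o}` -/
theorem eq_sum_dl {k n : ℕ} (y : Fin k → Fin n → ZMod 2) (hy : ∀ i, ∑ x, y i x = 0) (o : Fin n) :
    y = ∑ j, ∑ c, if y j c = 0 then 0 else dl j c o := by
  have h1 : ∀ j c, (if y j c = 0 then 0 else dl j c o) = y j c • dl j c o := by
    intro j c
    by_cases h : y j c = 0
    · rw [if_pos h, h, zero_smul]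
    · have h2 : y j c = 1 := by
        generalize y j c = z at h
        revert h; revert z; decide
      rw [if_neg h, h2, one_smul]
  simp only [h1]
  funext j' y'
  simp only [Finset.sum_apply, Pi.smul_apply, dl_apply, smul_eq_mul]
  rw [Finset.sum_eq_single j' (fun j _ hj => by
    apply Finset.sum_eq_zero
    intro c _
    rw [if_neg (Ne.symm hj), mul_zero]) (fun h => absurd (Finset.mem_univ _) h)]
  simp only [if_true, mul_add, Finset.sum_add_distrib, mul_ite, mul_one, mul_zero]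
  rw [Finset.sum_ite_eq, if_pos (Finset.mem_univ _)]
  by_cases h : y' = o
  · simp only [if_pos h]
    rw [hy j', add_zero]
  · simp only [if_neg h, Finset.sum_const_zero, add_zero]

include K

/-- a subgroup which contains `D₀` and the vectors `{c, o}` occurring in `w` contains `w` -/
theorem mem_of_dl (two : ∀ v : V, v + v = 0) {S : AddSubgroup V}
    (hD : ∀ d ∈ WW V H R, co d = 0 → d ∈ S) (o : Fin (2 ^ m + 1)) {w : V}
    (hw : w ∈ WW V H R) (h : ∀ j c, co w j c ≠ 0 → c ≠ o → ∃ v ∈ WW V H R, v ∈ S ∧ co v = dl j c o) : w ∈ S := by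
  classical
  have h1 : ∀ j c, ∃ v : WW V H R, (v : V) ∈ S ∧ coH K v = if co w j c = 0 then 0 else dl j c o := by
    intro j c
    by_cases h2 : co w j c = 0
    · exact ⟨0, S.zero_mem, by rw [map_zero, if_pos h2]⟩
    · by_cases h3 : c = o
      · refine ⟨0, S.zero_mem, ?_⟩
        rw [map_zero, if_neg h2, h3]
        funext j' y'
        rw [dl_apply]
        by_cases h4 : j' = j
        · rw [if_pos h4]; exact (CharTwo.add_self_eq_zero _).symm
        · rw [if_neg h4]; rfl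
      · obtain ⟨v, hv, hvS, hco⟩ := h j c h2 h3
        exact ⟨⟨v, hv⟩, hvS, by rw [if_neg h2]; exact hco⟩
  choose v hvS hco using h1
  let s : WW V H R := ∑ j, ∑ c, v j c
  have hs : (s : V) ∈ S := by
    have e : (s : V) = ∑ j, ∑ c, ((v j c : WW V H R) : V) := by
      simp only [s, AddSubgroup.val_finsetSum]
    rw [e]
    exact S.sum_mem fun j _ => S.sum_mem fun c _ => hvS j c
  have hcs : co (s : V) = co w := by
    have e : coH K s = ∑ j, ∑ c, coH K (v j c) := by
      simp only [s, map_sum]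
    change coH K s = co w
    rw [e]
    simp only [hco]
    exact (eq_sum_dl (co w) (K.even w hw) o).symm
  have hd : w + s ∈ S := by
    apply hD _ (add_mem hw s.2)
    rw [K.add w hw s s.2, hcs]
    funext i x
    exact CharTwo.add_self_eq_zero _
  have e : w = (w + s) + s := by rw [add_assoc, two, add_zero]
  rw [e]
  exact S.add_mem hd hs

/-- **(TR)** -/
theorem fix_of_const (two : ∀ v : V, v + v = 0) {g : Y} (hg : g ∈ H) {i : Fin k} {a b : Fin (2 ^ m + 1)}
    (hab : a ≠ b) (hgt : ActS V H R co g 1 (tp i a b)) {w : V} (hw : w ∈ WW V H R) (hc : co w i a = co w i b) :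
    g • w = w := by
  classical
  have hgD := trD_of K hg hgt
  -- the fixed vectors
  let S : AddSubgroup V :=
    { carrier := {v | g • v = v}
      zero_mem' := smul_zero g
      add_mem' := fun {v w} hv hw => by
        change g • (v + w) = v + w
        rw [smul_add, hv, hw]
      neg_mem' := fun {v} hv => by
        change g • (-v) = -v
        rw [smul_neg, hv] }
  have hS : ∀ v, v ∈ S ↔ g • v = v := fun v => Iff.rfl
  have hD : ∀ d ∈ WW V H R, co d = 0 → d ∈ S := fun d hd h0 => hgD d hd h0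
  -- vectors with the same coordinates
  have same : ∀ v ∈ WW V H R, ∀ w ∈ WW V H R, co v = co w → v ∈ S → w ∈ S := by
    intro v hv w hw hco hvS
    have h1 : v + w ∈ S := by
      apply hD _ (add_mem hv hw)
      rw [K.add v hv w hw, hco]
      funext i x
      exact CharTwo.add_self_eq_zero _
    have h2 := S.add_mem hvS h1
    rwa [← add_assoc, two, zero_add] at h2
  -- the elements commuting with `g`
  have comm : ∀ x ∈ WW V H R, co x i a = co x i b → ∀ (j : Fin k) (c d : Fin (2 ^ m + 1)),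
      (j = i → c ≠ a ∧ c ≠ b ∧ d ≠ a ∧ d ≠ b) → ∀ h ∈ H, ActS V H R co h 1 (tp j c d) → h • x + x ∈ S := by
    intro x hx hxc j c d hcd h hh hht
    have h1 : ∀ w ∈ WW V H R, (g * h) • w = (h * g) • w := by
      apply smul_eq_of_actS K (H.mul_mem hg hh) (H.mul_mem hh hg) (actS_mul1 hh hgt hht)
      have e : tp i a b * tp j c d = tp j c d * tp i a b := by
        funext l
        rw [Pi.mul_apply, Pi.mul_apply]
        by_cases hji : j = i
        · obtain ⟨h2, h3, h4, h5⟩ := hcd hji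
          subst hji
          by_cases hl : l = j
          · subst hl
            rw [tp_self, tp_self]
            ext z
            rw [Equiv.Perm.mul_apply, Equiv.Perm.mul_apply]
            congr 1
            by_cases hzc : z = c
            · subst hzc
              rw [Equiv.swap_apply_left, Equiv.swap_apply_of_ne_of_ne h4 h5, Equiv.swap_apply_of_ne_of_ne h2 h3,
                Equiv.swap_apply_left]
            by_cases hzd : z = d
            · subst hzd
              rw [Equiv.swap_apply_right, Equiv.swap_apply_of_ne_of_ne h2 h3, Equiv.swap_apply_of_ne_of_ne h4 h5,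
                Equiv.swap_apply_right]
            rw [Equiv.swap_apply_of_ne_of_ne hzc hzd]
            by_cases hza : z = a
            · subst hza
              rw [Equiv.swap_apply_left, Equiv.swap_apply_of_ne_of_ne h3.symm h5.symm]
            by_cases hzb : z = b
            · subst hzb
              rw [Equiv.swap_apply_right, Equiv.swap_apply_of_ne_of_ne h2.symm h4.symm]
            rw [Equiv.swap_apply_of_ne_of_ne hza hzb, Equiv.swap_apply_of_ne_of_ne hzc hzd]
          · rw [tp_of_ne hl, tp_of_ne hl]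
        · by_cases hl : l = j
          · rw [tp_of_ne (i := i) (fun h => hji (hl.symm.trans h)), one_mul, mul_one]
          · rw [tp_of_ne hl, one_mul, mul_one]
      rw [e]
      exact actS_mul1 hg hht hgt
    -- `g x + x ∈ D₀`
    have hgx : g • x + x ∈ WW V H R := add_mem (smul_mem_WW hg hx) hx
    have h0 : co (g • x + x) = 0 := by
      rw [K.add _ (smul_mem_WW hg hx) x hx]
      have e : co (g • x) = co x := by
        funext l z
        have h2 := hgt x hx l (tp i a b l z)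
        have e2 : tp i a b l (tp i a b l z) = z := by
          have := congrFun (tp_mul_self i a b) l
          rw [Pi.mul_apply] at this
          exact Equiv.ext_iff.1 this z
        rw [e2] at h2
        refine h2.trans ?_
        by_cases hl : l = i
        · subst hl
          rw [tp_self]
          by_cases hza : z = a
          · subst hza; rw [Equiv.swap_apply_left]; exact hxc.symm
          by_cases hzb : z = b
          · subst hzb; rw [Equiv.swap_apply_right]; exact hxc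
          rw [Equiv.swap_apply_of_ne_of_ne hza hzb]
        · rw [tp_of_ne hl]; rfl
      rw [e]
      funext i x
      exact CharTwo.add_self_eq_zero _
    have h3 : h • (g • x + x) = g • x + x := trD_of K hh hht _ hgx h0
    rw [hS, smul_add, ← mul_smul, h1 x hx, mul_smul]
    rw [smul_add] at h3
    -- `h g x + h x = g x + x`
    have h4 : h • g • x = g • x + x + h • x := by
      have h5 : h • g • x + h • x + h • x = g • x + x + h • x := by rw [h3]
      rwa [add_assoc, two, add_zero] at h5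
    rw [h4]
    have e3 : g • x + x + h • x + g • x = h • x + x + (g • x + g • x) := by abel
    rw [e3, two, add_zero]
  -- the vectors `{c, d}` outside `{a, b}`
  have far : ∀ (j : Fin k) (c d : Fin (2 ^ m + 1)), c ≠ d → (j = i → c ≠ a ∧ c ≠ b ∧ d ≠ a ∧ d ≠ b) →
      ∀ v ∈ WW V H R, co v = dl j c d → v ∈ S := by
    intro j c d hcd hj v hv hco
    obtain ⟨e, he⟩ := exists_not K {a, b, c, d} (by
      have := Finset.card_le_four (a := a) (b := b) (c := c) (d := d); omega)
    simp only [Finset.mem_insert, Finset.mem_singleton, not_or] at he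
    obtain ⟨hea, heb, hec, hed⟩ := he
    obtain ⟨x, hx, hxco⟩ := exists_dl K j e c
    obtain ⟨h, hh, hht, _⟩ := K.lift (tp j c d)
    have h1 : h • x + x ∈ S := by
      apply comm x hx _ j c d hj h hh hht
      rw [hxco, dl_apply, dl_apply]
      by_cases hji : i = j
      · obtain ⟨h2, h3, h4, h5⟩ := hj hji.symm
        rw [if_pos hji, if_pos hji, if_neg (Ne.symm hea), if_neg (Ne.symm heb), if_neg h2.symm, if_neg h3.symm]
      · rw [if_neg hji, if_neg hji]
    refine same _ (add_mem (smul_mem_WW hh hx) hx) v hv ?_ h1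
    rw [K.add _ (smul_mem_WW hh hx) x hx, hco, hxco]
    funext l z
    have h2 := hht x hx l (tp j c d l z)
    have e2 : tp j c d l (tp j c d l z) = z := by
      have := congrFun (tp_mul_self j c d) l
      rw [Pi.mul_apply] at this
      exact Equiv.ext_iff.1 this z
    rw [e2, Equiv.Perm.one_apply, hxco] at h2
    rw [Pi.add_apply, Pi.add_apply, h2]
    simp only [dl_apply]
    by_cases hl : l = j
    · subst hl
      rw [if_pos rfl, if_pos rfl, if_pos rfl, tp_self]
      by_cases hzc : z = c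
      · subst hzc
        rw [Equiv.swap_apply_left, if_neg (Ne.symm hed), if_neg (Ne.symm hcd), if_neg (Ne.symm hec), if_pos rfl, if_neg hcd]
        decide
      by_cases hzd : z = d
      · subst hzd
        rw [Equiv.swap_apply_right, if_neg (Ne.symm hec), if_pos rfl, if_neg (Ne.symm hed), if_neg hzc, if_pos rfl]
        decide
      rw [Equiv.swap_apply_of_ne_of_ne hzc hzd, if_neg hzc, if_neg hzd, add_zero, add_zero]
      exact CharTwo.add_self_eq_zero _
    · rw [if_neg hl, if_neg hl, if_neg hl, add_zero]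
  -- the vector `{a, b}`
  obtain ⟨o, ho⟩ := exists_not K {a, b} (by
    have := Finset.card_le_two (a := a) (b := b); omega)
  simp only [Finset.mem_insert, Finset.mem_singleton, not_or] at ho
  obtain ⟨z, hz, hzco⟩ := exists_dl K i a o
  have hgz : g • z + z ∈ S := by
    have h1 : ∀ w ∈ WW V H R, (g * g) • w = (1 : Y) • w := by
      apply smul_eq_of_actS K (H.mul_mem hg hg) H.one_mem (actS_mul1 hg hgt hgt)
      rw [tp_mul_self]
      exact actS_one
    rw [hS, smul_add, ← mul_smul, h1 z hz, one_smul, add_comm]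
  -- WLOG `co w i a = 0`
  have main : ∀ w ∈ WW V H R, co w i a = 0 → co w i b = 0 → w ∈ S := by
    intro w hw ha hb
    apply mem_of_dl K two hD o hw
    intro j c hjc hco
    obtain ⟨v, hv, hvco⟩ := exists_dl K j c o
    refine ⟨v, hv, ?_, hvco⟩
    apply far j c o hco _ v hv hvco
    rintro rfl
    refine ⟨?_, ?_, ho.1, ho.2⟩
    · rintro rfl; exact hjc ha
    · rintro rfl; exact hjc hb
  by_cases h0 : co w i a = 0
  · exact main w hw h0 (hc ▸ h0)
  · have h1 : co w i a = 1 := by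
      generalize co w i a = z at h0
      revert h0; revert z; decide
    have hgzW : g • z + z ∈ WW V H R := add_mem (smul_mem_WW hg hz) hz
    have hgza : co (g • z + z) i a = 1 := by
      rw [K.add _ (smul_mem_WW hg hz) z hz, Pi.add_apply, Pi.add_apply]
      have h2 := hgt z hz i b
      rw [tp_self, Equiv.swap_apply_right, Equiv.Perm.one_apply] at h2
      rw [h2, hzco, dl_apply, dl_apply]
      simp [hab.symm, Ne.symm ho.1, Ne.symm ho.2]
    have hgzb : co (g • z + z) i b = 1 := by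
      rw [K.add _ (smul_mem_WW hg hz) z hz, Pi.add_apply, Pi.add_apply]
      have h2 := hgt z hz i a
      rw [tp_self, Equiv.swap_apply_left, Equiv.Perm.one_apply] at h2
      rw [h2, hzco, dl_apply, dl_apply]
      simp [hab.symm, Ne.symm ho.1, Ne.symm ho.2]
    have h3 := main (w + (g • z + z)) (add_mem hw hgzW)
      (by rw [K.add w hw _ hgzW, Pi.add_apply, Pi.add_apply, h1, hgza]; decide)
      (by rw [K.add w hw _ hgzW, Pi.add_apply, Pi.add_apply, ← hc, h1, hgzb]; decide)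
    have h4 := S.add_mem h3 hgz
    rwa [add_assoc, two, add_zero] at h4

end act

section trans

variable {H R : Subgroup Y} {k m : ℕ} {co : V → Fin k → Fin (2 ^ m + 1) → ZMod 2} (K : KSym V H R k m co)
include K

/-- the permutation representation on the letters -/
theorem exists_perm : ∃ f : H →* Equiv.Perm (Fin k × Fin (2 ^ m + 1)), ∀ (g : H) (σ : Equiv.Perm (Fin k))
    (τ : Fin k → Equiv.Perm (Fin (2 ^ m + 1))), ActS V H R co (g : Y) σ τ → ∀ i x, f g (i, x) = (σ i, τ i x) := by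
  classical
  have h1 : ∀ g : H, ∃ σ τ, ActS V H R co (g : Y) σ τ := fun g => K.perm g g.2
  choose σ τ hστ using h1
  have hmul : ∀ g h : H, σ (g * h) = σ g * σ h ∧ τ (g * h) = fun i => τ g (σ h i) * τ h i := fun g h =>
    actS_unique K (g * h).2 (hστ (g * h)) (actS_mul K h.2 (hστ g) (hστ h))
  have hone : σ 1 = 1 ∧ τ 1 = 1 := actS_unique K H.one_mem (hστ 1) actS_one
  refine ⟨{ toFun := fun g => Equiv.prodShear (σ g) (τ g), map_one' := ?_, map_mul' := ?_ }, ?_⟩
  · ext p
    · change ((σ 1) p.1 : ℕ) = _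
      rw [hone.1]; rfl
    · change ((τ 1 p.1) p.2 : ℕ) = _
      rw [hone.2]; rfl
  · intro g h
    ext p
    · change ((σ (g * h)) p.1 : ℕ) = ((σ g) ((σ h) p.1) : ℕ)
      rw [(hmul g h).1]; rfl
    · change ((τ (g * h) p.1) p.2 : ℕ) = ((τ g ((σ h) p.1)) ((τ h p.1) p.2) : ℕ)
      rw [(hmul g h).2]; rfl
  · intro g σ' τ' hg i x
    obtain ⟨h2, h3⟩ := actS_unique K g.2 (hστ g) hg
    change ((σ g) i, (τ g i) x) = _
    rw [h2, h3]

/-- **`R` is transitive on the nonzero letters** -/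
theorem trans_pt [Finite Y] (hRH : R ≤ H) (hS : ∃ P : Sylow 2 H, (P : Subgroup H) = R.subgroupOf H)
    {i j : Fin k} {x y : Fin (2 ^ m + 1)} (hx : x ≠ 0) (hy : y ≠ 0) :
    ∃ r ∈ R, ∃ σ τ, ActS V H R co r σ τ ∧ σ i = j ∧ τ i x = y := by
  classical
  have : Fact (Nat.Prime 2) := ⟨Nat.prime_two⟩
  obtain ⟨P, hP⟩ := hS
  obtain ⟨f, hf⟩ := exists_perm K
  have hidx : Odd (((P : Subgroup H).map f.rangeRestrict).index) := by
    have h1 : ¬ 2 ∣ (P : Subgroup H).index := P.not_dvd_index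
    have h2 := Subgroup.index_map_dvd (P : Subgroup H) f.rangeRestrict_surjective
    rw [← Nat.not_even_iff_odd, even_iff_two_dvd]
    exact fun h3 => h1 (h3.trans h2)
  have hcard : Nat.card ((P : Subgroup H).map f) = Nat.card ((P : Subgroup H).map f.rangeRestrict) := by
    have h1 : ((P : Subgroup H).map f.rangeRestrict).map f.range.subtype = (P : Subgroup H).map f := by
      rw [Subgroup.map_map]; rfl
    rw [← h1]
    exact (Nat.card_congr (((P : Subgroup H).map f.rangeRestrict).equivMapOfInjective _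
      f.range.subtype_injective).toEquiv).symm
  have hmemP : ∀ r (hr : r ∈ R), f ⟨r, hRH hr⟩ ∈ (P : Subgroup H).map f := by
    intro r hr
    exact ⟨⟨r, hRH hr⟩, by rw [SetLike.mem_coe, hP]; exact hr, rfl⟩
  have hofP : ∀ p ∈ (P : Subgroup H).map f, ∃ r, ∃ hr : r ∈ R, f ⟨r, hRH hr⟩ = p := by
    rintro _ ⟨p, hp, rfl⟩
    rw [SetLike.mem_coe, hP] at hp
    exact ⟨p, hp, rfl⟩
  obtain ⟨g, hg, hgx⟩ := trans_points (G := f.range) (P := (P : Subgroup H).map f)
    (c := ((P : Subgroup H).map f.rangeRestrict).index) (i := i) (j := j) (x := x) (y := y)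
    (by rintro _ ⟨p, _, rfl⟩; exact ⟨p, rfl⟩)
    (by rw [hcard, Subgroup.card_mul_index]) hidx (P.2.map f)
    (by
      rintro _ ⟨g, rfl⟩ p q hpq
      obtain ⟨σ, τ, hg⟩ := K.perm g g.2
      have h1 := hf g σ τ hg p.1 p.2
      have h2 := hf g σ τ hg q.1 q.2
      rw [Prod.mk.eta] at h1 h2
      rw [h1, h2, hpq])
    (by
      intro τ
      obtain ⟨g, hg, hgt, _⟩ := K.lift τ
      exact ⟨_, ⟨⟨g, hg⟩, rfl⟩, hf ⟨g, hg⟩ 1 τ hgt⟩)
    (by
      intro i j
      obtain ⟨r, hr, σ, τ, h1, h2⟩ := K.trans i j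
      exact ⟨_, hmemP r hr, by rw [hf _ _ _ h1]; exact h2⟩)
    (by
      intro g hg i
      obtain ⟨r, hr, rfl⟩ := hofP g hg
      obtain ⟨σ, τ, h1⟩ := K.perm r (hRH hr)
      rw [hf _ _ _ h1]
      exact K.fix0 r hr σ τ h1 i) hx hy
  obtain ⟨r, hr, rfl⟩ := hofP g hg
  obtain ⟨σ, τ, h1⟩ := K.perm r (hRH hr)
  rw [hf _ _ _ h1] at hgx
  exact ⟨r, hr, σ, τ, h1, (Prod.ext_iff.1 hgx).1, (Prod.ext_iff.1 hgx).2⟩

end trans

section pairs

variable {H R : Subgroup Y} {k m : ℕ} {co : V → Fin k → Fin (2 ^ m + 1) → ZMod 2}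

/-- the pairs of `R` -/
def PI (V : Type u) [AddCommGroup V] [DistribMulAction Y V] (H R : Subgroup Y) {k n : ℕ}
    (co : V → Fin k → Fin n → ZMod 2) (i : Fin k) (a b : Fin n) : Prop :=
  a ≠ b ∧ ∃ r ∈ R, ActS V H R co r 1 (tp i a b)

theorem PI.symm {i : Fin k} {a b : Fin (2 ^ m + 1)} (h : PI V H R co i a b) : PI V H R co i b a := by
  obtain ⟨h1, r, hr, h2⟩ := h
  exact ⟨h1.symm, r, hr, by rwa [tp_comm]⟩

theorem PI.ne0 (K : KSym V H R k m co) {i : Fin k} {a b : Fin (2 ^ m + 1)} (h : PI V H R co i a b) : a ≠ 0 := by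
  rintro rfl
  obtain ⟨h1, r, hr, h2⟩ := h
  have h3 := K.fix0 r hr _ _ h2 i
  rw [tp_self, Equiv.swap_apply_left] at h3
  exact h1 h3.symm

/-- conjugates of transpositions -/
theorem actS_conj_tp {g r : Y} (hr : r ∈ H) (hg : g ∈ H) {σ : Equiv.Perm (Fin k)}
    {τ : Fin k → Equiv.Perm (Fin (2 ^ m + 1))} (hrt : ActS V H R co r σ τ) {i : Fin k} {a b : Fin (2 ^ m + 1)}
    (hgt : ActS V H R co g 1 (tp i a b)) : ActS V H R co (r * g * r⁻¹) 1 (tp (σ i) (τ i a) (τ i b)) := by
  intro v hv j y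
  obtain ⟨w, rfl⟩ : ∃ w, v = r • w := ⟨r⁻¹ • v, by rw [smul_inv_smul]⟩
  have hw : w ∈ WW V H R := by
    have := smul_mem_WW (H.inv_mem hr) hv
    rwa [inv_smul_smul] at this
  obtain ⟨j', rfl⟩ : ∃ j', j = σ j' := ⟨σ⁻¹ j, by rw [papp]⟩
  obtain ⟨y', rfl⟩ : ∃ y', y = τ j' y' := ⟨(τ j')⁻¹ y, by rw [papp]⟩
  rw [mul_smul, inv_smul_smul, mul_smul, Equiv.Perm.one_apply, hrt w hw]
  have hgw := smul_mem_WW hg hw
  have h1 := hgt w hw j' y'
  rw [Equiv.Perm.one_apply] at h1
  rw [← h1, ← hrt _ hgw]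
  congr 1
  by_cases hj : j' = i
  · subst hj
    rw [tp_self, tp_self]
    exact (τ j').injective.swap_apply a b y'
  · rw [tp_of_ne hj, tp_of_ne (fun h => hj (σ.injective h))]; rfl

end pairs

end Cfsg.Agent.Omega.NO1.TH.K.SI

end
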