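import Cfsg.Agent.Mrg.Omega.NO1.TH.NoOvV
import Cfsg.Agent.Mrg.Omega.NO1.TH.Fact
import Cfsg.Agent.Mrg.Omega.NO1.AB.Beta

section


/-!
# N1: members of order 4 (bb OMEGA 21636 (0), helper593)

`Mem A E F`, `|A| = 4`: all non-zero commutators `[e, s]`, `e ∈ E`, `s ∈ A`, are equal (`Mem.four_eq`), and if one is
`≠ 0` then `C_V(b) = F ∪ (w + F)` for `1 ≠ b ∈ A`, `w ∈ C_V(b) - F` (`Mem.four_fix`).
-/

set_option autoImplicit false
set_option linter.unusedSectionVars false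
set_option linter.dupNamespace false

namespace Cfsg.Agent.Omega.NO1.TH.K

open Subgroup Cfsg.Agent.Omega.NO1.AB
open scoped Pointwise

universe u

variable {Y : Type u} [Group Y] {V : Type u} [AddCommGroup V] [DistribMulAction Y V]

theorem four_cases [Finite Y] {A : Subgroup Y} (h4 : Nat.card A = 4) {s r : Y} (hs : s ∈ A) (hr : r ∈ A)
    (s1 : s ≠ 1) (r1 : r ≠ 1) (sr : s ≠ r) (sq : s * s = 1) {x : Y} (hx : x ∈ A) :
    x = 1 ∨ x = s ∨ x = r ∨ x = s * r := by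
  classical
  have hsub : ({1, s, r, s * r} : Set Y) ⊆ (A : Set Y) := by
    intro y hy
    simp only [Set.mem_insert_iff, Set.mem_singleton_iff] at hy
    rcases hy with rfl | rfl | rfl | rfl
    · exact one_mem A
    · exact hs
    · exact hr
    · exact mul_mem hs hr
  have hcard : ({1, s, r, s * r} : Set Y).ncard = 4 := by
    have h1 : s * r ≠ 1 := by
      intro h
      apply sr
      calc s = s * (s * r) := by rw [h, mul_one]
        _ = r := by rw [← mul_assoc, sq, one_mul]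
    have h2 : s * r ≠ s := fun h => r1 (by simpa using h)
    have h3 : s * r ≠ r := fun h => s1 (by simpa using h)
    rw [Set.ncard_insert_of_notMem, Set.ncard_insert_of_notMem, Set.ncard_insert_of_notMem, Set.ncard_singleton]
    · simp only [Set.mem_singleton_iff]; exact h3.symm
    · simp only [Set.mem_insert_iff, Set.mem_singleton_iff, not_or]; exact ⟨sr, h2.symm⟩
    · simp only [Set.mem_insert_iff, Set.mem_singleton_iff, not_or]; exact ⟨s1.symm, r1.symm, h1.symm⟩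
  have heq : ({1, s, r, s * r} : Set Y) = (A : Set Y) := by
    apply Set.eq_of_subset_of_ncard_le hsub _ (Set.toFinite _)
    rw [hcard]
    have : (A : Set Y).ncard = Nat.card A := (Nat.card_coe_set_eq (A : Set Y)).symm
    rw [this, h4]
  have hx' : x ∈ (A : Set Y) := hx
  rw [← heq] at hx'
  simpa only [Set.mem_insert_iff, Set.mem_singleton_iff] using hx'

/-- `[w, x, y]` -/
def cc (w : V) (x y : Y) : V := y • (x • w + w) + (x • w + w)

section mem

variable {A : Subgroup Y} {E F : AddSubgroup V} (hm : Mem A E F) (h2 : ∀ v : V, v + v = 0) {w : V}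
include hm h2

theorem cc_mem {x y : Y} (hx : x ∈ A) (hy : y ∈ A) : cc w x y ∈ F := hm.EB y hy _ (hm.VB x hx w)

theorem cc_comm {x y : Y} (hx : x ∈ A) (hy : y ∈ A) : cc w x y = cc w y x := by
  unfold cc
  rw [smul_add, smul_add, ← mul_smul, ← mul_smul, hm.comm x hx y hy]
  abel

theorem cc_self {x : Y} (hx : x ∈ A) : cc w x x = 0 := by
  unfold cc
  rw [smul_add, ← mul_smul, hm.sq x hx, one_smul, add_comm w, h2]

theorem cc_one {x : Y} : cc w x 1 = 0 := by
  unfold cc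
  rw [one_smul, h2]

theorem cc_mul {x y z : Y} (hx : x ∈ A) (hy : y ∈ A) (hz : z ∈ A) : cc w x (y * z) = cc w x y + cc w x z := by
  have h3 := hm.FB y hy _ (cc_mem hm h2 (w := w) hx hz)
  -- `y c(x,z) = c(x,z)`
  have h4 : cc w x (y * z) = y • cc w x z + cc w x y := by
    unfold cc
    rw [mul_smul]
    have e : y • (z • (x • w + w) + (x • w + w)) + (y • (x • w + w) + (x • w + w)) =
        y • z • (x • w + w) + (y • (x • w + w) + y • (x • w + w)) + (x • w + w) := by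
      rw [smul_add]; abel
    rw [e, h2, add_zero]
  rw [h4, h3, add_comm]

/-- `s_e = r` : `[e, s] = [w, r, s]` -/
theorem cc_eq {e : V} {r s : Y} (hs : s ∈ A) (hre : r • w + w + e ∈ F) : s • e + e = cc w r s := by
  have h3 := hm.FB s hs _ hre
  have h4 : (s • e + e) + cc w r s = (s • (r • w + w + e)) + (r • w + w + e) := by
    unfold cc
    rw [smul_add s (r • w + w) e]; abel
  rw [h3, h2] at h4
  exact (HE.add_eq_zero' h2).1 h4

theorem cc_val [Finite Y] (h4 : Nat.card A = 4) {s r : Y} (hs : s ∈ A) (hr : r ∈ A)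
    (s1 : s ≠ 1) (r1 : r ≠ 1) (sr : s ≠ r) {x y : Y} (hx : x ∈ A) (hy : y ∈ A) :
    cc w x y = 0 ∨ cc w x y = cc w s r := by
  have hsr := cc_comm hm h2 (w := w) hs hr
  have hss := cc_self hm h2 (w := w) hs
  have hrr := cc_self hm h2 (w := w) hr
  -- `c(s, ·)`, `c(r, ·)`
  have k1 : ∀ y ∈ A, cc w s y = 0 ∨ cc w s y = cc w s r := by
    intro y hy
    rcases four_cases h4 hs hr s1 r1 sr (hm.sq s hs) hy with rfl | rfl | rfl | rfl
    · exact Or.inl (cc_one hm h2)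
    · exact Or.inl hss
    · exact Or.inr rfl
    · right; rw [cc_mul hm h2 hs hs hr, hss, zero_add]
  have k2 : ∀ y ∈ A, cc w r y = 0 ∨ cc w r y = cc w s r := by
    intro y hy
    rcases four_cases h4 hs hr s1 r1 sr (hm.sq s hs) hy with rfl | rfl | rfl | rfl
    · exact Or.inl (cc_one hm h2)
    · exact Or.inr hsr.symm
    · exact Or.inl hrr
    · right; rw [cc_mul hm h2 hr hs hr, hrr, add_zero, hsr]
  rcases four_cases h4 hs hr s1 r1 sr (hm.sq s hs) hx with rfl | rfl | rfl | rfl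
  · left
    rw [cc_comm hm h2 hx hy]
    exact cc_one hm h2
  · exact k1 y hy
  · exact k2 y hy
  · rw [cc_comm hm h2 hx hy, cc_mul hm h2 hy hs hr, cc_comm hm h2 hy hs, cc_comm hm h2 hy hr]
    rcases k1 y hy with h5 | h5 <;> rcases k2 y hy with h6 | h6 <;> rw [h5, h6]
    · left; rw [add_zero]
    · right; rw [zero_add]
    · right; rw [add_zero]
    · left; rw [h2]

end mem

/-- **all non-zero `[e, s]` are equal** -/
theorem four_eq [Finite Y] {A : Subgroup Y} {E F : AddSubgroup V} (hm : Mem A E F) (h2 : ∀ v : V, v + v = 0)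
    (h4 : Nat.card A = 4) {s s' : Y} {e e' : V} (hs : s ∈ A) (hs' : s' ∈ A) (he : e ∈ E) (he' : e' ∈ E)
    (h : s • e ≠ e) (h' : s' • e' ≠ e') : s • e + e = s' • e' + e' := by
  obtain ⟨w, hw⟩ := hm.ne
  obtain ⟨r, hr, hre⟩ := hm.surj w hw e he
  obtain ⟨r', hr', hre'⟩ := hm.surj w hw e' he'
  have k1 := cc_eq hm h2 hs hre
  have k2 := cc_eq hm h2 hs' hre'
  have n1 : cc w r s ≠ 0 := by
    rw [← k1]
    exact fun h3 => h ((HE.add_eq_zero' h2).1 h3)
  have n2 : cc w r' s' ≠ 0 := by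
    rw [← k2]
    exact fun h3 => h' ((HE.add_eq_zero' h2).1 h3)
  have s1 : s ≠ 1 := by rintro rfl; exact n1 (cc_one hm h2)
  have r1 : r ≠ 1 := by
    rintro rfl
    apply n1
    rw [cc_comm hm h2 hr hs]
    exact cc_one hm h2
  have rs : r ≠ s := by rintro rfl; exact n1 (cc_self hm h2 hs)
  rw [k1, k2]
  rcases cc_val hm h2 (w := w) h4 hr hs r1 s1 rs hr' hs' with h3 | h3
  · exact absurd h3 n2
  · exact h3.symm

/-- **`C_V(b) = F ∪ (w + F)`** -/
theorem four_fix [Finite Y] {A : Subgroup Y} {E F : AddSubgroup V} (hm : Mem A E F) (h2 : ∀ v : V, v + v = 0)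
    (h4 : Nat.card A = 4) {s : Y} {e : V} (hs : s ∈ A) (he : e ∈ E) (h : s • e ≠ e) {b : Y} (hb : b ∈ A)
    (hb1 : b ≠ 1) {v v₀ : V} (hv : b • v = v) (hv₀ : b • v₀ = v₀) (hv₀F : v₀ ∉ F) : v ∈ F ∨ v + v₀ ∈ F := by
  have hvE := mem_E_of_fix hm h2 hb hb1 hv
  have hv₀E := mem_E_of_fix hm h2 hb hb1 hv₀
  obtain ⟨w, hw⟩ := hm.ne
  obtain ⟨q, hq, hqe⟩ := hm.surj w hw e he
  have n1 : cc w q s ≠ 0 := by
    rw [← cc_eq hm h2 hs hqe]
    exact fun h3 => h ((HE.add_eq_zero' h2).1 h3)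
  -- `s_v ∈ {1, b}` for `v ∈ C_V(b)`
  have key : ∀ v : V, b • v = v → ∀ r ∈ A, r • w + w + v ∈ F → r = 1 ∨ r = b := by
    intro v hv r hr hrv
    by_contra hcon
    push Not at hcon
    have h3 := cc_eq hm h2 hb hrv
    rw [hv, h2] at h3
    rcases cc_val hm h2 (w := w) h4 hr hb hcon.1 hb1 hcon.2 hq hs with h5 | h5
    · exact n1 h5
    · rw [h5, ← h3] at n1; exact n1 rfl
  obtain ⟨r₀, hr₀, hrv₀⟩ := hm.surj w hw v₀ hv₀E
  obtain ⟨r, hr, hrv⟩ := hm.surj w hw v hvE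
  have hr₀b : r₀ = b := by
    rcases key v₀ hv₀ r₀ hr₀ hrv₀ with h3 | h3
    · exfalso
      apply hv₀F
      rw [h3, one_smul, h2, zero_add] at hrv₀
      exact hrv₀
    · exact h3
  rcases key v hv r hr hrv with h3 | h3
  · left
    rw [h3, one_smul, h2, zero_add] at hrv
    exact hrv
  · right
    rw [hr₀b] at hrv₀
    rw [h3] at hrv
    have h5 := F.add_mem hrv hrv₀
    have e1 : b • w + w + v + (b • w + w + v₀) = (b • w + b • w) + (w + w) + (v + v₀) := by abel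
    rwa [e1, h2, h2, zero_add, zero_add] at h5

end Cfsg.Agent.Omega.NO1.TH.K

end

section


/-!
# N1, `S_n` type: transpositions (bb OMEGA 21636, helper593)

`Sw V H R co g i x y` : `g` acts on the coordinates of `W` as the transposition `(x y)` of block `i`.
`Sw.smul_eq` (same action on `W`), `Sw.conj`, `sw_disjD` (transpositions in `R` are disjoint), `exists_moveD` (`H` is
transitive on the ordered pairs of letters), `stab0` (the elements of `H` which fix the letters `0` are in `M`).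
-/

set_option autoImplicit false
set_option linter.unusedSectionVars false
set_option linter.dupNamespace false

namespace Cfsg.Agent.Omega.NO1.TH.K

open Subgroup Cfsg.Agent.Omega.NO1.AB Cfsg.Agent.Omega.FFBr
open scoped Pointwise

universe u

variable {Y : Type u} [Group Y]

/-- `g` acts on `W` as the transposition `(x y)` of block `i` -/
structure Sw (V : Type u) [AddCommGroup V] [DistribMulAction Y V] (H R : Subgroup Y) {k n : ℕ}
    (co : V → Fin k → Fin n → ZMod 2) (g : Y) (i : Fin k) (x y : Fin n) : Prop where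
  ne : x ≠ y
  act : ActS V H R co g 1 (Function.update 1 i (Equiv.swap x y))

/-- the coordinates of the vector of the pair `{x, y}` of block `i` -/
def indi {k n : ℕ} (i : Fin k) (x y : Fin n) (j : Fin k) (z : Fin n) : ZMod 2 :=
  if j = i ∧ (z = x ∨ z = y) then 1 else 0

theorem indi_comm {k n : ℕ} (i : Fin k) (x y : Fin n) : indi i x y = indi i y x := by
  funext j z
  unfold indi
  congr 1
  rw [or_comm]

theorem indi_ne {k n : ℕ} (i : Fin k) (x y : Fin n) : indi i x y ≠ 0 := by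
  intro h
  have h1 := congrFun (congrFun h i) x
  unfold indi at h1
  rw [if_pos ⟨rfl, Or.inl rfl⟩] at h1
  exact one_ne_zero h1

theorem zmodD_self (a : ZMod 2) : a + a = 0 := CharTwo.add_self_eq_zero a

theorem zmodD_ne {a b : ZMod 2} (h : a ≠ b) : a + b = 1 := by
  revert a b; decide

/-- a permutation with two prescribed values -/
theorem exists_permD {n : ℕ} {a b a' b' : Fin n} (h : a ≠ b) (h' : a' ≠ b') :
    ∃ p : Equiv.Perm (Fin n), p a = a' ∧ p b = b' := by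
  refine ⟨Equiv.swap (Equiv.swap a a' b) b' * Equiv.swap a a', ?_, ?_⟩
  · rw [Equiv.Perm.mul_apply, Equiv.swap_apply_left, Equiv.swap_apply_of_ne_of_ne _ h']
    intro h1
    have h2 : Equiv.swap a a' b = Equiv.swap a a' a := by rw [← h1, Equiv.swap_apply_left]
    exact h ((Equiv.swap a a').injective h2).symm
  · rw [Equiv.Perm.mul_apply, Equiv.swap_apply_left]

variable {V : Type u} [AddCommGroup V] [DistribMulAction Y V]

section

variable {H R : Subgroup Y} {k n : ℕ} {co : V → Fin k → Fin n → ZMod 2}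

theorem ActS.mulD {g h : Y} {σ σ' : Equiv.Perm (Fin k)} {τ τ' : Fin k → Equiv.Perm (Fin n)} (hh : h ∈ H)
    (h1 : ActS V H R co g σ τ) (h2 : ActS V H R co h σ' τ') :
    ActS V H R co (g * h) (σ * σ') fun i => τ (σ' i) * τ' i := by
  intro v hv i x
  rw [mul_smul, Equiv.Perm.mul_apply, Equiv.Perm.mul_apply, h1 _ (smul_mem_WW hh hv), h2 v hv]

theorem Sw.symm {g : Y} {i : Fin k} {x y : Fin n} (h : Sw V H R co g i x y) : Sw V H R co g i y x :=
  ⟨h.ne.symm, by rw [Equiv.swap_comm]; exact h.act⟩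

theorem Sw.co_eq {g : Y} {i : Fin k} {x y : Fin n} (h : Sw V H R co g i x y) {v : V} (hv : v ∈ WW V H R)
    (j : Fin k) (z : Fin n) :
    co (g • v) j z = co v j ((Function.update (1 : Fin k → Equiv.Perm (Fin n)) i (Equiv.swap x y)) j z) := by
  have h1 := h.act v hv j ((Function.update (1 : Fin k → Equiv.Perm (Fin n)) i (Equiv.swap x y)) j z)
  rw [← h1, Equiv.Perm.one_apply]
  congr 1
  by_cases hj : j = i
  · subst hj
    rw [Function.update_self, Equiv.swap_apply_self]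
  · rw [Function.update_of_ne hj]
    rfl

theorem Sw.co_i {g : Y} {i : Fin k} {x y : Fin n} (h : Sw V H R co g i x y) {v : V} (hv : v ∈ WW V H R)
    (z : Fin n) : co (g • v) i z = co v i (Equiv.swap x y z) := by
  rw [h.co_eq hv, Function.update_self]

theorem Sw.co_j {g : Y} {i : Fin k} {x y : Fin n} (h : Sw V H R co g i x y) {v : V} (hv : v ∈ WW V H R)
    {j : Fin k} (hj : j ≠ i) (z : Fin n) : co (g • v) j z = co v j z := by
  rw [h.co_eq hv, Function.update_of_ne hj]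
  rfl

theorem Sw.co_same {g : Y} {i : Fin k} {x y : Fin n} (h : Sw V H R co g i x y) {v : V} (hv : v ∈ WW V H R)
    (h1 : co v i x = co v i y) : co (g • v) = co v := by
  funext j z
  by_cases hj : j = i
  · subst hj
    rw [h.co_i hv]
    by_cases hx : z = x
    · rw [hx, Equiv.swap_apply_left, h1]
    · by_cases hy : z = y
      · rw [hy, Equiv.swap_apply_right, h1]
      · rw [Equiv.swap_apply_of_ne_of_ne hx hy]
  · exact h.co_j hv hj z

theorem Sw.co_of_fix {g : Y} {i : Fin k} {x y : Fin n} (h : Sw V H R co g i x y) {v : V} (hv : v ∈ WW V H R)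
    (h1 : co (g • v) = co v) : co v i x = co v i y := by
  have h2 := h.co_i hv x
  rw [h1, Equiv.swap_apply_left] at h2
  exact h2

/-- conjugation -/
theorem Sw.conj {g : Y} {i : Fin k} {x y : Fin n} (h : Sw V H R co g i x y) (hg : g ∈ H) {l : Y} (hl : l ∈ H)
    {σ : Equiv.Perm (Fin k)} {τ : Fin k → Equiv.Perm (Fin n)} (hlσ : ActS V H R co l σ τ) :
    Sw V H R co (l * g * l⁻¹) (σ i) (τ i x) (τ i y) := by
  refine ⟨fun h1 => h.ne ((τ i).injective h1), ?_⟩
  intro v hv j z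
  obtain ⟨j', rfl⟩ := σ.surjective j
  obtain ⟨z', rfl⟩ := (τ j').surjective z
  have hu : l⁻¹ • v ∈ WW V H R := smul_mem_WW (H.inv_mem hl) hv
  have e1 : co v (σ j') (τ j' z') = co (l⁻¹ • v) j' z' := by
    rw [← hlσ _ hu, smul_inv_smul]
  have e2 : (l * g * l⁻¹) • v = l • (g • (l⁻¹ • v)) := by rw [mul_smul, mul_smul]
  rw [e1, e2, Equiv.Perm.one_apply]
  by_cases hj : j' = i
  · subst hj
    rw [Function.update_self, ← h.act _ hu j' z', Function.update_self, Equiv.Perm.one_apply,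
      ← hlσ _ (smul_mem_WW hg hu)]
    congr 1
    by_cases hx : z' = x
    · rw [hx, Equiv.swap_apply_left, Equiv.swap_apply_left]
    · by_cases hy : z' = y
      · rw [hy, Equiv.swap_apply_right, Equiv.swap_apply_right]
      · rw [Equiv.swap_apply_of_ne_of_ne hx hy,
          Equiv.swap_apply_of_ne_of_ne (fun h1 => hx ((τ j').injective h1)) fun h1 => hy ((τ j').injective h1)]
  · have hj' : σ j' ≠ σ i := fun h1 => hj (σ.injective h1)
    rw [Function.update_of_ne hj', Pi.one_apply, Equiv.Perm.one_apply, hlσ _ (smul_mem_WW hg hu),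
      h.co_j hu hj]

theorem Sw.of_smul {g g' : Y} {i : Fin k} {x y : Fin n} (h : Sw V H R co g i x y)
    (he : ∀ w ∈ WW V H R, g' • w = g • w) : Sw V H R co g' i x y :=
  ⟨h.ne, fun v hv j z => by rw [he v hv]; exact h.act v hv j z⟩

end

section ksym

variable {H R : Subgroup Y} {k m : ℕ} {co : V → Fin k → Fin (2 ^ m + 1) → ZMod 2}
variable (K : KSym V H R k m co)
include K

namespace KSym

theorem zeroD : co 0 = 0 := by
  have h := K.add 0 (zero_mem _) 0 (zero_mem _)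
  rw [add_zero] at h
  exact left_eq_add.1 h

theorem five_leD : 5 ≤ 2 ^ m + 1 := by
  have h1 : 2 ^ 2 ≤ 2 ^ m := Nat.pow_le_pow_right (by norm_num) K.two_le
  omega

/-- a letter different from three given ones -/
theorem exists_letterD (a b c : Fin (2 ^ m + 1)) : ∃ z, z ≠ a ∧ z ≠ b ∧ z ≠ c := by
  by_contra hcon
  push Not at hcon
  have h1 : (Finset.univ : Finset (Fin (2 ^ m + 1))) ⊆ {a, b, c} := by
    intro z _
    simp only [Finset.mem_insert, Finset.mem_singleton]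
    by_cases h2 : z = a
    · exact Or.inl h2
    · by_cases h3 : z = b
      · exact Or.inr (Or.inl h3)
      · exact Or.inr (Or.inr (hcon z h2 h3))
  have h2 := Finset.card_le_card h1
  rw [Finset.card_univ, Fintype.card_fin] at h2
  have h3 := (Finset.card_le_three (a := a) (b := b) (c := c))
  have h4 := K.five_leD
  omega

/-- the vector of a pair -/
theorem exists_vecD (i : Fin k) {x y : Fin (2 ^ m + 1)} (h : x ≠ y) : ∃ v ∈ WW V H R, co v = indi i x y := by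
  apply K.surj
  intro j
  unfold indi
  by_cases hj : j = i
  · have e : ∀ z : Fin (2 ^ m + 1), (if j = i ∧ (z = x ∨ z = y) then (1 : ZMod 2) else 0) =
        (if z = x then 1 else 0) + (if z = y then 1 else 0) := by
      intro z
      by_cases h1 : z = x
      · rw [if_pos ⟨hj, Or.inl h1⟩, if_pos h1, if_neg (fun h2 => h (h1.symm.trans h2)), add_zero]
      · by_cases h2 : z = y
        · rw [if_pos ⟨hj, Or.inr h2⟩, if_neg h1, if_pos h2, zero_add]
        · rw [if_neg (fun h3 => h3.2.elim h1 h2), if_neg h1, if_neg h2, add_zero]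
    rw [Finset.sum_congr rfl fun z _ => e z, Finset.sum_add_distrib, Finset.sum_ite_eq' Finset.univ x,
      Finset.sum_ite_eq' Finset.univ y, if_pos (Finset.mem_univ _), if_pos (Finset.mem_univ _)]
    exact zmodD_self 1
  · apply Finset.sum_eq_zero
    intro z _
    rw [if_neg fun h3 => hj h3.1]

/-- a vector which is moved by the transposition `(x y)` of block `i` -/
theorem exists_sepD (i : Fin k) {x y : Fin (2 ^ m + 1)} (h : x ≠ y) : ∃ v ∈ WW V H R, co v i x ≠ co v i y := by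
  obtain ⟨z, hz1, hz2, _⟩ := K.exists_letterD x y y
  obtain ⟨v, hv, hco⟩ := K.exists_vecD i hz1.symm
  refine ⟨v, hv, ?_⟩
  rw [hco]
  unfold indi
  rw [if_pos ⟨rfl, Or.inl rfl⟩, if_neg (fun h3 => h3.2.elim (fun h4 => h h4.symm) fun h4 => hz2 h4.symm)]
  exact one_ne_zero

/-- `co (g w + w)` -/
theorem co_swD {g : Y} {i : Fin k} {x y : Fin (2 ^ m + 1)} (h : Sw V H R co g i x y) (hg : g ∈ H) {v : V}
    (hv : v ∈ WW V H R) (h1 : co v i x ≠ co v i y) : co (g • v + v) = indi i x y := by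
  rw [K.add _ (smul_mem_WW hg hv) _ hv]
  funext j z
  rw [Pi.add_apply, Pi.add_apply]
  unfold indi
  by_cases hj : j = i
  · subst hj
    rw [h.co_i hv]
    by_cases hx : z = x
    · rw [if_pos ⟨rfl, Or.inl hx⟩, hx, Equiv.swap_apply_left]
      exact zmodD_ne h1.symm
    · by_cases hy : z = y
      · rw [if_pos ⟨rfl, Or.inr hy⟩, hy, Equiv.swap_apply_right]
        exact zmodD_ne h1
      · rw [if_neg (fun h3 => h3.2.elim hx hy), Equiv.swap_apply_of_ne_of_ne hx hy]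
        exact zmodD_self _
  · rw [if_neg (fun h3 => hj h3.1), h.co_j hv hj]
    exact zmodD_self _

/-- the action on `W` is determined by the coordinates -/
theorem smul_eq_ofD {g g' : Y} (hg : g ∈ H) (hg' : g' ∈ H) {σ : Equiv.Perm (Fin k)}
    {τ : Fin k → Equiv.Perm (Fin (2 ^ m + 1))} (h : ActS V H R co g σ τ) (h' : ActS V H R co g' σ τ) {w : V}
    (hw : w ∈ WW V H R) : g • w = g' • w := by
  have h1 := K.trivH (g⁻¹ * g') (H.mul_mem (H.inv_mem hg) hg') (fun w hw => by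
    funext i x
    have hu : (g⁻¹ * g') • w ∈ WW V H R := smul_mem_WW (H.mul_mem (H.inv_mem hg) hg') hw
    have h2 := h _ hu i x
    rw [← mul_smul, mul_inv_cancel_left, h' w hw i x] at h2
    exact h2.symm) w hw
  rw [mul_smul, inv_smul_eq_iff] at h1
  exact h1.symm

theorem sw_smulD {g g' : Y} (hg : g ∈ H) (hg' : g' ∈ H) {i : Fin k} {x y : Fin (2 ^ m + 1)}
    (h : Sw V H R co g i x y) (h' : Sw V H R co g' i x y) {w : V} (hw : w ∈ WW V H R) : g • w = g' • w :=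
  K.smul_eq_ofD hg hg' h.act h'.act hw

/-- `H` is transitive on the ordered pairs of letters -/
theorem exists_moveD (hRH : R ≤ H) (i j : Fin k) {x y x' y' : Fin (2 ^ m + 1)} (h : x ≠ y) (h' : x' ≠ y') :
    ∃ l ∈ H, ∃ σ τ, ActS V H R co l σ τ ∧ σ i = j ∧ τ i x = x' ∧ τ i y = y' := by
  obtain ⟨r, hr, σ, τ, hrs, hij⟩ := K.trans i j
  obtain ⟨p, hp1, hp2⟩ := exists_permD (a := τ i x) (b := τ i y) (fun h1 => h ((τ i).injective h1)) h'
  obtain ⟨g, hg, hgτ, _⟩ := K.lift (fun _ => p)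
  refine ⟨g * r, H.mul_mem hg (hRH hr), _, _, hgτ.mulD (hRH hr) hrs, ?_, ?_, ?_⟩
  · rw [Equiv.Perm.mul_apply, hij]; rfl
  · rw [Equiv.Perm.mul_apply]; exact hp1
  · rw [Equiv.Perm.mul_apply]; exact hp2

/-- **two transpositions in `R` which share a letter coincide** -/
theorem sw_disjD (hRH : R ≤ H) (hR : IsPGroup 2 R)
    (hQ : ∀ q ∈ QQ H R, ∀ w ∈ WW V H R, q • w = w) {r s : Y} (hr : r ∈ R) (hs : s ∈ R) {i : Fin k}
    {x y z : Fin (2 ^ m + 1)} (h : Sw V H R co r i x y) (h' : Sw V H R co s i x z) : y = z := by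
  by_contra hyz
  set c : Equiv.Perm (Fin (2 ^ m + 1)) := Equiv.swap x y * Equiv.swap x z with hc
  have hc3 : c ^ 3 = 1 := by
    have h1 := Equiv.Perm.isThreeCycle_swap_mul_swap_same h.ne h'.ne hyz
    rw [← hc] at h1
    rw [← h1.orderOf]
    exact pow_orderOf_eq_one c
  set g := r * s with hgdef
  have hg : g ∈ R := R.mul_mem hr hs
  have hgc : ActS V H R co g 1 (Function.update 1 i c) := by
    have h1 := h.act.mulD (hRH hs) h'.act
    rw [mul_one] at h1
    have e : (fun j => (Function.update (1 : Fin k → Equiv.Perm (Fin (2 ^ m + 1))) i (Equiv.swap x y))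
        ((1 : Equiv.Perm (Fin k)) j) * (Function.update (1 : Fin k → Equiv.Perm (Fin (2 ^ m + 1))) i
        (Equiv.swap x z)) j) = Function.update (1 : Fin k → Equiv.Perm (Fin (2 ^ m + 1))) i c := by
      funext j
      rw [Equiv.Perm.one_apply]
      by_cases hj : j = i
      · subst hj
        rw [Function.update_self, Function.update_self, Function.update_self]
      · rw [Function.update_of_ne hj, Function.update_of_ne hj, Function.update_of_ne hj, Pi.one_apply, mul_one]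
    rwa [e] at h1
  -- `g³ ∈ Q`
  have h3 : g ^ 3 ∈ QQ H R := by
    apply K.triv _ (R.pow_mem hg 3)
    intro w hw
    have hg1 := hRH hg
    have key : ∀ w ∈ WW V H R, ∀ j z, co (g • w) j ((Function.update (1 : Fin k → Equiv.Perm (Fin (2 ^ m + 1))) i c) j z) =
        co w j z := fun w hw j z => hgc w hw j z
    have h4 : co (g ^ 3 • w) = co w := by
      funext j z
      have e : g ^ 3 • w = g • g • g • w := by rw [pow_succ, pow_two, mul_smul, mul_smul]
      have h5 := key _ (smul_mem_WW hg1 (smul_mem_WW hg1 hw)) j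
        ((Function.update (1 : Fin k → Equiv.Perm (Fin (2 ^ m + 1))) i c) j ((Function.update (1 : Fin k → Equiv.Perm (Fin (2 ^ m + 1))) i c) j z))
      rw [key _ (smul_mem_WW hg1 hw), key _ hw] at h5
      rw [e, ← h5]
      congr 1
      by_cases hj : j = i
      · subst hj
        rw [Function.update_self]
        have : c (c (c z)) = (c ^ 3) z := by rw [pow_succ, pow_two]; rfl
        rw [this, hc3]; rfl
      · rw [Function.update_of_ne hj]; rfl
    rw [K.add _ (smul_mem_WW (H.pow_mem hg1 3) hw) _ hw, h4]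
    funext j z
    exact zmodD_self _
  -- so `g ∈ Q`
  have h4 : g ∈ QQ H R := by
    obtain ⟨a, ha⟩ := hR ⟨g, hg⟩
    have ha' : g ^ 2 ^ a = 1 := congrArg Subtype.val ha
    have hcop : Nat.Coprime 3 (2 ^ a) := Nat.Coprime.pow_right a (by norm_num)
    have h5 := (QQ H R).zpow_mem h3 (Nat.gcdA 3 (2 ^ a))
    have h6 := Nat.gcd_eq_gcd_ab 3 (2 ^ a)
    rw [hcop.gcd_eq_one] at h6
    have h7 : g = (g ^ 3) ^ (Nat.gcdA 3 (2 ^ a)) := by
      have h8 : g ^ (((3 : ℕ) : ℤ) * Nat.gcdA 3 (2 ^ a) + ((2 ^ a : ℕ) : ℤ) * Nat.gcdB 3 (2 ^ a)) = g := by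
        rw [← h6, Nat.cast_one, zpow_one]
      rw [zpow_add, zpow_mul, zpow_mul, zpow_natCast, zpow_natCast, ha', one_zpow, mul_one] at h8
      exact h8.symm
    rw [h7]
    exact h5
  -- but `g` moves a vector
  obtain ⟨w, hw, hwx⟩ := K.exists_sepD i h'.ne
  have h5 := hQ g h4 w hw
  have h6 := hgc w hw i z
  rw [h5, Equiv.Perm.one_apply, Function.update_self, hc, Equiv.Perm.mul_apply, Equiv.swap_apply_right,
    Equiv.swap_apply_left] at h6
  have h7 := hgc w hw i x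
  rw [h5, Equiv.Perm.one_apply, Function.update_self, hc, Equiv.Perm.mul_apply, Equiv.swap_apply_left,
    Equiv.swap_apply_of_ne_of_ne h'.ne.symm (Ne.symm hyz)] at h7
  exact hwx h7.symm

end KSym

end ksym

end Cfsg.Agent.Omega.NO1.TH.K

end

section


/-!
# N1, `S_n` type, case (d), `a = 2`, `|U| = 4` (bb OMEGA 21636 (1)-(5), helper593)

`S4` : both sides of the amalgam, all members have order 4, `|V : E_B| = 2`, no offender, and for every member
`D ≤ H` (resp. `H'`) outside `M`: `W' ≰ E_D`, the element of `D ∩ Q` acts on `W'` as one transposition.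
`S4.false` : this is impossible.
-/

set_option autoImplicit false
set_option linter.unusedSectionVars false
set_option linter.dupNamespace false

namespace Cfsg.Agent.Omega.NO1.TH.K

open Subgroup Cfsg.Agent.Omega.NO1.AB Cfsg.Agent.Omega.FFBr
open scoped Pointwise

universe u

variable {Y : Type u} [Group Y]

/-- The data of one active member `D ≤ H` of order 4: `D = {1, b, u, bu}`, `b ∈ Q`, `u` acts on `W` as the
transposition `(x y)` of block `i`, `f` the vector of this pair, `[E_D, D] = {0, f}`. -/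
structure Pk (V : Type u) [AddCommGroup V] [DistribMulAction Y V] (H R : Subgroup Y) {k n : ℕ}
    (co : V → Fin k → Fin n → ZMod 2) (D : Subgroup Y) (b u : Y) (i : Fin k) (x y : Fin n) (f : V) : Prop where
  bD : b ∈ D
  bQ : b ∈ QQ H R
  b1 : b ≠ 1
  uD : u ∈ D
  sw : Sw V H R co u i x y
  all : ∀ d ∈ D, d = 1 ∨ d = b ∨ d = u ∨ d = b * u
  q : ∀ d ∈ D, d ∈ QQ H R → d = 1 ∨ d = b
  fW : f ∈ WW V H R
  co_f : co f = indi i x y
  ff : f ∈ fx V D
  EE : ∀ d ∈ D, ∀ e ∈ Ee V D, d • e = e ∨ d • e + e = f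

/-- The setting. -/
structure S4 (V : Type u) [AddCommGroup V] [DistribMulAction Y V] (U : Set (Subgroup Y)) (T : Sylow 2 Y)
    (M H H' R : Subgroup Y) (k m : ℕ) (co co' : V → Fin k → Fin (2 ^ m + 1) → ZMod 2) (t : Y) : Prop where
  s : TwoS V U T M H H' R k m co co' t
  c4 : ∀ D ∈ U, Nat.card D = 4
  ind : ∀ D ∈ U, (Ee V D).index = 2
  noff : ∀ A : Subgroup Y, (∀ x ∈ A, ∀ y ∈ A, x * y = y * x) → (∀ x ∈ A, x * x = 1) → A ≠ ⊥ →
    Nat.card A < (fx V A).index
  d : ∀ D ∈ U, D ≤ H → ¬ D ≤ M → ¬ WW V H' R ≤ Ee V D ∧ ∃ b ∈ D, b ∈ QQ H R ∧ ∃ i x y, Sw V H' R co' b i x y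
  d' : ∀ D ∈ U, D ≤ H' → ¬ D ≤ M → ¬ WW V H R ≤ Ee V D ∧ ∃ b ∈ D, b ∈ QQ H' R ∧ ∃ i x y, Sw V H R co b i x y
  ex : ∃ D ∈ U, D ≤ H ∧ ¬ D ≤ M
  ex' : ∃ D ∈ U, D ≤ H' ∧ ¬ D ≤ M

variable {V : Type u} [AddCommGroup V] [DistribMulAction Y V] {U : Set (Subgroup Y)} {T : Sylow 2 Y}
  {M H H' R : Subgroup Y} {k m : ℕ} {co co' : V → Fin k → Fin (2 ^ m + 1) → ZMod 2} {t : Y}

theorem S4.swap (h : S4 V U T M H H' R k m co co' t) : S4 V U T M H' H R k m co' co t where
  s := h.s.swap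
  c4 := h.c4
  ind := h.ind
  noff := h.noff
  d := h.d'
  d' := h.d
  ex := h.ex'
  ex' := h.ex

section side

variable [Finite Y] [Finite V] (h : TwoS V U T M H H' R k m co co' t)
include h

theorem TwoS.RH : R ≤ H := h.a.RH

theorem TwoS.qfix {q : Y} (hq : q ∈ QQ H R) {w : V} (hw : w ∈ WW V H R) : q • w = w :=
  Amal.QQ_fix h.a h.amb hq hw

theorem TwoS.disj {r s : Y} (hr : r ∈ R) (hs : s ∈ R) {i : Fin k} {x y z : Fin (2 ^ m + 1)}
    (h1 : Sw V H R co r i x y) (h2 : Sw V H R co s i x z) : y = z :=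
  h.K.sw_disjD h.a.RH h.a.R2 (fun _ hq _ hw => h.qfix hq hw) hr hs h1 h2

theorem Sw.not_QQ {u : Y} {i : Fin k} {x y : Fin (2 ^ m + 1)} (hu : Sw V H R co u i x y) : u ∉ QQ H R := by
  intro hq
  obtain ⟨v, hv, hne⟩ := h.K.exists_sepD i hu.ne
  exact hne (hu.co_of_fix hv (by rw [h.qfix hq hv]))

/-- an active member contains a transposition -/
theorem TwoS.exists_sw {D : Subgroup Y} (hD : D ∈ U) (hDH : D ≤ H) (hDQ : ¬ D ≤ QQ H R) :
    ∃ u ∈ D, ∃ i x y, Sw V H R co u i x y := by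
  obtain ⟨l, hl, hlU, hlR⟩ := Amal.exists_conj h.a h.amb hD hDH
  have hm := h.amb.cls.mem _ hlU
  have hnQ : ¬ MulAut.conj l • D ≤ QQ H R := by
    intro h1
    apply hDQ
    intro x hx
    have h2 := conj_mem_QQ (H.inv_mem hl) (h1 (conj_mem_conj (g := l) hx))
    have e : l⁻¹ * (l * x * l⁻¹) * l⁻¹⁻¹ = x := by group
    rwa [e] at h2
  have hex := Amal.exact' h.a h.amb h.we hlU (hlR.trans h.a.RH)
  obtain ⟨_, h2⟩ := h.K.off _ hlR ⟨hm.comm, hm.sq⟩ hnQ (by
    rw [inf_comm (fx V _)]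
    rw [mul_comm, hex])
  obtain ⟨a, ha, haQ⟩ := SetLike.not_le_iff_exists.1 hnQ
  obtain ⟨τ, hτ, hτ2⟩ := h2 a ha
  have hmove : ∃ i x, τ i x ≠ x := by
    by_contra hcon
    push Not at hcon
    apply haQ
    apply h.K.triv a (hlR ha)
    intro w hw
    rw [h.K.add _ (smul_mem_WW (h.a.RH (hlR ha)) hw) _ hw]
    funext i x
    have h3 := hτ w hw i x
    rw [Equiv.Perm.one_apply, hcon i x] at h3
    rw [Pi.add_apply, Pi.add_apply, h3]
    exact zmodD_self _
  obtain ⟨i, x, hix⟩ := hmove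
  obtain ⟨_, c, hc, hcs⟩ := hτ2 i x hix
  have hsw : Sw V H R co c i x (τ i x) := ⟨Ne.symm hix, hcs⟩
  obtain ⟨σ, ρ, hσ⟩ := h.K.perm _ (H.inv_mem hl)
  refine ⟨l⁻¹ * c * l, mem_conj.1 hc, σ i, ρ i x, ρ i (τ i x), ?_⟩
  have h4 := hsw.conj (h.a.RH (hlR hc)) (H.inv_mem hl) hσ
  rwa [inv_inv] at h4

/-- the data of an active member -/
theorem TwoS.exists_pk_of {D : Subgroup Y} (hD : D ∈ U) (hDH : D ≤ H) (c4 : Nat.card D = 4) {u : Y} (hu : u ∈ D)
    {i : Fin k} {x y : Fin (2 ^ m + 1)} (hsw : Sw V H R co u i x y) : ∃ b f, Pk V H R co D b u i x y f := by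
  have hm := h.amb.cls.mem _ hD
  have two := h.amb.two
  have hE := Amal.WW_le_Ee h.a h.amb h.we hD hDH
  have huQ := Sw.not_QQ h hsw
  obtain ⟨b, hb, hb1⟩ : ∃ b ∈ D ⊓ QQ H R, b ≠ 1 := by
    by_contra hcon
    push Not at hcon
    apply Amal.ne_bot h.a h.amb h.we hD hDH
    rw [eq_bot_iff]
    intro b hb
    rw [mem_bot]
    exact hcon b hb
  have hu1 : u ≠ 1 := fun h1 => huQ (by rw [h1]; exact one_mem _)
  have hbu : b ≠ u := fun h1 => huQ (by rw [← h1]; exact hb.2)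
  have hall : ∀ d ∈ D, d = 1 ∨ d = b ∨ d = u ∨ d = b * u := fun d hd =>
    four_cases c4 hb.1 hu hb1 hu1 hbu (hm.sq b hb.1) hd
  obtain ⟨w, hw, hwne⟩ := h.K.exists_sepD i hsw.ne
  have huw : u • w ≠ w := fun h1 => hwne (hsw.co_of_fix hw (by rw [h1]))
  refine ⟨b, u • w + w, ⟨hb.1, hb.2, hb1, hu, hsw, hall, ?_, ?_, ?_, ?_, ?_⟩⟩
  · intro d hd hdQ
    rcases hall d hd with h1 | h1 | h1 | h1
    · exact Or.inl h1
    · exact Or.inr h1
    · exact absurd (by rw [← h1]; exact hdQ) huQ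
    · exfalso
      apply huQ
      have h2 := (QQ H R).mul_mem ((QQ H R).inv_mem hb.2) hdQ
      rwa [h1, inv_mul_cancel_left] at h2
  · exact add_mem (smul_mem_WW (hDH hu) hw) hw
  · exact h.K.co_swD hsw (hDH hu) hw hwne
  · exact hm.EB u hu w (hE hw)
  · intro d hd e he
    by_cases h1 : d • e = e
    · exact Or.inl h1
    · exact Or.inr (four_eq hm two c4 hd hu he (hE hw) h1 huw)

theorem TwoS.exists_pk {D : Subgroup Y} (hD : D ∈ U) (hDH : D ≤ H) (c4 : Nat.card D = 4) (hDQ : ¬ D ≤ QQ H R) :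
    ∃ b u i x y f, Pk V H R co D b u i x y f := by
  obtain ⟨u, hu, i, x, y, hsw⟩ := h.exists_sw hD hDH hDQ
  obtain ⟨b, f, hp⟩ := h.exists_pk_of hD hDH c4 hu hsw
  exact ⟨b, u, i, x, y, f, hp⟩

namespace Pk

variable {D : Subgroup Y} {b u : Y} {i : Fin k} {x y : Fin (2 ^ m + 1)} {f : V} (hD : D ∈ U) (hDH : D ≤ H)
  (p : Pk V H R co D b u i x y f)
include hD hDH p

theorem symm : Pk V H R co D b u i y x f :=
  { p with
    sw := p.sw.symm
    co_f := by rw [p.co_f, indi_comm] }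

/-- an element acting as `(x y)`: its commutators -/
theorem comm_eq {g : Y} (hg : g ∈ H) (hsw : Sw V H R co g i x y) {w : V} (hw : w ∈ WW V H R)
    (hne : co w i x ≠ co w i y) : g • w + w = f := by
  have hE := Amal.WW_le_Ee h.a h.amb h.we hD hDH
  rw [h.K.sw_smulD hg (hDH p.uD) hsw p.sw hw]
  rcases p.EE u p.uD w (hE hw) with h1 | h1
  · exact absurd (p.sw.co_of_fix hw (by rw [h1])) hne
  · exact h1

theorem fix_of {g : Y} (hg : g ∈ H) (hsw : Sw V H R co g i x y) {w : V} (hw : w ∈ WW V H R)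
    (he : co w i x = co w i y) : g • w = w := by
  have hE := Amal.WW_le_Ee h.a h.amb h.we hD hDH
  rw [h.K.sw_smulD hg (hDH p.uD) hsw p.sw hw]
  rcases p.EE u p.uD w (hE hw) with h1 | h1
  · exact h1
  · exfalso
    have h2 : co (u • w + w) = 0 := by
      rw [h.K.add _ (smul_mem_WW (hDH p.uD) hw) _ hw, p.sw.co_same hw he]
      funext j z
      exact zmodD_self _
    rw [h1, p.co_f] at h2
    exact indi_ne i x y h2

theorem f_eq {D₂ : Subgroup Y} {b₂ u₂ : Y} {f₂ : V} (hD₂ : D₂ ∈ U) (hD₂H : D₂ ≤ H)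
    (p₂ : Pk V H R co D₂ b₂ u₂ i x y f₂) : f = f₂ := by
  obtain ⟨w, hw, hwne⟩ := h.K.exists_sepD i p.sw.ne
  rw [← comm_eq h hD hDH p (hDH p.uD) p.sw hw hwne, ← comm_eq h hD₂ hD₂H p₂ (hDH p.uD) p.sw hw hwne]

/-- `C_V(b) = W + F_D` -/
theorem fix_b {v : V} (hv : b • v = v) : v ∈ WW V H R ⊔ fx V D := by
  rw [← Amal.fx_eq h.a h.amb h.we hD hDH]
  rintro d ⟨hd, hdQ⟩
  rcases p.q d hd hdQ with rfl | rfl
  · exact one_smul Y v
  · exact hv

end Pk

/-- `{y ∈ H | y acts on W as an element of R}` -/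
def XR (V : Type u) [AddCommGroup V] [DistribMulAction Y V] {H R : Subgroup Y} (hRH : R ≤ H) : Subgroup Y where
  carrier := {y | y ∈ H ∧ ∃ r ∈ R, ∀ w ∈ WW V H R, y • w = r • w}
  one_mem' := ⟨one_mem _, 1, one_mem _, fun _ _ => rfl⟩
  mul_mem' := by
    rintro a b ⟨ha, r, hr, h1⟩ ⟨hb, s, hs, h2⟩
    refine ⟨H.mul_mem ha hb, r * s, R.mul_mem hr hs, fun w hw => ?_⟩
    rw [mul_smul, h2 w hw, h1 _ (smul_mem_WW (hRH hs) hw), mul_smul]
  inv_mem' := by
    rintro a ⟨ha, r, hr, h1⟩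
    refine ⟨H.inv_mem ha, r⁻¹, R.inv_mem hr, fun w hw => ?_⟩
    rw [inv_smul_eq_iff, h1 _ (smul_mem_WW (H.inv_mem (hRH hr)) hw), smul_inv_smul]

/-- **a transposition of `R` is induced by a member `≤ R`** (Sylow in `R C_H(W)`) -/
theorem TwoS.exists_in_R (c4 : ∀ D ∈ U, Nat.card D = 4) {r : Y} (hr : r ∈ R) {i : Fin k} {x y : Fin (2 ^ m + 1)}
    (hsw : Sw V H R co r i x y) : ∃ B ∈ U, B ≤ R ∧ ∃ b u f, Pk V H R co B b u i x y f := by
  obtain ⟨D, hD, hDR, hDQ⟩ := Amal.exists_not_QQ h.a h.amb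
  have hDH := hDR.trans h.a.RH
  obtain ⟨b, u, i₀, x₀, y₀, f, p⟩ := h.exists_pk hD hDH (c4 D hD) hDQ
  obtain ⟨l, hl, σ, τ, hlσ, hi, hx, hy⟩ := h.K.exists_moveD h.a.RH i₀ i p.sw.ne hsw.ne
  have hD₁ : MulAut.conj l • D ∈ U := h.amb.cls.conj D hD l
  have hD₁H : MulAut.conj l • D ≤ H := by
    intro z hz
    rw [mem_conj] at hz
    have h1 := H.mul_mem (H.mul_mem hl (hDH hz)) (H.inv_mem hl)
    have e : l * (l⁻¹ * z * l) * l⁻¹ = z := by group
    rwa [e] at h1
  have hsw₁ : Sw V H R co (l * u * l⁻¹) i x y := by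
    have h1 := p.sw.conj (hDH p.uD) hl hlσ
    rwa [hi, hx, hy] at h1
  obtain ⟨b₁, f₁, p₁⟩ := h.exists_pk_of hD₁ hD₁H (c4 _ hD₁) (conj_mem_conj p.uD) hsw₁
  -- `D₁ ≤ R C_H(W)`
  have hRX : R ≤ XR V h.a.RH := fun s hs => ⟨h.a.RH hs, s, hs, fun _ _ => rfl⟩
  have hXH : XR V h.a.RH ≤ H := fun s hs => hs.1
  have hbX : b₁ ∈ XR V h.a.RH :=
    ⟨h.a.RH (QQ_le p₁.bQ), 1, one_mem _, fun w hw => by rw [one_smul]; exact h.qfix p₁.bQ hw⟩
  have huX : l * u * l⁻¹ ∈ XR V h.a.RH :=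
    ⟨hD₁H p₁.uD, r, hr, fun w hw => h.K.sw_smulD (hD₁H p₁.uD) (h.a.RH hr) hsw₁ hsw hw⟩
  have hD₁X : MulAut.conj l • D ≤ XR V h.a.RH := by
    intro d hd
    rcases p₁.all d hd with rfl | rfl | rfl | rfl
    · exact one_mem _
    · exact hbX
    · exact huX
    · exact mul_mem hbX huX
  obtain ⟨z, ⟨hzH, r₁, hr₁, hz⟩, hzR⟩ := conj_into hRX h.a.R2
    (fun R' h1 h2 => h.a.card_le h.a.bad.ne le_rfl (h1.trans hXH) h2) hD₁X (h.amb.cls.mem _ hD₁).isPGroup
  -- `z = r₁ c`, `c` trivial on `W`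
  have hcH : r₁⁻¹ * z ∈ H := H.mul_mem (H.inv_mem (h.a.RH hr₁)) hzH
  have hc : ∀ w ∈ WW V H R, (r₁⁻¹ * z) • w = w := fun w hw => by
    rw [mul_smul, hz w hw, inv_smul_smul]
  have hB : MulAut.conj (r₁⁻¹ * z) • MulAut.conj l • D ∈ U := h.amb.cls.conj _ hD₁ _
  have hBR : MulAut.conj (r₁⁻¹ * z) • MulAut.conj l • D ≤ R := by
    intro d hd
    rw [mem_conj] at hd
    have h1 := hzR (conj_mem_conj (g := z) hd)
    have h2 := R.mul_mem (R.mul_mem (R.inv_mem hr₁) h1) hr₁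
    have e : r₁⁻¹ * (z * ((r₁⁻¹ * z)⁻¹ * d * (r₁⁻¹ * z)) * z⁻¹) * r₁ = d := by group
    rwa [e] at h2
  have hsw₂ : Sw V H R co ((r₁⁻¹ * z) * (l * u * l⁻¹) * (r₁⁻¹ * z)⁻¹) i x y := by
    refine hsw₁.of_smul fun w hw => ?_
    have h1 : (r₁⁻¹ * z)⁻¹ • w = w := by rw [inv_smul_eq_iff, hc w hw]
    rw [mul_smul, mul_smul, h1, hc _ (smul_mem_WW (hD₁H p₁.uD) hw)]
  obtain ⟨b₂, f₂, p₂⟩ := h.exists_pk_of hB (hBR.trans h.a.RH) (c4 _ hB) (conj_mem_conj (conj_mem_conj p.uD)) hsw₂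
  exact ⟨_, hB, hBR, b₂, _, f₂, p₂⟩

/-- the elements of `H` which permute the letters `0` -/
def St0 (V : Type u) [AddCommGroup V] [DistribMulAction Y V] (H R : Subgroup Y) {k n : ℕ} [NeZero n]
    (co : V → Fin k → Fin n → ZMod 2) : Subgroup Y where
  carrier := {g | g ∈ H ∧ (∀ i, ∃ j, ∀ w ∈ WW V H R, co (g • w) j 0 = co w i 0) ∧
    ∀ i, ∃ j, ∀ w ∈ WW V H R, co (g⁻¹ • w) j 0 = co w i 0}
  one_mem' := ⟨one_mem _, fun i => ⟨i, fun w _ => by rw [one_smul]⟩,
    fun i => ⟨i, fun w _ => by rw [inv_one, one_smul]⟩⟩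
  mul_mem' := by
    rintro a b ⟨ha, h1, h2⟩ ⟨hb, h3, h4⟩
    refine ⟨H.mul_mem ha hb, fun i => ?_, fun i => ?_⟩
    · obtain ⟨j, hj⟩ := h3 i
      obtain ⟨l, hl⟩ := h1 j
      exact ⟨l, fun w hw => by rw [mul_smul, hl _ (smul_mem_WW hb hw), hj w hw]⟩
    · obtain ⟨j, hj⟩ := h2 i
      obtain ⟨l, hl⟩ := h4 j
      exact ⟨l, fun w hw => by rw [mul_inv_rev, mul_smul, hl _ (smul_mem_WW (H.inv_mem ha) hw), hj w hw]⟩
  inv_mem' := by
    rintro a ⟨ha, h1, h2⟩
    exact ⟨H.inv_mem ha, h2, fun i => by rw [inv_inv]; exact h1 i⟩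

theorem TwoS.R_le_St0 : R ≤ St0 V H R co := by
  have key : ∀ r ∈ R, ∀ i, ∃ j, ∀ w ∈ WW V H R, co (r • w) j 0 = co w i 0 := by
    intro r hr i
    obtain ⟨σ, τ, hσ⟩ := h.K.perm r (h.a.RH hr)
    refine ⟨σ i, fun w hw => ?_⟩
    have h1 := hσ w hw i 0
    rwa [h.K.fix0 r hr σ τ hσ i] at h1
  exact fun r hr => ⟨h.a.RH hr, key r hr, key _ (R.inv_mem hr)⟩

/-- **`Stab_H(0) ≤ M`** -/
theorem TwoS.St0_le : St0 V H R co ≤ M := by
  apply h.a.uniq _ h.R_le_St0
  refine lt_of_le_of_ne (fun g hg => hg.1) ?_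
  intro h1
  -- `(0 c)` in all blocks
  obtain ⟨c, hc0, _, _⟩ := h.K.exists_letterD 0 0 0
  obtain ⟨g, hg, hgτ, _⟩ := h.K.lift (fun _ => Equiv.swap 0 c)
  have h2 : g ∈ St0 V H R co := by rw [h1]; exact hg
  obtain ⟨_, h3, _⟩ := h2
  have i₀ : Fin k := ⟨0, h.K.kpos⟩
  obtain ⟨j, hj⟩ := h3 i₀
  obtain ⟨z, hz0, hz1, _⟩ := h.K.exists_letterD 0 c c
  obtain ⟨w, hw, hwco⟩ := h.K.exists_vecD i₀ hz0.symm
  have h4 := hj w hw
  have h5 := hgτ w hw j c
  rw [Equiv.swap_apply_right, Equiv.Perm.one_apply, h4, hwco] at h5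
  unfold indi at h5
  rw [if_pos ⟨rfl, Or.inl rfl⟩, if_neg (fun h6 => h6.2.elim hc0 fun h7 => hz1 h7.symm)] at h5
  exact one_ne_zero h5

/-- an element acting as a transposition which fixes the letter `0` is in `M` -/
theorem TwoS.sw_mem_M {g : Y} (hg : g ∈ H) {i : Fin k} {x y : Fin (2 ^ m + 1)} (hx : x ≠ 0) (hy : y ≠ 0)
    (hsw : ActS V H R co g 1 (Function.update 1 i (Equiv.swap x y))) : g ∈ M := by
  by_cases hxy : x = y
  · subst hxy
    apply h.St0_le
    have e : (Function.update (1 : Fin k → Equiv.Perm (Fin (2 ^ m + 1))) i (Equiv.swap x x)) = 1 := by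
      funext j
      by_cases hj : j = i
      · subst hj
        rw [Function.update_self, Equiv.swap_self]; rfl
      · rw [Function.update_of_ne hj]
    rw [e] at hsw
    have key : ∀ w ∈ WW V H R, g • w = w := by
      intro w hw
      have h1 := h.K.smul_eq_ofD hg (one_mem H) hsw (fun v _ j z => by rw [one_smul]; rfl) hw
      rwa [one_smul] at h1
    exact ⟨hg, fun j => ⟨j, fun w hw => by rw [key w hw]⟩, fun j => ⟨j, fun w hw => by
      rw [inv_smul_eq_iff.2 (key w hw).symm]⟩⟩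
  · have hs : Sw V H R co g i x y := ⟨hxy, hsw⟩
    have key : ∀ j, ∀ w ∈ WW V H R, co (g • w) j 0 = co w j 0 := by
      intro j w hw
      by_cases hj : j = i
      · subst hj
        rw [hs.co_i hw, Equiv.swap_apply_of_ne_of_ne hx.symm hy.symm]
      · exact hs.co_j hw hj 0
    apply h.St0_le
    refine ⟨hg, fun j => ⟨j, key j⟩, fun j => ⟨j, fun w hw => ?_⟩⟩
    have h1 := key j _ (smul_mem_WW (H.inv_mem hg) hw)
    rw [smul_inv_smul] at h1
    exact h1.symm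

/-- `C_H(W) ≤ M` -/
theorem TwoS.ker_M {g : Y} (hg : ∀ w ∈ WW V H R, g • w = w) : g ∈ M := by
  have h1 : CW V H R ≤ M := Amal.ker_le_M h.a h.amb fun x hx v hv => hx v (fx_le_WW hv)
  exact h1 hg

/-- **an active member is conjugate in `H` to a member outside `M`** -/
theorem TwoS.exists_out (c4 : ∀ D ∈ U, Nat.card D = 4) (hex : ∃ D ∈ U, D ≤ H ∧ ¬ D ≤ M) {D : Subgroup Y}
    (hD : D ∈ U) (hDH : D ≤ H) (hDQ : ¬ D ≤ QQ H R) : ∃ l ∈ H, ¬ MulAut.conj l • D ≤ M := by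
  obtain ⟨D₀, hD₀, hD₀H, hD₀M⟩ := hex
  have hD₀Q : ¬ D₀ ≤ QQ H R := fun h1 => hD₀M (h1.trans (QQ_le.trans (h.a.RT.trans h.amb.TM)))
  obtain ⟨b₀, u₀, i₀, x₀, y₀, f₀, p₀⟩ := h.exists_pk hD₀ hD₀H (c4 _ hD₀) hD₀Q
  obtain ⟨b, u, i, x, y, f, p⟩ := h.exists_pk hD hDH (c4 _ hD) hDQ
  obtain ⟨l, hl, σ, τ, hlσ, hi, hx, hy⟩ := h.K.exists_moveD h.a.RH i i₀ p.sw.ne p₀.sw.ne
  refine ⟨l, hl, fun hle => hD₀M ?_⟩
  have hsw₁ : Sw V H R co (l * u * l⁻¹) i₀ x₀ y₀ := by
    have h1 := p.sw.conj (hDH p.uD) hl hlσ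
    rwa [hi, hx, hy] at h1
  have hu₁ : l * u * l⁻¹ ∈ H := H.mul_mem (H.mul_mem hl (hDH p.uD)) (H.inv_mem hl)
  have hb₀M : b₀ ∈ M := h.amb.TM (h.a.RT (QQ_le p₀.bQ))
  have hu₀M : u₀ ∈ M := by
    have h1 : u₀ * (l * u * l⁻¹)⁻¹ ∈ M := by
      apply h.ker_M
      intro w hw
      have hw' := smul_mem_WW (H.inv_mem hu₁) hw
      rw [mul_smul, h.K.sw_smulD (hD₀H p₀.uD) hu₁ p₀.sw hsw₁ hw', smul_inv_smul]
    have h2 := M.mul_mem h1 (hle (conj_mem_conj (g := l) p.uD))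
    rwa [inv_mul_cancel_right] at h2
  intro d hd
  rcases p₀.all d hd with rfl | rfl | rfl | rfl
  · exact one_mem _
  · exact hb₀M
  · exact hu₀M
  · exact M.mul_mem hb₀M hu₀M

end side

end Cfsg.Agent.Omega.NO1.TH.K

end
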