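import Cfsg.Agent.Mrg.Omega.NO1.TH.K.Base
import Cfsg.Agent.Mrg.Omega.NO1.TH.K.EOne
import Cfsg.Agent.Mrg.Omega.NO1.TH.Fact
import Cfsg.Agent.Mrg.Omega.NO1.AB.Beta
import Cfsg.Agent.Mrg.Omega.CloseA.Coord

section


/-!
# N1, natural type with `k` factors: the input `LIn` of (L1) (bb OMEGA 21480 / 20646), assembly

`LIn` from `LFac` on both sides, (a), (e) [`S_X ≤ K`, the support of `B₁` on `W'`] and (z).
-/

set_option autoImplicit false
set_option linter.unusedSectionVars false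
set_option linter.dupNamespace false

namespace Cfsg.Agent.Omega.NO1.TH

open Subgroup Cfsg.Agent.Omega.NO1.AB Cfsg.Agent.Omega.FFBr Cfsg.Agent.Lib.SL2Mat
open scoped Pointwise

universe u

variable {Y : Type u} [Group Y] {V : Type u} [AddCommGroup V] [DistribMulAction Y V]
variable [Finite Y] [Finite V] {U : Set (Subgroup Y)} {T : Sylow 2 Y} {M H R : Subgroup Y} {t : Y}

/-- **`LIn`, any type** -/
theorem lIn_of (a : Amal U T M H R t) (a' : Amal U T M (MulAut.conj t • H) R t) (h : Amb V U T M)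
    (we : WE V U H R) (we' : WE V U (MulAut.conj t • H) R) {ι : Type} {P : ι → Subgroup Y}
    {Ψ : ι → AddSubgroup V} {ι' : Type} {P' : ι' → Subgroup Y} {Ψ' : ι' → AddSubgroup V} {A : Subgroup Y}
    (fac : LFac V U H R P Ψ) (fac' : LFac V U (MulAut.conj t • H) R P' Ψ') (hA : A ∈ U) (hAH : A ≤ H)
    (hAM : ¬ A ≤ M) (hBQ : ¬ A ⊓ QQ H R ≤ QQ (MulAut.conj t • H) R)
    (hS : ∀ w, w ∉ Ee V A → ∀ s ∈ A, s • w + w ∈ WW V H R ⊔ WW V (MulAut.conj t • H) R ⊔ fx V A →
      s ∈ QQ H R ∧ s ∈ QQ (MulAut.conj t • H) R)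
    (faith : ∀ u ∈ A, (∀ w ∈ WW V H R, u • w + w ∈ D0 V U H R) → u ∈ QQ H R)
    (le₁ : ∀ x ∈ H, ∀ w ∈ WW V (MulAut.conj t • H) R, x • w ∈ Ee V A)
    (le₂ : ∀ x ∈ MulAut.conj t • H, ∀ w ∈ WW V H R, x • w ∈ Ee V A)
    (exact : ∃ Δ : Set ι', Δ.Nonempty ∧ (∀ b ∈ A, b ∈ QQ H R → b ∈ ⨆ p ∈ Δ, P' p) ∧
      ∀ p ∈ Δ, ∀ r ∈ P' p, ∃ b ∈ A, b ∈ QQ H R ∧ b⁻¹ * r ∈ QQ (MulAut.conj t • H) R)
    (mov : ∃ p, (∀ x ∈ brk (Ψ p) (P p), x ∈ fx V A → x ∈ D0 V U H R) ∧
      (∃ u ∈ A, ∃ x ∈ brk (Ψ p) (P p), u • x ∉ brk (Ψ p) (P p)) ∧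
      (∀ r ∈ P p, (∃ x ∈ Ψ p, r • x ≠ x) → ∀ z ∈ brk (Ψ p) (P p), ∃ x ∈ Ψ p, r • x + x + z ∈ D0 V U H R)) :
    LIn V U M H R t P Ψ P' Ψ' A := by
  have hAQ : ¬ A ≤ QQ H R := fun h1 => hAM (h1.trans (QQ_le.trans (a.RT.trans h.TM)))
  have hE : WW V (MulAut.conj t • H) R ≤ Ee V A := fun w hw => by
    have h1 := le₁ 1 H.one_mem w hw
    rwa [one_smul] at h1
  exact
    { fac := fac
      fac' := fac'
      mA := hA
      AH := hAH
      AM := hAM
      AQ := hAQ
      WE := a.WW_le_Ee h we hA hAH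
      pre := fun w hw s hs h1 => (hS w hw s hs (by
        rw [sup_right_comm]
        exact (le_sup_left : _ ≤ WW V H R ⊔ fx V A ⊔ WW V (MulAut.conj t • H) R) h1)).1
      faith := faith
      CB := fun v hv => by
        rw [← a.fx_eq h we hA hAH]
        exact fun b hb => hv b hb.1 hb.2
      CK := fun v hv => by
        obtain ⟨w, hw⟩ := (h.cls.mem A hA).ne
        rw [← Amal.e_CK a a' h we we' hA hAH hE hw hAQ hBQ (hS w hw)]
        exact fun b hb => hv b hb.1.1 hb.1.2 hb.2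
      le₁ := le₁
      le₂ := le₂
      exact := exact
      mov := mov.imp fun _ h1 => h1.1 }

end Cfsg.Agent.Omega.NO1.TH

namespace Cfsg.Agent.Omega.NO1.TH.K

open Subgroup Cfsg.Agent.Omega.NO1.AB Cfsg.Agent.Omega.FFBr Cfsg.Agent.Lib.SL2Mat
open scoped Pointwise

universe u

variable {Y : Type u} [Group Y] {V : Type u} [AddCommGroup V] [DistribMulAction Y V]

/-- the root group `R_i` of `R` (with `Q`) -/
def Rt (V : Type u) [AddCommGroup V] [DistribMulAction Y V] (H R : Subgroup Y) {F : Type} [Field F] {k : ℕ}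
    (co : V → Fin k → Fin 2 → F) (i : Fin k) (r : Y) : Prop :=
  r ∈ R ∧ ∃ b : Fin k → F, (∀ j, j ≠ i → b j = 0) ∧ Acts V H R co r fun j => up (b j)

variable {H R : Subgroup Y} {F : Type} [Field F] {k : ℕ} {co : V → Fin k → Fin 2 → F}

/-- an element of `R` acting as `(up (b i))_i`, `b = 0` outside `Δ`, is a product of elements of the root groups,
`i ∈ Δ` -/
theorem KNat.mem_biSup_of (K : KNat V H R F k co) (h2 : ∀ v : V, v + v = 0) (hRH : R ≤ H) (P : Fin k → Subgroup Y)
    (hP : ∀ i r, Rt V H R co i r → r ∈ P i) {Δ : Set (Fin k)} (hΔ : Δ.Nonempty) {r : Y} (hr : r ∈ R)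
    {b : Fin k → F} (hb0 : ∀ i, i ∉ Δ → b i = 0) (hb : Acts V H R co r fun i => up (b i)) : r ∈ ⨆ i ∈ Δ, P i := by
  obtain ⟨i₀, hi₀⟩ := hΔ
  have hle : ∀ i ∈ Δ, P i ≤ ⨆ i ∈ Δ, P i := fun i hi => le_iSup₂_of_le i hi le_rfl
  have key : ∀ s : Finset (Fin k), (∀ i ∈ s, i ∈ Δ) → ∀ b : Fin k → F, (∀ j, j ∉ s → b j = 0) → ∀ r ∈ R,
      Acts V H R co r (fun j => up (b j)) → r ∈ ⨆ i ∈ Δ, P i := by
    classical
    intro s
    induction s using Finset.induction with
    | empty =>
      intro _ b hb r hr hr'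
      exact hle i₀ hi₀ (hP i₀ r ⟨hr, b, fun j _ => hb j (Finset.notMem_empty j), hr'⟩)
    | insert i s hi ih =>
      intro hs b hb r hr hr'
      obtain ⟨u, hu, hu'⟩ := K.unip (Pi.single i (b i))
      have h3 : u ∈ ⨆ i ∈ Δ, P i := hle i (hs i (Finset.mem_insert_self i s))
        (hP i u ⟨hu, _, fun j hj => Pi.single_eq_of_ne hj _, hu'⟩)
      have h4 : u * r ∈ ⨆ i ∈ Δ, P i := by
        apply ih (fun j hj => hs j (Finset.mem_insert_of_mem hj))
          (fun j => (Pi.single i (b i) : Fin k → F) j + b j) (fun j hj => ?_) _ (R.mul_mem hu hr)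
        · exact hu'.up_mul (hRH hr) hr'
        · by_cases hji : j = i
          · subst hji
            rw [Pi.single_eq_same, K.F_two h2 j]
          · rw [Pi.single_eq_of_ne hji, zero_add]
            exact hb j (by
              rw [Finset.mem_insert]
              rintro (h6 | h6)
              · exact hji h6
              · exact hj h6)
      have h5 := (⨆ i ∈ Δ, P i).mul_mem ((⨆ i ∈ Δ, P i).inv_mem h3) h4
      rwa [inv_mul_cancel_left] at h5
  classical
  refine key (Finset.univ.filter fun i => i ∈ Δ) (fun i hi => (Finset.mem_filter.1 hi).2) b (fun j hj => ?_) r hr hb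
  apply hb0
  intro h3
  exact hj (Finset.mem_filter.2 ⟨Finset.mem_univ j, h3⟩)

variable [Finite Y] [Finite V] {U : Set (Subgroup Y)} {T : Sylow 2 Y} {M : Subgroup Y} {t : Y}

/-- field `exact` of `LIn` from the support of `B₁` on `W'` -/
theorem exact_of (K : KNat V H R F k co) (h2 : ∀ v : V, v + v = 0) (hRH : R ≤ H) {P : Fin k → Subgroup Y}
    (hP : ∀ i r, r ∈ P i ↔ Rt V H R co i r) {B : Subgroup Y} (hBR : B ≤ R) {Δ : Set (Fin k)} (hΔ : Δ.Nonempty)
    (hS : Supp V H R co B Δ) : ∃ Δ : Set (Fin k), Δ.Nonempty ∧ (∀ b ∈ B, b ∈ ⨆ p ∈ Δ, P p) ∧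
      ∀ p ∈ Δ, ∀ r ∈ P p, ∃ b ∈ B, b⁻¹ * r ∈ QQ H R := by
  refine ⟨Δ, hΔ, fun x hx => ?_, fun p hp r hr => ?_⟩
  · obtain ⟨b, hb0, hb⟩ := hS.act x hx
    exact K.mem_biSup_of h2 hRH P (fun i r => (hP i r).2) hΔ (hBR hx) hb0 hb
  · obtain ⟨hrR, b, hb0, hb⟩ := (hP p r).1 hr
    obtain ⟨x, hx, hxb⟩ := hS.full b fun i hi => hb0 i (by
      rintro rfl
      exact hi hp)
    refine ⟨x, hx, ?_⟩
    have h3 := hxb.inv (hRH (hBR hx))
    have e : (fun i => (up (b i))⁻¹) = fun i => up (-b i) := by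
      funext i
      exact up_inv _
    rw [e] at h3
    have h4 := h3.up_mul (hRH hrR) hb
    exact K.mem_Q_of_up_zero h2 hRH (R.mul_mem (R.inv_mem (hBR hx)) hrR) h4 fun i => neg_add_cancel _

/-- `B₁ ≰ Q'` from the support -/
theorem not_le_of_supp (K : KNat V H R F k co) (amb : Amb V U T M) (a : Amal U T M H R t) {B : Subgroup Y}
    {Δ : Set (Fin k)} (hΔ : Δ.Nonempty) (hS : Supp V H R co B Δ) : ¬ B ≤ QQ H R := by
  intro h1
  obtain ⟨i, hi⟩ := hΔ
  classical
  obtain ⟨u, hu, h4⟩ := hS.full (Pi.single i 1) fun l hl => by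
    rw [Pi.single_eq_of_ne]
    rintro rfl
    exact hl hi
  obtain ⟨v, hv, hvi, _⟩ := K.exists_at i ![0, 1]
  have h5 := h4.up_fst hv i
  rw [Q_fix amb a u (h1 hu) v hv, hvi, Pi.single_eq_same] at h5
  simp at h5

end Cfsg.Agent.Omega.NO1.TH.K

end

section


/-!
# N1-ONE, (B) of #19584, natural type, any `k` (helper247 #20646): the action on one component

`N : KNat V H R F k co`.

* `CA` : the action of `g ∈ H` on the components: a permutation `σ` and semilinear maps `β i`; `KNat.exists_ca`,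
  `KNat.exists_caR` (for `r ∈ R` the line `x 1 = 0` is invariant);
* `PP co j = [W_j^+, L_j]`; `pp_supp`, `KNat.pp_onto`, `KNat.pp_fix`, `KNat.le_pp`.
-/

set_option autoImplicit false
set_option linter.unusedSectionVars false

namespace Cfsg.Agent.Omega.NO1.TH.K

open Subgroup Cfsg.Agent.Omega.NO1.AB Cfsg.Agent.Lib.SL2Mat
open Cfsg.Agent.Omega.NatPair (ap)
open scoped Pointwise

universe u

variable {Y : Type u} [Group Y] {V : Type u} [AddCommGroup V] [DistribMulAction Y V] {H R : Subgroup Y}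
  {F : Type} [Field F] {k : ℕ} {co : V → Fin k → Fin 2 → F}

/-- the action of `g` on the components -/
structure CA (V : Type u) [AddCommGroup V] [DistribMulAction Y V] (H R : Subgroup Y) (co : V → Fin k → Fin 2 → F)
    (g : Y) (σ : Equiv.Perm (Fin k)) (β : Fin k → (Fin 2 → F) → Fin 2 → F) (s : Fin k → F ≃+* F) : Prop where
  act : ∀ v ∈ WW V H R, ∀ i, co (g • v) (σ i) = β i (co v i)
  add : ∀ i x y, β i (x + y) = β i x + β i y
  smul : ∀ i (c : F) x, β i (c • x) = s i c • β i x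
  inj : ∀ i x, β i x = 0 → x = 0

namespace KNat

variable (N : KNat V H R F k co)
include N

theorem exists_sgl [CharP F 2] (j : Fin k) (x : Fin 2 → F) : ∃ v ∈ WW V H R, co v = Pi.single j x := N.surj _

theorem sub_ad [CharP F 2] {v w : V} (hv : v ∈ WW V H R) (hw : w ∈ WW V H R) (i : Fin k) :
    co (v + w) i = 0 ↔ co v i = co w i := by
  rw [N.add v hv w hw, Pi.add_apply]
  constructor
  · intro h
    have h1 : co w i + co w i = 0 := by
      funext j; exact CharTwo.add_self_eq_zero _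
    exact add_right_cancel (h.trans h1.symm)
  · intro h
    rw [h]
    funext j; exact CharTwo.add_self_eq_zero _

theorem co_smul_zero {g : Y} (hg : g ∈ H) {v : V} (hv : v ∈ WW V H R) : co (g • v) = 0 ↔ co v = 0 := by
  obtain ⟨σ, hσ⟩ := N.perm g hg
  constructor
  · intro h
    funext i
    exact (hσ v hv i).1 (congrFun h _)
  · intro h
    funext i
    obtain ⟨j, rfl⟩ := σ.surjective i
    exact (hσ v hv j).2 (congrFun h j)

theorem co_eq [CharP F 2] {v w : V} (hv : v ∈ WW V H R) (hw : w ∈ WW V H R) : co (v + w) = 0 ↔ co v = co w := by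
  constructor
  · intro h
    funext i
    exact (N.sub_ad hv hw i).1 (congrFun h i)
  · intro h
    funext i
    exact (N.sub_ad hv hw i).2 (congrFun h i)

/-- two elements of `H` with the same action on `W / D₀` agree on `W` -/
theorem eqOn [CharP F 2] {g h : Y} (hg : g ∈ H) (hh : h ∈ H) (he : ∀ w ∈ WW V H R, co (g • w) = co (h • w)) {w : V}
    (hw : w ∈ WW V H R) : g • w = h • w := by
  have h1 := N.trivH (h⁻¹ * g) (H.mul_mem (H.inv_mem hh) hg) (by
    intro w hw
    have h2 : h⁻¹ * g ∈ H := H.mul_mem (H.inv_mem hh) hg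
    rw [← N.co_eq (smul_mem_WW h2 hw) hw, ← N.co_smul_zero hh (add_mem (smul_mem_WW h2 hw) hw), smul_add, ← mul_smul,
      mul_inv_cancel_left, N.co_eq (smul_mem_WW hg hw) (smul_mem_WW hh hw)]
    exact he w hw) w hw
  rw [mul_smul, inv_smul_eq_iff] at h1
  exact h1

theorem exists_ca [Finite F] [CharP F 2] {g : Y} (hg : g ∈ H) :
    ∃ σ β s, CA V H R co g σ β s := by
  obtain ⟨σ, hσ⟩ := N.perm g hg
  have hgm : ∀ {v : V}, v ∈ WW V H R → g • v ∈ WW V H R := fun hv => smul_mem_WW hg hv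
  have hgm' : ∀ {v : V}, v ∈ WW V H R → g⁻¹ • v ∈ WW V H R := fun hv => smul_mem_WW (H.inv_mem hg) hv
  choose u huW hu using fun (i : Fin k) (x : Fin 2 → F) => N.exists_sgl i x
  -- the component map
  let β : Fin k → (Fin 2 → F) → Fin 2 → F := fun i x => co (g • u i x) (σ i)
  have hact : ∀ v ∈ WW V H R, ∀ i, co (g • v) (σ i) = β i (co v i) := by
    intro v hv i
    rw [← N.sub_ad (hgm hv) (hgm (huW i _)), ← smul_add, hσ _ (add_mem hv (huW _ _)), N.sub_ad hv (huW _ _), hu,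
      Pi.single_eq_same]
  have hadd : ∀ i x y, β i (x + y) = β i x + β i y := by
    intro i x y
    have h1 := hact _ (add_mem (huW i x) (huW i y)) i
    rw [smul_add, N.add _ (hgm (huW _ _)) _ (hgm (huW _ _)), Pi.add_apply, N.add _ (huW _ _) _ (huW _ _),
      Pi.add_apply, hu, hu, Pi.single_eq_same, Pi.single_eq_same] at h1
    exact h1.symm
  have hinj : ∀ i x, β i x = 0 → x = 0 := by
    intro i x h
    have h1 := (hσ _ (huW i x) i).1 h
    rwa [hu, Pi.single_eq_same] at h1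
  -- the inverse
  let β' : Fin k → (Fin 2 → F) → Fin 2 → F := fun i x => co (g⁻¹ • u (σ i) x) i
  have hact' : ∀ v ∈ WW V H R, ∀ i, co (g⁻¹ • v) i = β' i (co v (σ i)) := by
    intro v hv i
    rw [← N.sub_ad (hgm' hv) (hgm' (huW (σ i) _)), ← smul_add,
      ← hσ _ (hgm' (add_mem hv (huW _ _))), smul_inv_smul, N.sub_ad hv (huW _ _), hu, Pi.single_eq_same]
  have hββ : ∀ i x, β' i (β i x) = x := by
    intro i x
    have h1 := hact' _ (hgm (huW i x)) i
    rw [inv_smul_smul, hu, Pi.single_eq_same] at h1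
    exact h1.symm
  have hββ' : ∀ i x, β i (β' i x) = x := by
    intro i x
    have h1 := hact _ (hgm' (huW (σ i) x)) i
    rw [smul_inv_smul, hu, Pi.single_eq_same] at h1
    exact h1.symm
  have hs : ∀ i, ∃ s : F ≃+* F, ∀ (c : F) x, β i (c • x) = s c • β i x := by
    intro i
    obtain ⟨τ, hτ⟩ := NatPair.exists_semi (β i) (β' i) (hadd i) (hββ i) (hββ' i) (by
      intro A
      obtain ⟨h, hh, hA⟩ := N.lift (Pi.mulSingle (σ i) A)
      obtain ⟨B, hB⟩ := N.norm g⁻¹ (H.inv_mem hg) h hh _ hA.1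
      refine ⟨B i, fun x => ?_⟩
      have h1 := hB _ (huW i x) i
      rw [inv_inv, mul_smul, mul_smul, hact' _ (smul_mem_WW hh (hgm (huW _ _))), hA.1 _ (hgm (huW _ _)),
        hact _ (huW _ _), hu, Pi.single_eq_same, Pi.mulSingle_eq_same] at h1
      exact h1)
    exact NatPair.exists_ringEquiv (β i) (β' i) (hadd i) (hββ i) τ hτ
  choose s hs using hs
  exact ⟨σ, β, s, hact, hadd, hs, hinj⟩

theorem exists_caR [Finite F] [CharP F 2] (hRH : R ≤ H) {r : Y} (hr : r ∈ R) :
    ∃ σ β s, CA V H R co r σ β s ∧ ∀ i x, β i x 1 = 0 ↔ x 1 = 0 := by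
  obtain ⟨σ, β, s, hc⟩ := N.exists_ca (hRH hr)
  obtain ⟨τ, hτ⟩ := N.line r hr
  refine ⟨σ, β, s, hc, fun i x => ?_⟩
  have hστ : τ i = σ i := by
    obtain ⟨v, hv, hvx⟩ := N.exists_sgl i (![0, 1] : Fin 2 → F)
    by_contra hne
    have h1 := (hτ v hv i).1 (by
      obtain ⟨j, hj⟩ := σ.surjective (τ i)
      have hij : j ≠ i := fun e => hne (by rw [← hj, e])
      rw [← hj, hc.act v hv j, hvx, Pi.single_eq_of_ne hij]
      have h2 : β j 0 = 0 := by
        have h3 := hc.add j 0 0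
        rw [add_zero] at h3
        exact left_eq_add.1 h3
      rw [h2]; rfl)
    rw [hvx, Pi.single_eq_same] at h1
    simp at h1
  obtain ⟨v, hv, hvx⟩ := N.exists_sgl i x
  have h1 := hτ v hv i
  rw [hστ, hc.act v hv i, hvx, Pi.single_eq_same] at h1
  exact h1

end KNat

/-! ### `PP j` -/

/-- `[W, L_j]` -/
def PP (V : Type u) [AddCommGroup V] [DistribMulAction Y V] (H R : Subgroup Y) (co : V → Fin k → Fin 2 → F)
    (j : Fin k) : AddSubgroup V :=
  AddSubgroup.closure {v | ∃ g ∈ H, ∃ A : Fin k → Matrix.SpecialLinearGroup (Fin 2) F, Acts V H R co g A ∧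
    (∀ i, i ≠ j → A i = 1) ∧ ∃ w ∈ WW V H R, v = g • w + w}

theorem PP_le_WW (j : Fin k) : PP V H R co j ≤ WW V H R := by
  refine (AddSubgroup.closure_le _).2 ?_
  rintro _ ⟨g, hg, A, -, -, w, hw, rfl⟩
  exact add_mem (smul_mem_WW hg hw) hw

namespace KNat

variable (N : KNat V H R F k co)
include N

theorem pp_supp [CharP F 2] {j : Fin k} {v : V} (hv : v ∈ PP V H R co j) {i : Fin k} (hij : i ≠ j) : co v i = 0 := by
  have key : v ∈ WW V H R ∧ co v i = 0 := by
    refine AddSubgroup.closure_induction ?_ ?_ ?_ ?_ hv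
    · rintro _ ⟨g, hg, A, hA, hAi, w, hw, rfl⟩
      refine ⟨add_mem (smul_mem_WW hg hw) hw, ?_⟩
      rw [N.sub_ad (smul_mem_WW hg hw) hw, hA.1 w hw, hAi i hij, NatPair.ap_one]
    · exact ⟨zero_mem _, by rw [N.zero]; rfl⟩
    · rintro a b - - ⟨ha, ha'⟩ ⟨hb, hb'⟩
      exact ⟨add_mem ha hb, by rw [N.add a ha b hb, Pi.add_apply, ha', hb', add_zero]⟩
    · rintro a - ⟨ha, ha'⟩
      refine ⟨neg_mem ha, ?_⟩
      have h1 := N.add a ha (-a) (neg_mem ha)
      rw [add_neg_cancel, N.zero] at h1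
      have h2 := congrFun h1 i
      rw [Pi.add_apply, ha', zero_add] at h2
      exact h2.symm
  exact key.2

end KNat

/-- a fixed point free element of `SL₂(F)` -/
def om [CharP F 2] : Matrix.SpecialLinearGroup (Fin 2) F := mk 0 1 1 1 (by
  have h : (1 : F) + 1 = 0 := CharTwo.add_self_eq_zero 1
  linear_combination (-1 : F) * h)

theorem exists_om [CharP F 2] (x : Fin 2 → F) : ∃ z : Fin 2 → F, ap om z + z = x := by
  refine ⟨![x 1, x 0 + x 1], ?_⟩
  have h2 : ∀ a : F, a + a = 0 := fun a => CharTwo.add_self_eq_zero a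
  apply NatPair.ext2
  · rw [Pi.add_apply, NatPair.ap_zero', om]
    simp only [mk_00, mk_01, Matrix.cons_val_zero, Matrix.cons_val_one, zero_mul, one_mul, zero_add]
    linear_combination h2 (x 1)
  · rw [Pi.add_apply, NatPair.ap_one', om]
    simp only [mk_10, mk_11, Matrix.cons_val_zero, Matrix.cons_val_one, one_mul]
    linear_combination h2 (x 0) + h2 (x 1)

theorem ap_zero (A : Matrix.SpecialLinearGroup (Fin 2) F) : ap A 0 = 0 := by
  apply NatPair.ext2
  · rw [NatPair.ap_zero']; simp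
  · rw [NatPair.ap_one']; simp

namespace KNat

variable (N : KNat V H R F k co)
include N

/-- `PP j` maps onto the component `j` -/
theorem pp_onto [CharP F 2] (j : Fin k) (x : Fin 2 → F) : ∃ v ∈ PP V H R co j, co v = Pi.single j x := by
  obtain ⟨z, hz⟩ := exists_om x
  obtain ⟨w, hw, hwz⟩ := N.surj (Pi.single j z)
  obtain ⟨g, hg, hA⟩ := N.lift (Pi.mulSingle j om)
  refine ⟨g • w + w, AddSubgroup.subset_closure ⟨g, hg, _, hA, fun i hi => Pi.mulSingle_eq_of_ne hi _, w, hw, rfl⟩, ?_⟩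
  rw [N.add _ (smul_mem_WW hg hw) w hw]
  funext i
  rw [Pi.add_apply, hA.1 w hw, hwz]
  by_cases hi : i = j
  · subst hi
    rw [Pi.mulSingle_eq_same, Pi.single_eq_same, Pi.single_eq_same, hz]
  · rw [Pi.mulSingle_eq_of_ne hi, Pi.single_eq_of_ne hi, Pi.single_eq_of_ne hi, NatPair.ap_one, add_zero]

/-- `L_j` centralises the vectors without `j`-component -/
theorem comm_triv [CharP F 2] (h2 : ∀ v : V, v + v = 0) {j : Fin k} {g : Y} (hg : g ∈ H)
    {A : Fin k → Matrix.SpecialLinearGroup (Fin 2) F} (hA : Acts V H R co g A) (hAi : ∀ i, i ≠ j → A i = 1) {x : V}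
    (hx : x ∈ WW V H R) (hxj : co x j = 0) : g • x = x := by
  classical
  choose z hz using fun i => exists_om (co x i)
  obtain ⟨y, hy, hyz⟩ := N.surj (Function.update z j 0)
  obtain ⟨t, ht, hB⟩ := N.lift (Function.update (fun _ => om) j 1)
  set B : Fin k → Matrix.SpecialLinearGroup (Fin 2) F := Function.update (fun _ => om) j 1 with hBdef
  -- `x = t y + y + d`
  have hty := smul_mem_WW ht hy
  have hd : co (x + (t • y + y)) = 0 := by
    funext i
    rw [Pi.zero_apply, N.sub_ad hx (add_mem hty hy), N.add _ hty _ hy, Pi.add_apply, hB.1 y hy, hyz]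
    by_cases hi : i = j
    · subst hi
      rw [Function.update_self, ap_zero, add_zero, hxj]
    · rw [Function.update_of_ne hi, hBdef, Function.update_of_ne hi, hz]
  have hdW : x + (t • y + y) ∈ WW V H R := add_mem hx (add_mem hty hy)
  -- `g y = y + d'`
  have hd' : co (g • y + y) = 0 := by
    funext i
    rw [Pi.zero_apply, N.sub_ad (smul_mem_WW hg hy) hy, hA.1 y hy]
    by_cases hi : i = j
    · subst hi
      rw [hyz, Function.update_self, ap_zero]
    · rw [hAi i hi, NatPair.ap_one]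
  have hd'W : g • y + y ∈ WW V H R := add_mem (smul_mem_WW hg hy) hy
  have hgy : g • y = y + (g • y + y) := by rw [add_comm, add_assoc, h2, add_zero]
  -- `g t y = t g y`
  have hgt : ∀ w ∈ WW V H R, g • t • w = t • g • w := by
    intro w hw
    rw [← mul_smul, ← mul_smul]
    refine N.eqOn (H.mul_mem hg ht) (H.mul_mem ht hg) ?_ hw
    intro w hw
    rw [mul_smul, mul_smul]
    funext i
    rw [hA.1 _ (smul_mem_WW ht hw), hB.1 w hw, hB.1 _ (smul_mem_WW hg hw), hA.1 w hw]
    by_cases hi : i = j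
    · subst hi
      rw [hBdef, Function.update_self, NatPair.ap_one, NatPair.ap_one]
    · rw [hAi i hi, NatPair.ap_one, NatPair.ap_one]
  have hx' : x = (x + (t • y + y)) + (t • y + y) := by rw [add_assoc, h2, add_zero]
  rw [hx', smul_add, hA.2 _ hdW hd, smul_add, hgt y hy]
  nth_rewrite 1 [hgy]
  rw [smul_add, hB.2 _ hd'W hd']
  have h5 : t • y + (g • y + y) + g • y = t • y + y + (g • y + g • y) := by abel
  rw [h5, h2, add_zero]

/-- an element of `H` which is trivial on the component `j` centralises `PP j` -/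
theorem pp_fix [CharP F 2] (h2 : ∀ v : V, v + v = 0) {j : Fin k} {b : Y} (hb : b ∈ H)
    (hbj : ∀ w ∈ WW V H R, co (b • w) j = co w j) {v : V} (hv : v ∈ PP V H R co j) : b • v = v := by
  refine AddSubgroup.closure_induction ?_ ?_ ?_ ?_ hv
  · rintro _ ⟨g, hg, A, hA, hAi, w, hw, rfl⟩
    -- `b g = g b` on `W`
    have hbg : ∀ w ∈ WW V H R, b • g • w = g • b • w := by
      intro w hw
      rw [← mul_smul, ← mul_smul]
      refine N.eqOn (H.mul_mem hb hg) (H.mul_mem hg hb) ?_ hw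
      intro w hw
      rw [mul_smul, mul_smul]
      obtain ⟨σ, hσ⟩ := N.perm b hb
      have hσj : σ j = j := by
        obtain ⟨v, hv, hvx⟩ := N.exists_sgl j (![1, 0] : Fin 2 → F)
        by_contra hne
        obtain ⟨i, hi⟩ := σ.surjective j
        have hij : i ≠ j := fun e => hne (by rw [e] at hi; exact hi)
        have h3 := (hσ v hv i).2 (by rw [hvx, Pi.single_eq_of_ne hij])
        rw [hi, hbj v hv, hvx, Pi.single_eq_same] at h3
        have h4 := congrFun h3 0
        simp at h4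
      have hgw := smul_mem_WW hg hw
      have hbw := smul_mem_WW hb hw
      funext i
      by_cases hi : i = j
      · subst hi
        rw [hbj _ hgw, hA.1 w hw, hA.1 _ hbw, hbj w hw]
      · rw [hA.1 _ hbw, hAi i hi, NatPair.ap_one, ← N.sub_ad (smul_mem_WW hb hgw) hbw, ← smul_add]
        obtain ⟨i', rfl⟩ := σ.surjective i
        have hi' : i' ≠ j := fun e => hi (by rw [e, hσj])
        rw [hσ _ (add_mem hgw hw), N.sub_ad hgw hw, hA.1 w hw, hAi i' hi', NatPair.ap_one]
    rw [smul_add, hbg w hw]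
    -- `b w = w + x`, `x` without `j`-component
    have hbw := smul_mem_WW hb hw
    have h3 := N.comm_triv h2 hg hA hAi (x := b • w + w) (add_mem hbw hw) ((N.sub_ad hbw hw j).2 (hbj w hw))
    rw [smul_add] at h3
    have h4 : g • b • w + b • w + (g • w + w) = (g • b • w + g • w) + (b • w + w) := by abel
    rw [h3, h2] at h4
    have h5 : g • b • w + b • w = g • b • w + b • w + ((g • w + w) + (g • w + w)) := by rw [h2, add_zero]
    rw [h5, ← add_assoc, h4, zero_add]
  · exact smul_zero b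
  · intro a c _ _ ha hc
    rw [smul_add, ha, hc]
  · intro a _ ha
    rw [smul_neg, ha]

end KNat

end Cfsg.Agent.Omega.NO1.TH.K

end

section


/-!
# N1-ONE, (B) of #19584, natural type (helper247 #20646): elementary abelian subgroups on one component

`SLin R co j a s` : `a` fixes the component `j` and is `s`-semilinear on it.

* `KNat.card_le` : an elementary abelian `A ≤ R` which fixes `j` and is faithful on the component `j` has `|A| ≤ |F|`;
* `KNat.card_le'` : the same without "fixes `j`", if `[W, A, S] = 0` for some `1 ≠ S ≤ A`;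
* `KNat.bound` : (z).
-/

set_option autoImplicit false
set_option linter.unusedSectionVars false

namespace Cfsg.Agent.Omega.NO1.TH.K

open Subgroup Cfsg.Agent.Omega.NO1.AB Cfsg.Agent.Lib.SL2Mat
open Cfsg.Agent.Omega.NatPair (ap)
open scoped Pointwise

universe u

variable {Y : Type u} [Group Y] {V : Type u} [AddCommGroup V] [DistribMulAction Y V] {H R : Subgroup Y}
  {F : Type} [Field F] {k : ℕ} {co : V → Fin k → Fin 2 → F}

/-- `a` is `s`-semilinear on the component `j` -/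
def SLin (V : Type u) [AddCommGroup V] [DistribMulAction Y V] (H R : Subgroup Y) (co : V → Fin k → Fin 2 → F)
    (j : Fin k) (a : Y) (s : F ≃+* F) : Prop :=
  ∀ w ∈ WW V H R, ∀ w' ∈ WW V H R, ∀ c : F, co w' j = c • co w j → co (a • w') j = s c • co (a • w) j

theorem fix_card [Finite F] (s : F ≃+* F) (hs : ∃ x, s x ≠ x) : 2 * Nat.card {x : F // s x = x} ≤ Nat.card F := by
  obtain ⟨z, hz⟩ := hs
  have h1 : Function.Injective (fun p : {x : F // s x = x} × {x : F // s x = x} => p.1.1 + p.2.1 * z) := by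
    rintro ⟨⟨a, ha⟩, ⟨b, hb⟩⟩ ⟨⟨a', ha'⟩, ⟨b', hb'⟩⟩ h
    change a + b * z = a' + b' * z at h
    by_cases hbb : b = b'
    · subst hbb
      have : a = a' := add_right_cancel h
      subst this
      rfl
    · exfalso
      apply hz
      have h3 : (b - b') * z = a' - a := by linear_combination h
      have h4 : b - b' ≠ 0 := sub_ne_zero.2 hbb
      have h5 : z = (a' - a) * (b - b')⁻¹ := by
        field_simp
        linear_combination h3
      rw [h5, map_mul, map_inv₀, map_sub, map_sub, ha, ha', hb, hb']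
  have h3 := Nat.card_le_card_of_injective _ h1
  rw [Nat.card_prod] at h3
  have h4 : 2 ≤ Nat.card {x : F // s x = x} := by
    have h5 : Function.Injective (fun b : Bool => (if b then ⟨1, map_one s⟩ else ⟨0, map_zero s⟩ : {x : F // s x = x})) := by
      intro b b' hb
      cases b <;> cases b' <;> simp at hb ⊢
    have h6 := Nat.card_le_card_of_injective _ h5
    rwa [Nat.card_eq_fintype_card (α := Bool), Fintype.card_bool] at h6
  exact (Nat.mul_le_mul_right _ h4).trans h3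

namespace KNat

variable (N : KNat V H R F k co)
include N

theorem exists_SLin [Finite F] [CharP F 2] (hRH : R ≤ H) {j : Fin k} {a : Y} (ha : a ∈ R)
    (hf : ∀ w ∈ WW V H R, co w j = 0 → co (a • w) j = 0) : ∃ s, SLin V H R co j a s := by
  obtain ⟨σ, β, s, hc⟩ := N.exists_ca (hRH ha)
  have hσ : σ j = j := by
    by_contra hne
    obtain ⟨i, hi⟩ := σ.surjective j
    have hij : i ≠ j := fun e => hne (by rw [e] at hi; exact hi)
    obtain ⟨v, hv, hvx⟩ := N.exists_sgl i (![1, 0] : Fin 2 → F)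
    have h1 := hf v hv (by rw [hvx, Pi.single_eq_of_ne hij.symm])
    rw [← hi, hc.act v hv, hvx, Pi.single_eq_same] at h1
    have h3 := congrFun (hc.inj i _ h1) 0
    simp at h3
  refine ⟨s j, fun w hw w' hw' c h => ?_⟩
  have h1 := hc.act w hw j
  have h3 := hc.act w' hw' j
  rw [hσ] at h1 h3
  rw [h1, h3, h, hc.smul]

omit N in
theorem SLin.mul {j : Fin k} {a b : Y} {s t : F ≃+* F} (hRH : R ≤ H) (hb' : b ∈ R) (ha : SLin V H R co j a s)
    (hb : SLin V H R co j b t) : SLin V H R co j (a * b) (t.trans s) := by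
  intro w hw w' hw' c h
  rw [mul_smul, mul_smul]
  exact ha _ (smul_mem_WW (hRH hb') hw) _ (smul_mem_WW (hRH hb') hw') _ (hb w hw w' hw' c h)

omit N in
theorem SLin.fix {j : Fin k} {a : Y} {s : F ≃+* F} (ha : SLin V H R co j a s) {w : V} (hw : w ∈ WW V H R)
    (h : co w j = 0) : co (a • w) j = 0 := by
  have h1 := ha w hw w hw 0 (by rw [h, smul_zero])
  rwa [map_zero, zero_smul] at h1

theorem exists_ne [CharP F 2] (hRH : R ≤ H) {j : Fin k} {a : Y} (ha : a ∈ R) : ∃ w ∈ WW V H R, co (a • w) j ≠ 0 := by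
  obtain ⟨v, hv, hvx⟩ := N.exists_sgl j (![1, 0] : Fin 2 → F)
  refine ⟨a⁻¹ • v, smul_mem_WW (H.inv_mem (hRH ha)) hv, fun h => ?_⟩
  rw [smul_inv_smul, hvx, Pi.single_eq_same] at h
  have h4 := congrFun h 0
  simp at h4

theorem SLin_uniq [CharP F 2] (hRH : R ≤ H) {j : Fin k} {a : Y} (ha' : a ∈ R) {s t : F ≃+* F}
    (ha : SLin V H R co j a s) (hb : SLin V H R co j a t) : s = t := by
  obtain ⟨w, hw, hne⟩ := N.exists_ne hRH (j := j) ha'
  ext c
  obtain ⟨w', hw', hww⟩ := N.exists_sgl j (c • co w j)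
  have e : co w' j = c • co w j := by rw [hww, Pi.single_eq_same]
  have h1 := ha w hw w' hw' c e
  rw [hb w hw w' hw' c e] at h1
  exact (smul_left_injective F hne h1).symm

omit N in
theorem SLin_one {j : Fin k} : SLin V H R co j (1 : Y) (RingEquiv.refl F) := by
  intro w hw w' hw' c h
  rw [one_smul, one_smul, h]
  rfl

theorem SLin_sq [CharP F 2] (hRH : R ≤ H) {j : Fin k} {a : Y} (ha' : a ∈ R) (haa : a * a = 1) {s : F ≃+* F}
    (ha : SLin V H R co j a s) (x : F) : s (s x) = x := by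
  have h1 := SLin.mul hRH ha' ha ha
  rw [haa] at h1
  have h3 := N.SLin_uniq hRH R.one_mem h1 SLin_one
  exact RingEquiv.congr_fun h3 x

/-- linear involutions -/
theorem lin_of [Finite F] [CharP F 2] (hRH : R ≤ H) {j : Fin k} {a : Y} (ha' : a ∈ R) (haa : a * a = 1)
    (ha : SLin V H R co j a (RingEquiv.refl F)) :
    ∃ γ : F, ∀ w ∈ WW V H R, co (a • w) j = ![co w j 0 + γ * co w j 1, co w j 1] := by
  obtain ⟨σ, β, s, hc, hl⟩ := N.exists_caR hRH ha'
  have hσ : σ j = j := by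
    by_contra hne
    obtain ⟨i, hi⟩ := σ.surjective j
    have hij : i ≠ j := fun e => hne (by rw [e] at hi; exact hi)
    obtain ⟨v, hv, hvx⟩ := N.exists_sgl i (![1, 0] : Fin 2 → F)
    have h1 := SLin.fix ha hv (by rw [hvx, Pi.single_eq_of_ne hij.symm])
    rw [← hi, hc.act v hv, hvx, Pi.single_eq_same] at h1
    have h3 := congrFun (hc.inj i _ h1) 0
    simp at h3
  have hact : ∀ w ∈ WW V H R, co (a • w) j = β j (co w j) := by
    intro w hw
    have h1 := hc.act w hw j
    rwa [hσ] at h1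
  have hsm : ∀ (c : F) x, β j (c • x) = c • β j x := by
    intro c x
    obtain ⟨w, hw, hwx⟩ := N.exists_sgl j x
    obtain ⟨w', hw', hwx'⟩ := N.exists_sgl j (c • x)
    have h1 := ha w hw w' hw' c (by rw [hwx, hwx', Pi.single_eq_same, Pi.single_eq_same])
    rw [hact w hw, hact w' hw', hwx, hwx', Pi.single_eq_same, Pi.single_eq_same] at h1
    exact h1
  have hbb : ∀ x, β j (β j x) = x := by
    intro x
    obtain ⟨w, hw, hwx⟩ := N.exists_sgl j x
    have h1 := hact _ (smul_mem_WW (hRH ha') hw)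
    rw [← mul_smul, haa, one_smul, hact w hw, hwx, Pi.single_eq_same] at h1
    exact h1.symm
  have h10 : β j ![1, 0] 1 = 0 := (hl j _).2 (by simp)
  set α := β j ![1, 0] 0 with hα
  have e1 : β j ![1, 0] = α • ![1, 0] := by
    apply NatPair.ext2
    · simp [hα]
    · rw [h10]; simp
  have h1 := hbb ![1, 0]
  rw [e1, hsm, e1, smul_smul] at h1
  have h3 : α * α = 1 := by
    have := congrFun h1 0
    simpa using this
  have sq1 : ∀ x : F, x * x = 1 → x = 1 := by
    intro x hx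
    have h5 : (x + 1) * (x + 1) = 0 := by
      have h6 : (1 : F) + 1 = 0 := CharTwo.add_self_eq_zero 1
      linear_combination hx + (1 + x) * h6
    have h7 : x + 1 = 0 := by simpa using h5
    have h8 : (1 : F) + 1 = 0 := CharTwo.add_self_eq_zero 1
    exact add_right_cancel (h7.trans h8.symm)
  have hα1 := sq1 α h3
  rw [hα1, one_smul] at e1
  have e2 : β j ![0, 1] = (β j ![0, 1] 0) • ![1, 0] + (β j ![0, 1] 1) • ![0, 1] := by
    apply NatPair.ext2
    · simp
    · simp
  have h4 := hbb ![0, 1]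
  rw [e2, hc.add, hsm, hsm, e1] at h4
  have h5 : β j ![0, 1] 1 * β j ![0, 1] 1 = 1 := by
    have := congrFun h4 1
    simpa using this
  have hδ := sq1 _ h5
  refine ⟨β j ![0, 1] 0, fun w hw => ?_⟩
  rw [hact w hw]
  have e3 : co w j = (co w j 0) • ![1, 0] + (co w j 1) • ![0, 1] := by
    apply NatPair.ext2
    · simp
    · simp
  rw [e3, hc.add, hsm, hsm, e1]
  apply NatPair.ext2
  · simp only [Pi.add_apply, Pi.smul_apply, smul_eq_mul, Matrix.cons_val_zero, Matrix.cons_val_one, mul_one, mul_zero,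
      add_zero, zero_add]
    ring
  · simp only [Pi.add_apply, Pi.smul_apply, smul_eq_mul, Matrix.cons_val_zero, Matrix.cons_val_one, mul_one, mul_zero,
      add_zero, zero_add]
    rw [hδ, mul_one]

end KNat

end Cfsg.Agent.Omega.NO1.TH.K

end

section


/-!
# N1-ONE, (B) of #19584, natural type (helper247 #20646): `|A| ≤ |F|`

* `KNat.card_le` : an elementary abelian `A ≤ R` which fixes `j` and is faithful on the component `j` has `|A| ≤ |F|`;
* `KNat.card_le'` : the same without "fixes `j`", if `[v₀, A, S] = 0` for some `S ⊆ A`, `|F| ≤ |S|`, and some `v₀`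
  supported on `j`, not in the line.
-/

set_option autoImplicit false
set_option linter.unusedSectionVars false

namespace Cfsg.Agent.Omega.NO1.TH.K

open Subgroup Cfsg.Agent.Omega.NO1.AB Cfsg.Agent.Lib.SL2Mat
open Cfsg.Agent.Omega.NatPair (ap)
open scoped Pointwise

universe u

variable {Y : Type u} [Group Y] {V : Type u} [AddCommGroup V] [DistribMulAction Y V] {H R : Subgroup Y}
  {F : Type} [Field F] {k : ℕ} {co : V → Fin k → Fin 2 → F}

theorem CA.zero {g : Y} {σ : Equiv.Perm (Fin k)} {β : Fin k → (Fin 2 → F) → Fin 2 → F} {s : Fin k → F ≃+* F}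
    (hc : CA V H R co g σ β s) (i : Fin k) : β i 0 = 0 := by
  have h3 := hc.add i 0 0
  rw [add_zero] at h3
  exact left_eq_add.1 h3

namespace KNat

variable (N : KNat V H R F k co)
include N

/-- the matrix of a semilinear element -/
theorem semi_form [Finite F] [CharP F 2] (hRH : R ≤ H) {j : Fin k} {a : Y} (ha' : a ∈ R) {s : F ≃+* F}
    (ha : SLin V H R co j a s) : ∃ α κ δ : F, α ≠ 0 ∧ δ ≠ 0 ∧ ∀ w ∈ WW V H R,
      co (a • w) j = ![α * s (co w j 0) + κ * s (co w j 1), δ * s (co w j 1)] := by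
  obtain ⟨σ, β, s', hc, hl⟩ := N.exists_caR hRH ha'
  have hσ : σ j = j := by
    by_contra hne
    obtain ⟨i, hi⟩ := σ.surjective j
    have hij : i ≠ j := fun e => hne (by rw [e] at hi; exact hi)
    obtain ⟨v, hv, hvx⟩ := N.exists_sgl i (![1, 0] : Fin 2 → F)
    have h1 := SLin.fix ha hv (by rw [hvx, Pi.single_eq_of_ne hij.symm])
    rw [← hi, hc.act v hv, hvx, Pi.single_eq_same] at h1
    have h3 := congrFun (hc.inj i _ h1) 0
    simp at h3
  have hact : ∀ w ∈ WW V H R, co (a • w) j = β j (co w j) := by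
    intro w hw
    have h1 := hc.act w hw j
    rwa [hσ] at h1
  have hsm : ∀ (c : F) x, β j (c • x) = s c • β j x := by
    intro c x
    obtain ⟨w, hw, hwx⟩ := N.exists_sgl j x
    obtain ⟨w', hw', hwx'⟩ := N.exists_sgl j (c • x)
    have h1 := ha w hw w' hw' c (by rw [hwx, hwx', Pi.single_eq_same, Pi.single_eq_same])
    rw [hact w hw, hact w' hw', hwx, hwx', Pi.single_eq_same, Pi.single_eq_same] at h1
    exact h1
  have h10 : β j ![1, 0] 1 = 0 := (hl j _).2 (by simp)
  have e1 : β j ![1, 0] = (β j ![1, 0] 0) • ![1, 0] := by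
    apply NatPair.ext2
    · simp
    · rw [h10]; simp
  have hα : β j ![1, 0] 0 ≠ 0 := by
    intro h
    rw [h, zero_smul] at e1
    have h3 := congrFun (hc.inj j _ e1) 0
    simp at h3
  have hδ : β j ![0, 1] 1 ≠ 0 := by
    intro h
    have h1 := (hl j ![0, 1]).1 h
    simp at h1
  refine ⟨β j ![1, 0] 0, β j ![0, 1] 0, β j ![0, 1] 1, hα, hδ, fun w hw => ?_⟩
  rw [hact w hw]
  have e3 : co w j = (co w j 0) • ![1, 0] + (co w j 1) • ![0, 1] := by
    apply NatPair.ext2
    · simp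
    · simp
  conv_lhs => rw [e3, hc.add, hsm, hsm]
  apply NatPair.ext2
  · simp only [Pi.add_apply, Pi.smul_apply, smul_eq_mul, Matrix.cons_val_zero]
    ring
  · simp only [Pi.add_apply, Pi.smul_apply, smul_eq_mul, Matrix.cons_val_one, Matrix.cons_val_zero, h10, mul_zero,
      zero_add]
    ring

theorem exists_vec [CharP F 2] (j : Fin k) (x y : F) : ∃ w ∈ WW V H R, co w j 0 = x ∧ co w j 1 = y := by
  obtain ⟨v, hv, hvx⟩ := N.exists_sgl j (![x, y] : Fin 2 → F)
  exact ⟨v, hv, by rw [hvx, Pi.single_eq_same]; simp, by rw [hvx, Pi.single_eq_same]; simp⟩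

omit N in
/-- products of two non-linear involutions are linear -/
theorem lin_mul [Finite F] [CharP F 2] (N : KNat V H R F k co) (hRH : R ≤ H) {j : Fin k} {a b : Y} (ha' : a ∈ R)
    (hb' : b ∈ R) (haa : a * a = 1) (hbb : b * b = 1) {s t : F ≃+* F} (ha : SLin V H R co j a s)
    (hb : SLin V H R co j b t) (hs : s ≠ RingEquiv.refl F) (ht : t ≠ RingEquiv.refl F) :
    SLin V H R co j (a * b) (RingEquiv.refl F) := by
  have h1 := SLin.mul hRH hb' ha hb
  have h3 : (s : F →+* F) = (t : F →+* F) := by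
    refine CloseA.invol_unique (fun x => N.SLin_sq hRH ha' haa ha x) (fun x => N.SLin_sq hRH hb' hbb hb x) ?_ ?_
    · by_contra hc
      push Not at hc
      exact hs (RingEquiv.ext fun x => hc x)
    · by_contra hc
      push Not at hc
      exact ht (RingEquiv.ext fun x => hc x)
  have h4 : t.trans s = RingEquiv.refl F := by
    ext x
    have h5 : s (t x) = t (t x) := RingHom.congr_fun h3 (t x)
    change s (t x) = x
    rw [h5]
    exact N.SLin_sq hRH hb' hbb hb x
  rwa [h4] at h1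

theorem card_le [Finite Y] [Finite F] [CharP F 2] (hRH : R ≤ H) {A : Subgroup Y} (hA : A ≤ R) (hel : ElAb A)
    {j : Fin k} (hfix : ∀ a ∈ A, ∀ w ∈ WW V H R, co w j = 0 → co (a • w) j = 0)
    (hfaith : ∀ a ∈ A, (∀ w ∈ WW V H R, co (a • w) j = co w j) → a = 1) : Nat.card A ≤ Nat.card F := by
  classical
  have hSL : ∀ a ∈ A, ∃ s, SLin V H R co j a s := fun a ha => N.exists_SLin hRH (hA ha) (hfix a ha)
  set S0 : Set Y := {a | a ∈ A ∧ SLin V H R co j a (RingEquiv.refl F)} with hS0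
  have hγ : ∀ a : S0, ∃ γ : F, ∀ w ∈ WW V H R, co ((a : Y) • w) j = ![co w j 0 + γ * co w j 1, co w j 1] :=
    fun a => N.lin_of hRH (hA a.2.1) (hel.2 _ a.2.1) a.2.2
  choose γ hγ using hγ
  have hinj : Function.Injective γ := by
    intro a b hab
    have h1 : (b : Y)⁻¹ * a = 1 := by
      have h3 : (b : Y)⁻¹ = b := inv_eq_of_mul_eq_one_left (hel.2 _ b.2.1)
      rw [h3]
      refine hfaith _ (A.mul_mem b.2.1 a.2.1) fun w hw => ?_
      have h2 : ∀ x : F, x + x = 0 := fun x => CharTwo.add_self_eq_zero x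
      have haw := smul_mem_WW (hRH (hA a.2.1)) hw
      rw [mul_smul, hγ b _ haw, hγ a _ hw, hab]
      apply NatPair.ext2
      · simp only [Matrix.cons_val_zero, Matrix.cons_val_one]
        linear_combination h2 (γ b * co w j 1)
      · simp
    exact Subtype.ext (inv_mul_eq_one.1 h1).symm
  by_cases hall : ∀ a ∈ A, a ∈ S0
  · have h1 : Function.Injective (fun a : A => γ ⟨a, hall a a.2⟩) := by
      intro a b hab
      have h1 := hinj hab
      simp only [Subtype.mk.injEq] at h1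
      exact Subtype.ext h1
    exact Nat.card_le_card_of_injective _ h1
  push Not at hall
  obtain ⟨f, hf, hfn⟩ := hall
  obtain ⟨s, hs⟩ := hSL f hf
  have hsn : s ≠ RingEquiv.refl F := by
    rintro rfl
    exact hfn ⟨hf, hs⟩
  have hff := hel.2 f hf
  have hmul : ∀ a ∈ A, a ∉ S0 → f * a ∈ S0 := by
    intro a ha han
    obtain ⟨t, ht⟩ := hSL a ha
    refine ⟨A.mul_mem hf ha, lin_mul N hRH (hA hf) (hA ha) hff (hel.2 a ha) hs ht hsn ?_⟩
    rintro rfl
    exact han ⟨ha, ht⟩
  have c1 : Nat.card A ≤ 2 * Nat.card S0 := by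
    have h1 : Function.Injective (fun a : A => if h : (a : Y) ∈ S0 then ((false, ⟨a, h⟩) : Bool × S0)
        else (true, ⟨f * a, hmul a a.2 h⟩)) := by
      intro a b hab
      by_cases ha : (a : Y) ∈ S0 <;> by_cases hb : (b : Y) ∈ S0
      · simp only [ha, hb, dif_pos, Prod.mk.injEq, Subtype.mk.injEq, true_and] at hab
        exact Subtype.ext hab
      · simp [ha, hb] at hab
      · simp [ha, hb] at hab
      · simp only [ha, hb, dif_neg, not_false_eq_true, Prod.mk.injEq, Subtype.mk.injEq, true_and,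
          mul_right_inj] at hab
        exact Subtype.ext hab
    have h3 := Nat.card_le_card_of_injective _ h1
    rw [Nat.card_prod, Nat.card_eq_fintype_card (α := Bool), Fintype.card_bool] at h3
    exact h3
  have c2 : Nat.card S0 ≤ Nat.card {x : F // s x = x} := by
    by_cases h1 : ∀ a ∈ S0, a = 1
    · have h3 : Subsingleton S0 := ⟨fun a b => Subtype.ext ((h1 a a.2).trans (h1 b b.2).symm)⟩
      have h4 : Nonempty {x : F // s x = x} := ⟨⟨0, map_zero s⟩⟩
      have h5 := (Finite.card_le_one_iff_subsingleton (α := S0)).2 h3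
      have h6 : 0 < Nat.card {x : F // s x = x} := Nat.card_pos
      omega
    · push Not at h1
      obtain ⟨a0, ha0, hne⟩ := h1
      obtain ⟨α, κ, δ, hα, hδ, hform⟩ := N.semi_form hRH (hA hf) hs
      -- `γ_a δ = α s(γ_a)`
      have hrel : ∀ a : S0, γ a * δ = α * s (γ a) := by
        intro a
        obtain ⟨w, hw, hw0, hw1⟩ := N.exists_vec j 0 1
        have h3 := hγ a _ (smul_mem_WW (hRH (hA hf)) hw)
        have h4 := hform _ (smul_mem_WW (hRH (hA a.2.1)) hw)
        rw [← mul_smul, hel.1 _ a.2.1 _ hf, mul_smul, h4, hγ a w hw, hform w hw, hw0, hw1] at h3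
        have h5 := congrFun h3 0
        simp only [Matrix.cons_val_zero, Matrix.cons_val_one, map_one, mul_one, map_zero, mul_zero, zero_add] at h5
        linear_combination -h5
      have hγ0 : γ ⟨a0, ha0⟩ ≠ 0 := by
        intro h
        apply hne
        refine hfaith a0 ha0.1 fun w hw => ?_
        rw [hγ ⟨a0, ha0⟩ w hw, h]
        apply NatPair.ext2 <;> simp
      set g0 := γ ⟨a0, ha0⟩ with hg0
      have hsg0 : s g0 ≠ 0 := fun h => hγ0 ((map_eq_zero s).1 h)
      have hfx : ∀ a : S0, s (γ a * g0⁻¹) = γ a * g0⁻¹ := by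
        intro a
        rw [map_mul, map_inv₀]
        have h3 := hrel a
        have h4 := hrel ⟨a0, ha0⟩
        rw [← hg0] at h4
        rw [← div_eq_mul_inv, ← div_eq_mul_inv, div_eq_div_iff hsg0 hγ0]
        have h5 : α * (s (γ a) * g0) = α * (γ a * s g0) := by linear_combination -(g0 * h3) + γ a * h4
        exact mul_left_cancel₀ hα h5
      have h3 : Function.Injective (fun a : S0 => (⟨γ a * g0⁻¹, hfx a⟩ : {x : F // s x = x})) := by
        intro a b hab
        have h4 : γ a * g0⁻¹ = γ b * g0⁻¹ := congrArg Subtype.val hab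
        exact hinj (mul_right_cancel₀ (inv_ne_zero hγ0) h4)
      exact Nat.card_le_card_of_injective _ h3
  have c3 := fix_card s (by
    by_contra hc
    push Not at hc
    exact hsn (RingEquiv.ext fun x => hc x))
  omega

/-- (d), (z) : `|A| ≤ |F|` -/
theorem card_le' [Finite Y] [Finite F] [CharP F 2] (hRH : R ≤ H) {A : Subgroup Y} (hA : A ≤ R) (hel : ElAb A)
    {S : Set Y} (hSA : S ⊆ A) (hS : Nat.card F ≤ Nat.card S) {j : Fin k} {v₀ : V} (hv₀ : v₀ ∈ WW V H R)
    (hsupp : ∀ i, i ≠ j → co v₀ i = 0) (hline : co v₀ j 1 ≠ 0)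
    (hfaith : ∀ a ∈ A, (∀ w ∈ WW V H R, co (a • w) j = co w j) → a = 1)
    (hq : ∀ b ∈ A, ∀ s ∈ S, s • (b • v₀ + v₀) = b • v₀ + v₀) : Nat.card A ≤ Nat.card F := by
  classical
  by_cases hmv : ∀ a ∈ A, co (a • v₀) j ≠ 0
  · refine N.card_le hRH hA hel (j := j) ?_ hfaith
    intro a ha w hw hwj
    obtain ⟨σ, β, s, hc⟩ := N.exists_ca (hRH (hA ha))
    have hσ : σ j = j := by
      by_contra hne
      obtain ⟨i, hi⟩ := σ.surjective j
      have hij : i ≠ j := fun e => hne (by rw [e] at hi; exact hi)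
      apply hmv a ha
      rw [← hi, hc.act v₀ hv₀, hsupp i hij, hc.zero]
    have h1 := hc.act w hw j
    rw [hσ, hwj] at h1
    rw [h1, hc.zero]
  push Not at hmv
  obtain ⟨b, hb, hbj⟩ := hmv
  have hne : co v₀ j ≠ 0 := fun h => hline (by rw [h]; rfl)
  -- supports
  have hsup : ∀ a ∈ A, ∀ i, co (a • v₀) i ≠ 0 → ∀ i', i' ≠ i → co (a • v₀) i' = 0 := by
    intro a ha i hi i' hi'
    obtain ⟨σ, β, s, hc⟩ := N.exists_ca (hRH (hA ha))
    have hz : ∀ i, β i 0 = 0 := hc.zero
    obtain ⟨l, rfl⟩ := σ.surjective i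
    obtain ⟨l', rfl⟩ := σ.surjective i'
    have hlj : l = j := by
      by_contra h
      apply hi
      rw [hc.act v₀ hv₀, hsupp l h, hz]
    subst hlj
    have hl' : l' ≠ l := fun e => hi' (by rw [e])
    rw [hc.act v₀ hv₀, hsupp l' hl', hz]
  have hmemW : ∀ a ∈ A, ∀ w ∈ WW V H R, a • w ∈ WW V H R := fun a ha w hw => smul_mem_WW (hRH (hA ha)) hw
  set E0 : Set Y := {n | n ∈ A ∧ co (n • v₀) j = co v₀ j} with hE0
  -- the key relation
  have hkey : ∀ b ∈ A, co (b • v₀) j = 0 → ∀ s ∈ S, (s ∈ E0 ∨ (co (s • v₀) j = 0 ∧ s * b ∈ E0)) := by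
    intro b hb hbj s hs
    have hsA := hSA hs
    have h1 := hq b hb s hs
    have h3 : co (s • b • v₀ + s • v₀) j = co v₀ j := by
      rw [← smul_add, h1, N.add _ (hmemW b hb _ hv₀) _ hv₀, Pi.add_apply, hbj, zero_add]
    rw [N.add _ (hmemW s hsA _ (hmemW b hb _ hv₀)) _ (hmemW s hsA _ hv₀), Pi.add_apply] at h3
    by_cases hsj : co (s • v₀) j = 0
    · right
      refine ⟨hsj, A.mul_mem hsA hb, ?_⟩
      rw [hsj, add_zero] at h3
      rw [mul_smul]
      exact h3
    · left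
      refine ⟨hsA, ?_⟩
      -- `s` fixes `j`, `b` moves `j`
      have h4 : co (s • b • v₀) j = 0 := by
        obtain ⟨σ, β, t, hc⟩ := N.exists_ca (hRH (hA hsA))
        have hz : ∀ i, β i 0 = 0 := hc.zero
        have hσ : σ j = j := by
          by_contra hne
          obtain ⟨i, hi⟩ := σ.surjective j
          have hij : i ≠ j := fun e => hne (by rw [e] at hi; exact hi)
          apply hsj
          rw [← hi, hc.act v₀ hv₀, hsupp i hij, hz]
        have h5 := hc.act _ (hmemW b hb _ hv₀) j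
        rw [hσ, hbj, hz] at h5
        exact h5
      rw [h4, zero_add] at h3
      exact h3
  -- elements of `E0` fix `j`
  have hEfix : ∀ n ∈ E0, ∀ w ∈ WW V H R, co w j = 0 → co (n • w) j = 0 := by
    intro n hn w hw hwj
    obtain ⟨σ, β, t, hc⟩ := N.exists_ca (hRH (hA hn.1))
    have hz : ∀ i, β i 0 = 0 := hc.zero
    have hσ : σ j = j := by
      by_contra hne'
      obtain ⟨i, hi⟩ := σ.surjective j
      have hij : i ≠ j := fun e => hne' (by rw [e] at hi; exact hi)
      apply hne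
      rw [← hn.2, ← hi, hc.act v₀ hv₀, hsupp i hij, hz]
    have h1 := hc.act w hw j
    rw [hσ, hwj, hz] at h1
    exact h1
  -- linear elements of `E0` are trivial
  have hElin : ∀ n ∈ E0, SLin V H R co j n (RingEquiv.refl F) → n = 1 := by
    intro n hn hl
    obtain ⟨γ, hγ⟩ := N.lin_of hRH (hA hn.1) (hel.2 n hn.1) hl
    have h1 := hγ v₀ hv₀
    rw [hn.2] at h1
    have h3 := congrFun h1 0
    simp only [Matrix.cons_val_zero] at h3
    have h4 : γ = 0 := by
      rcases mul_eq_zero.1 (left_eq_add.1 h3) with h | h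
      · exact h
      · exact absurd h hline
    refine hfaith n hn.1 fun w hw => ?_
    rw [hγ w hw, h4]
    apply NatPair.ext2 <;> simp
  have c1 : 2 * Nat.card E0 ≤ Nat.card F := by
    have hF2 : 2 ≤ Nat.card F := Finite.one_lt_card
    by_cases h1 : ∀ n ∈ E0, n = 1
    · have h3 : Subsingleton E0 := ⟨fun a b => Subtype.ext ((h1 a a.2).trans (h1 b b.2).symm)⟩
      have h5 := (Finite.card_le_one_iff_subsingleton (α := E0)).2 h3
      omega
    · push Not at h1
      obtain ⟨f, hf, hf1⟩ := h1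
      obtain ⟨s, hs⟩ := N.exists_SLin hRH (hA hf.1) (hEfix f hf)
      have hsn : s ≠ RingEquiv.refl F := by
        rintro rfl
        exact hf1 (hElin f hf hs)
      have h3 : ∀ n : E0, n = ⟨f, hf⟩ ∨ (n : Y) = 1 := by
        rintro ⟨n, hn⟩
        by_cases hn1 : n = 1
        · exact Or.inr hn1
        left
        obtain ⟨t, ht⟩ := N.exists_SLin hRH (hA hn.1) (hEfix n hn)
        have htn : t ≠ RingEquiv.refl F := by
          rintro rfl
          exact hn1 (hElin n hn ht)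
        have h4 := lin_mul N hRH (hA hf.1) (hA hn.1) (hel.2 f hf.1) (hel.2 n hn.1) hs ht hsn htn
        have h5 : f * n ∈ E0 := by
          refine ⟨A.mul_mem hf.1 hn.1, ?_⟩
          -- `n v₀ = v₀` mod other stuff
          have h6 : co (n • v₀) = co v₀ := by
            funext i
            by_cases hi : i = j
            · subst hi; exact hn.2
            · rw [hsupp i hi]
              exact hsup n hn.1 j (by rw [hn.2]; exact hne) i hi
          have h7 : co (f • n • v₀) = co (f • v₀) := by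
            rw [← N.co_eq (hmemW f hf.1 _ (hmemW n hn.1 _ hv₀)) (hmemW f hf.1 _ hv₀), ← smul_add,
              N.co_smul_zero (hRH (hA hf.1)) (add_mem (hmemW n hn.1 _ hv₀) hv₀),
              N.co_eq (hmemW n hn.1 _ hv₀) hv₀]
            exact h6
          rw [mul_smul, h7, hf.2]
        have h8 := hElin _ h5 h4
        apply Subtype.ext
        have h9 : f⁻¹ = f := inv_eq_of_mul_eq_one_left (hel.2 f hf.1)
        have h10 := eq_inv_of_mul_eq_one_right h8
        rw [h9] at h10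
        exact h10
      have h4 : Nat.card E0 ≤ 2 := by
        have h5 : Function.Injective (fun n : E0 => decide ((n : Y) = 1)) := by
          intro a b hab
          have hab' : ((a : Y) = 1) ↔ ((b : Y) = 1) := by simpa using hab
          rcases h3 a with ha | ha
          · rcases h3 b with hb | hb
            · rw [ha, hb]
            · exact Subtype.ext ((hab'.2 hb).trans hb.symm)
          · exact Subtype.ext (ha.trans (hab'.1 ha).symm)
        have h6 := Nat.card_le_card_of_injective _ h5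
        rwa [Nat.card_eq_fintype_card (α := Bool), Fintype.card_bool] at h6
      have h5 := fix_card s (by
        by_contra hc
        push Not at hc
        exact hsn (RingEquiv.ext fun x => hc x))
      have h6 : 2 ≤ Nat.card {x : F // s x = x} := by
        have h7 : Function.Injective (fun b : Bool =>
            (if b then ⟨1, map_one s⟩ else ⟨0, map_zero s⟩ : {x : F // s x = x})) := by
          intro b b' hb
          cases b <;> cases b' <;> simp at hb ⊢
        have h8 := Nat.card_le_card_of_injective _ h7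
        rwa [Nat.card_eq_fintype_card (α := Bool), Fintype.card_bool] at h8
      omega
  -- some `s ∈ S` moves `j`
  have hex : ∃ s ∈ S, co (s • v₀) j = 0 := by
    by_contra hc
    push Not at hc
    have h1 : S ⊆ E0 := by
      intro s hs
      rcases hkey b hb hbj s hs with h | ⟨h, -⟩
      · exact h
      · exact absurd h (hc s hs)
    have h3 : Nat.card S ≤ Nat.card E0 := Nat.card_mono (Set.toFinite _) h1
    have h4 : 0 < Nat.card F := Nat.card_pos
    omega
  obtain ⟨s, hs, hsj⟩ := hex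
  have hsA := hSA hs
  have hsE : s ∉ E0 := fun h => hne (by rw [← h.2, hsj])
  have hm : ∀ a ∈ A, co (a • v₀) j = 0 → s * a ∈ E0 := by
    intro a ha haj
    rcases hkey a ha haj s hs with h | ⟨-, h⟩
    · exact absurd h hsE
    · exact h
  have hfx : ∀ a ∈ A, co (a • v₀) j ≠ 0 → a ∈ E0 := by
    intro a ha haj
    have h1 := hm (s * a) (A.mul_mem hsA ha) (by
      rw [hel.1 s hsA a ha, mul_smul]
      obtain ⟨σ, β, t, hc⟩ := N.exists_ca (hRH (hA ha))
      have hz : ∀ i, β i 0 = 0 := hc.zero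
      have hσ : σ j = j := by
        by_contra hne'
        obtain ⟨i, hi⟩ := σ.surjective j
        have hij : i ≠ j := fun e => hne' (by rw [e] at hi; exact hi)
        apply haj
        rw [← hi, hc.act v₀ hv₀, hsupp i hij, hz]
      have h5 := hc.act _ (hmemW s hsA _ hv₀) j
      rw [hσ, hsj, hz] at h5
      exact h5)
    rwa [← mul_assoc, hel.2 s hsA, one_mul] at h1
  have h1 : Function.Injective (fun a : A => if h : co ((a : Y) • v₀) j = 0 then
      ((true, ⟨s * a, hm a a.2 h⟩) : Bool × E0) else (false, ⟨a, hfx a a.2 h⟩)) := by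
    intro a b hab
    by_cases ha : co ((a : Y) • v₀) j = 0 <;> by_cases hb : co ((b : Y) • v₀) j = 0
    · simp only [ha, hb, dif_pos, Prod.mk.injEq, Subtype.mk.injEq, true_and, mul_right_inj] at hab
      exact Subtype.ext hab
    · simp [ha, hb] at hab
    · simp [ha, hb] at hab
    · simp only [ha, hb, dif_neg, not_false_eq_true, Prod.mk.injEq, Subtype.mk.injEq, true_and] at hab
      exact Subtype.ext hab
  have h3 := Nat.card_le_card_of_injective _ h1
  rw [Nat.card_prod, Nat.card_eq_fintype_card (α := Bool), Fintype.card_bool] at h3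
  omega

end KNat

end Cfsg.Agent.Omega.NO1.TH.K

end

section


/-!
# N1-ONE, (B) of #19584, natural type (helper247 #20646): `W = V₀ + ∑ W_j^++`

* `KNat.smul_pp` : `R` permutes the `PP j`;
* `KNat.acts_add` : `h w + w ∈ ⨆ PP j` for `h` acting by matrices;
* `KNat.le_pp` : `W ≤ fx V R ⊔ ⨆ j, PP j`;
* `KNat.exists_off` : if `fx V R ≤ E`, `W ≰ E` there is `v ∈ PP j`, `v ∉ E`, not in the fixed line.
-/

set_option autoImplicit false
set_option linter.unusedSectionVars false

namespace Cfsg.Agent.Omega.NO1.TH.K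

open Subgroup Cfsg.Agent.Omega.NO1.AB Cfsg.Agent.Lib.SL2Mat
open Cfsg.Agent.Omega.NatPair (ap)
open scoped Pointwise

universe u

variable {Y : Type u} [Group Y] {V : Type u} [AddCommGroup V] [DistribMulAction Y V] {H R : Subgroup Y}
  {F : Type} [Field F] {k : ℕ} {co : V → Fin k → Fin 2 → F}

namespace KNat

variable (N : KNat V H R F k co)
include N

/-- `H` permutes the `PP j` -/
theorem smul_pp [CharP F 2] {r : Y} (hr : r ∈ H) (j : Fin k) :
    ∃ j', ∀ v ∈ PP V H R co j, r • v ∈ PP V H R co j' := by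
  obtain ⟨σ, hσ⟩ := N.perm r hr
  refine ⟨σ j, fun v hv => ?_⟩
  refine AddSubgroup.closure_induction ?_ ?_ ?_ ?_ hv
  · rintro _ ⟨g, hg, A, hA, hAi, w, hw, rfl⟩
    have hr' : r⁻¹ ∈ H := H.inv_mem hr
    have hgr : r * g * r⁻¹ ∈ H := H.mul_mem (H.mul_mem hr hg) hr'
    obtain ⟨B, hB⟩ := N.norm r hr g hg A hA.1
    have hsm : ∀ v : V, (r * g * r⁻¹) • v = r • g • r⁻¹ • v := fun v => by rw [mul_smul, mul_smul]
    refine AddSubgroup.subset_closure ⟨r * g * r⁻¹, hgr, B, ⟨hB, ?_⟩, ?_, r • w, smul_mem_WW hr hw, ?_⟩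
    · intro d hd hd0
      rw [hsm, hA.2 _ (smul_mem_WW hr' hd) ((N.co_smul_zero hr' hd).2 hd0), smul_inv_smul]
    · intro i hi
      apply NatPair.ap_inj
      intro x
      obtain ⟨v, hv, hvx⟩ := N.exists_sgl i x
      have hx : co v i = x := by rw [hvx, Pi.single_eq_same]
      rw [NatPair.ap_one, ← hx, ← hB v hv, ← N.sub_ad (smul_mem_WW hgr hv) hv]
      obtain ⟨i', rfl⟩ := σ.surjective i
      have hi' : i' ≠ j := fun e => hi (by rw [e])
      have hv' := smul_mem_WW hr' hv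
      have e : (r * g * r⁻¹) • v + v = r • (g • r⁻¹ • v + r⁻¹ • v) := by
        rw [hsm, smul_add, smul_inv_smul]
      rw [e, hσ _ (add_mem (smul_mem_WW hg hv') hv'), N.sub_ad (smul_mem_WW hg hv') hv', hA.1 _ hv', hAi i' hi',
        NatPair.ap_one]
    · rw [hsm, inv_smul_smul, smul_add]
  · rw [smul_zero]; exact zero_mem _
  · intro a b _ _ ha hb
    rw [smul_add]
    exact add_mem ha hb
  · intro a _ ha
    rw [smul_neg]
    exact neg_mem ha

/-- `h w + w ∈ ⨆ PP j` for `h` acting by matrices -/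
theorem acts_add [CharP F 2] (h2 : ∀ v : V, v + v = 0) {h : Y} (hh : h ∈ H)
    {A : Fin k → Matrix.SpecialLinearGroup (Fin 2) F} (hA : Acts V H R co h A) {w : V} (hw : w ∈ WW V H R) :
    h • w + w ∈ ⨆ j, PP V H R co j := by
  classical
  have key : ∀ s : Finset (Fin k), ∀ h ∈ H, ∀ A, Acts V H R co h A → (∀ i, i ∉ s → A i = 1) →
      ∀ w ∈ WW V H R, h • w + w ∈ ⨆ j, PP V H R co j := by
    intro s
    induction s using Finset.induction_on with
    | empty =>
      intro h hh A hA hAi w hw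
      have h1 := N.trivH h hh (fun w hw => by
        funext i
        rw [hA.1 w hw, hAi i (by simp), NatPair.ap_one]) w hw
      rw [h1, h2]
      exact zero_mem _
    | insert j s hj ih =>
      intro h hh A hA hAi w hw
      obtain ⟨g, hg, hgA⟩ := N.lift (Pi.mulSingle j (A j))
      obtain ⟨h', hh', hA'⟩ := N.lift (Function.update A j 1)
      have h1 : h • w = h' • g • w := by
        rw [← mul_smul]
        refine N.eqOn hh (H.mul_mem hh' hg) ?_ hw
        intro w hw
        rw [mul_smul]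
        funext i
        rw [hA.1 w hw, hA'.1 _ (smul_mem_WW hg hw), hgA.1 w hw]
        by_cases hi : i = j
        · subst hi
          rw [Function.update_self, NatPair.ap_one, Pi.mulSingle_eq_same]
        · rw [Function.update_of_ne hi, Pi.mulSingle_eq_of_ne hi, NatPair.ap_one]
      have h3 := ih h' hh' _ hA' (by
        intro i hi
        by_cases hij : i = j
        · subst hij
          rw [Function.update_self]
        · rw [Function.update_of_ne hij]
          exact hAi i (by simp [hij, hi])) (g • w) (smul_mem_WW hg hw)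
      have h4 : g • w + w ∈ PP V H R co j := AddSubgroup.subset_closure
        ⟨g, hg, _, hgA, fun i hi => Pi.mulSingle_eq_of_ne hi _, w, hw, rfl⟩
      have e : h • w + w = (h' • g • w + g • w) + (g • w + w) := by
        rw [h1]
        have : h' • g • w + g • w + (g • w + w) = h' • g • w + w + (g • w + g • w) := by abel
        rw [this, h2, add_zero]
      rw [e]
      exact add_mem h3 ((le_iSup (fun j => PP V H R co j) j) h4)
  exact key Finset.univ h hh A hA (fun i hi => absurd (Finset.mem_univ i) hi) w hw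

/-- **`W = V₀ + ∑ W_j^++`** -/
theorem le_pp [CharP F 2] (h2 : ∀ v : V, v + v = 0) (hRH : R ≤ H) :
    WW V H R ≤ fx V R ⊔ ⨆ j, PP V H R co j := by
  set S := fx V R ⊔ ⨆ j, PP V H R co j with hS
  have hSW : S ≤ WW V H R := sup_le fx_le_WW (iSup_le fun j => PP_le_WW j)
  have hRS : ∀ r ∈ R, ∀ v ∈ S, r • v ∈ S := by
    intro r hr v hv
    obtain ⟨x, hx, y, hy, rfl⟩ := AddSubgroup.mem_sup.1 hv
    rw [smul_add, hx r hr]
    refine add_mem (AddSubgroup.mem_sup_left hx) ?_
    refine AddSubgroup.mem_sup_right ?_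
    refine AddSubgroup.iSup_induction (fun j => PP V H R co j) (C := fun y => r • y ∈ ⨆ j, PP V H R co j) hy
      ?_ ?_ ?_
    · intro j v hv
      obtain ⟨j', hj'⟩ := N.smul_pp (hRH hr) j
      exact (le_iSup (fun j => PP V H R co j) j') (hj' v hv)
    · rw [smul_zero]; exact zero_mem _
    · intro a b ha hb
      rw [smul_add]
      exact add_mem ha hb
  have hAS : ∀ h ∈ H, ∀ A, Acts V H R co h A → ∀ v ∈ S, h • v ∈ S := by
    intro h hh A hA v hv
    have h1 := N.acts_add h2 hh hA (hSW hv)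
    have e : h • v = (h • v + v) + v := by rw [add_assoc, h2, add_zero]
    rw [e]
    exact add_mem (AddSubgroup.mem_sup_right h1) hv
  let K : Subgroup Y :=
    { carrier := {h | h ∈ H ∧ (∀ v ∈ S, h • v ∈ S) ∧ ∀ v ∈ S, h⁻¹ • v ∈ S}
      one_mem' := ⟨H.one_mem, fun v hv => by rwa [one_smul], fun v hv => by rwa [inv_one, one_smul]⟩
      mul_mem' := fun {a b} ha hb => ⟨H.mul_mem ha.1 hb.1, fun v hv => by
        rw [mul_smul]; exact ha.2.1 _ (hb.2.1 v hv), fun v hv => by
        rw [mul_inv_rev, mul_smul]; exact hb.2.2 _ (ha.2.2 v hv)⟩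
      inv_mem' := fun {a} ha => ⟨H.inv_mem ha.1, ha.2.2, fun v hv => by rw [inv_inv]; exact ha.2.1 v hv⟩ }
  have hK : K = H := by
    apply N.gen
    · intro r hr
      exact ⟨hRH hr, hRS r hr, hRS r⁻¹ (R.inv_mem hr)⟩
    · intro h hh
      exact hh.1
    · intro h hh A hA
      refine ⟨hh, hAS h hh A hA, ?_⟩
      refine hAS h⁻¹ (H.inv_mem hh) (fun i => (A i)⁻¹) ⟨?_, ?_⟩
      · intro v hv i
        have h1 := hA.1 _ (smul_mem_WW (H.inv_mem hh) hv) i
        rw [smul_inv_smul] at h1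
        rw [h1, NatPair.ap_inv_ap]
      · intro d hd hd0
        rw [inv_smul_eq_iff]
        exact (hA.2 d hd hd0).symm
  refine WW_le fun x hx w hw => ?_
  have hx' : x ∈ K := by rw [hK]; exact hx
  exact hx'.2.1 w (AddSubgroup.mem_sup_left hw)

/-- a vector of `PP j` outside `E`, not in the fixed line -/
theorem exists_off [CharP F 2] (h2 : ∀ v : V, v + v = 0) (hRH : R ≤ H) (E : AddSubgroup V) (hfx : fx V R ≤ E)
    (h : ¬ WW V H R ≤ E) : ∃ j, ∃ v ∈ PP V H R co j, v ∉ E ∧ co v j 1 ≠ 0 := by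
  have h1 : ∃ j, ¬ PP V H R co j ≤ E := by
    by_contra hc
    push Not at hc
    exact h ((N.le_pp h2 hRH).trans (sup_le hfx (iSup_le hc)))
  obtain ⟨j, hj⟩ := h1
  obtain ⟨v₁, hv₁, hv₁E⟩ := SetLike.not_le_iff_exists.1 hj
  by_cases hc : co v₁ j 1 = 0
  · obtain ⟨v₂, hv₂, hco⟩ := N.pp_onto j (![0, 1] : Fin 2 → F)
    have h3 : co v₂ j 1 = 1 := by rw [hco, Pi.single_eq_same]; simp
    by_cases hE : v₂ ∈ E
    · refine ⟨j, v₁ + v₂, add_mem hv₁ hv₂, fun h4 => ?_, ?_⟩
      · apply hv₁E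
        have h5 := add_mem h4 hE
        rwa [add_assoc, h2, add_zero] at h5
      · rw [N.add _ (PP_le_WW j hv₁) _ (PP_le_WW j hv₂), Pi.add_apply, Pi.add_apply, hc, h3, zero_add]
        exact one_ne_zero
    · exact ⟨j, v₂, hv₂, hE, by rw [h3]; exact one_ne_zero⟩
  · exact ⟨j, v₁, hv₁, hv₁E, hc⟩

end KNat

end Cfsg.Agent.Omega.NO1.TH.K

end

section


/-!
# N1-ONE, (B) of #19584, natural type (helper247 #20646): (g) and (e)

`A ≤ H` a member, opposite: `hO : Opp V H R co A I`; `hb` = (b) of #20646: `W ∩ W' ≤ W_J`.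

* `TwoN.g_Q` : `s_y ∈ Q` for `y ∈ W' ∩ E_A`;
* `TwoN.g_fix` : `S₁` centralises `W' ∩ E_A`;
* `TwoN.e_triv` : the computation (a) for `B₁ = A ∩ Q` on `W'`;
* `TwoN.e_SK` : `S_X ≤ Q ∩ Q'` if `W' ≤ E_A`;
* `TwoN.e_exact` : `B₁` acts on `W'` as `R'_Δ`, `Δ ≠ ∅`;
* `TwoN.e_CK` : `C_V(K) = W + W' + F_A`;
* `TwoN.e_card` : `|A| ≥ |F|⁴`, `|S_X| ≥ |F|²`.
-/

set_option autoImplicit false
set_option linter.unusedSectionVars false

namespace Cfsg.Agent.Omega.NO1.TH.K

open Subgroup Cfsg.Agent.Omega.NO1.AB Cfsg.Agent.Omega.FFBr Cfsg.Agent.Lib.SL2Mat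
open Cfsg.Agent.Omega.NatPair (ap)
open scoped Pointwise

universe u

variable {Y : Type u} [Group Y] {V : Type u} [AddCommGroup V] [DistribMulAction Y V]

/-- the computation (a) for a family `σ` with `[x, σ y] = [y, σ x]` -/
theorem KNat.triv_of {H R : Subgroup Y} {F : Type} [Field F] {k : ℕ} {co : V → Fin k → Fin 2 → F}
    (K : KNat V H R F k co) (two : ∀ v : V, v + v = 0) (hRH : R ≤ H) {B : Subgroup Y} (hBR : B ≤ R)
    {I : Set (Fin k)} (hS : Supp V H R co B I) (σ : V → Y) (h1 : ∀ y ∈ WW V H R, σ y ∈ B)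
    (h2 : ∀ y ∈ WW V H R, σ y • y = y)
    (h3 : ∀ x ∈ WW V H R, ∀ y ∈ WW V H R, σ y • x + x = σ x • y + y) : ∀ y ∈ WW V H R, σ y ∈ QQ H R := by
  intro y hy
  obtain ⟨b, hb0, hb⟩ := hS.act _ (h1 y hy)
  apply K.mem_Q_of_up_zero two hRH (hBR (h1 y hy)) hb
  intro i
  by_cases hi : co y i 1 = 0
  · obtain ⟨z, hz, hzi, _⟩ := K.exists_at i ![0, 1]
    have hz1 : co z i 1 = 1 := by rw [hzi]; rfl
    obtain ⟨c, hc0, hc⟩ := hS.act _ (h1 z hz)
    have h4 := h3 z hz y hy
    have h5 : co (σ y • z + z) i 0 = b i := by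
      rw [K.add_apply (smul_mem_WW (hRH (hBR (h1 y hy))) hz) hz, hb.up_fst hz, hz1, hzi]
      simp
    have h6 : co (σ z • y + y) i 0 = 0 := by
      rw [K.add_apply (smul_mem_WW (hRH (hBR (h1 z hz))) hy) hy, hc.up_fst hy, hi, mul_zero, add_zero]
      exact K.ff two i _
    rw [← h5, h4, h6]
  · have h4 := hb.up_fst hy i
    rw [h2 y hy] at h4
    rcases mul_eq_zero.1 (left_eq_add.1 h4) with h | h
    · exact h
    · exact absurd h hi

theorem card_le_fun {F : Type} [Finite F] {k : ℕ} {I : Set (Fin k)} (hI : I.Nonempty) :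
    Nat.card F ≤ Nat.card (I → F) := by
  obtain ⟨i, hi⟩ := hI
  exact Nat.card_le_card_of_injective (fun x : F => fun _ : I => x) fun x y hxy => congrFun hxy ⟨i, hi⟩

namespace TwoN

variable [Finite Y] [Finite V] {U : Set (Subgroup Y)} {T : Sylow 2 Y} {M H H' R : Subgroup Y} {F : Type} [Field F]
  {k : ℕ} {co co' : V → Fin k → Fin 2 → F} {t : Y} (h : TwoN V U T M H H' R F k co co' t)
include h

section g

variable (hb : ∀ v ∈ WW V H R, v ∈ WW V H' R → ∀ i, co v i 1 = 0) {A : Subgroup Y} (hA : A ∈ U) (hAH : A ≤ H)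
  {I : Set (Fin k)} (hO : Opp V H R co A I) {w : V} (hw : w ∉ Ee V A)
include hb hA hAH hO hw

/-- **(g)**: `s_y ∈ Q` for `y ∈ W' ∩ E_A` -/
theorem g_Q {y : V} (hy : y ∈ WW V H' R) {s : Y} (hs : s ∈ A)
    (h1 : s • w + w + y ∈ fx V A) : s ∈ QQ H R := by
  have hm := h.amb.cls.mem A hA
  have two := h.amb.two
  have hWE : WW V H R ≤ Ee V A := h.a.WW_le_Ee h.amb h.we hA hAH
  obtain ⟨b, hb0, hbs⟩ := hO.act s hs
  have h2 : s ∈ A ⊓ CW V H R := by
    refine ⟨hs, fun x hx => ?_⟩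
    refine h.K.trivH s (hAH hs) (fun x hx => ?_) x hx
    obtain ⟨r, hr, hrx⟩ := hm.surj w hw x (hWE hx)
    have h3 := mem_Q_of_shift h.K h.amb h.a h.we hA hAH hw hx hr hrx
    have h4 : s • x + x = r • y + y := s_symm two hm hr hs hrx h1
    have hsx := smul_mem_WW (hAH hs) hx
    have h5 : s • x + x ∈ WW V H' R := by
      rw [h4]
      exact add_mem (smul_mem_WW (h.a'.RH (QQ_le h3)) hy) hy
    refine h.K.co_eq_of_add two hsx hx ?_
    funext i
    apply NatPair.ext2
    · rw [h.K.add_apply hsx hx, hbs.lo_fst hx]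
      exact h.K.ff two i _
    · exact hb _ (add_mem hsx hx) h5 i
  rw [h.a.inf_CW' h.amb hA hAH] at h2
  exact h2.2

/-- **(g)**: `S₁` centralises `W' ∩ E_A` -/
theorem g_fix {y : V} (hy : y ∈ WW V H' R) (hyE : y ∈ Ee V A) {s : Y} (hs : s ∈ A)
    (h1 : s • w + w ∈ WW V H R ⊔ fx V A) : s • y = y := by
  have hm := h.amb.cls.mem A hA
  have two := h.amb.two
  obtain ⟨x, hx, f, hf, hxf⟩ := AddSubgroup.mem_sup.1 h1
  have h2 : s • w + w + x ∈ fx V A := by
    rw [← hxf]
    have e : x + f + x = (x + x) + f := by abel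
    rw [e, two, zero_add]
    exact hf
  obtain ⟨r, hr, hry⟩ := hm.surj w hw y hyE
  have h3 := h.g_Q hb hA hAH hO hw hy hr hry
  have h4 : r • x + x = s • y + y := s_symm two hm hs hr h2 hry
  rw [Amal.QQ_fix h.a h.amb h3 hx, two] at h4
  exact (HE.add_eq_zero' two).1 h4.symm

end g

/-- `|A ∩ Q| |F|^|I| ≤ |A|` -/
theorem opp_card {A : Subgroup Y} (hA : A ∈ U) (hAH : A ≤ H) {I : Set (Fin k)} (hO : Opp V H R co A I) :
    Nat.card ↥(A ⊓ QQ H R) * Nat.card (I → F) ≤ Nat.card A := by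
  have h1 := h.a.exact' h.amb h.we hA hAH
  have h2 : WW V H R ⊓ fx V A ≤ cut h.K I 0 := by
    rintro v ⟨hv, hf⟩
    exact ⟨hv, fun i hi => hO.fx_le hv hf hi⟩
  have h3 := Nat.card_le_card_of_injective _ (AddSubgroup.inclusion_injective h2)
  have h4 := card_cut h.K I 0
  have h5 : 0 < Nat.card ↥(cut h.K I 0) := Nat.card_pos
  apply Nat.le_of_mul_le_mul_left _ h5
  calc Nat.card ↥(cut h.K I 0) * (Nat.card ↥(A ⊓ QQ H R) * Nat.card (I → F))
      = Nat.card ↥(cut h.K I 0) * Nat.card (I → F) * Nat.card ↥(A ⊓ QQ H R) := by ring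
    _ = Nat.card A * Nat.card ↥(WW V H R ⊓ fx V A) := by rw [← h4, h1]
    _ ≤ Nat.card A * Nat.card ↥(cut h.K I 0) := Nat.mul_le_mul_left _ h3
    _ = _ := mul_comm _ _

/-- `A ∩ Q ≰ Q'` -/
theorem not_le {A : Subgroup Y} (hA : A ∈ U) (hAH : A ≤ H) (hAM : ¬ A ≤ M) : ¬ A ⊓ QQ H R ≤ QQ H' R := by
  intro h1
  obtain ⟨b, hb, hb'⟩ := h.a.star h.amb h.we hA hAH hAM
  apply hb'
  have e : QQ H' R = MulAut.conj t • QQ H R := by
    have h2 := QQ_conj' (H := H) (R := R) t
    rw [conj_of_mem h.a.t_norm] at h2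
    rw [h.H'_eq]
    exact h2
  rw [← e]
  exact h1 hb

/-- **(e)**: `B₁` acts on `W'` as `R'_Δ` -/
theorem e_exact {A : Subgroup Y} (hA : A ∈ U) (hAH : A ≤ H) (hAM : ¬ A ≤ M) (hE : WW V H' R ≤ Ee V A) :
    ∃ Δ : Set (Fin k), Δ.Nonempty ∧ Supp V H' R co' (A ⊓ QQ H R) Δ := by
  have h1 := (Amal.e_one h.a h.a' h.amb h.we h.we' hA hAH hE).1
  exact h.K'.exists_supp_of h.amb.two h.a'.RH (inf_le_right.trans QQ_le)
    (ElAb.mono (Mem.elAb (h.amb.cls.mem A hA)) inf_le_left) (h.not_le hA hAH hAM) h1.le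

section e

variable (hb : ∀ v ∈ WW V H R, v ∈ WW V H' R → ∀ i, co v i 1 = 0) {A : Subgroup Y} (hA : A ∈ U) (hAH : A ≤ H)
  (hAM : ¬ A ≤ M) {I : Set (Fin k)} (hO : Opp V H R co A I) (hE : WW V H' R ≤ Ee V A) {w : V} (hw : w ∉ Ee V A)
include hb hA hAH hAM hO hE hw

/-- **(e)**: `S_X ≤ K` -/
theorem e_SK : ∀ s ∈ A, s • w + w ∈ WW V H R ⊔ WW V H' R ⊔ fx V A → s ∈ QQ H R ∧ s ∈ QQ H' R := by
  obtain ⟨Δ, _, hS⟩ := h.e_exact hA hAH hAM hE
  refine Amal.e_SK h.a h.a' h.amb h.we h.we' hA hAH hE hw ?_ ?_ ?_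
  · intro s hs h1
    obtain ⟨x, hx, f, hf, hxf⟩ := AddSubgroup.mem_sup.1 h1
    refine mem_Q_of_shift h.K h.amb h.a h.we hA hAH hw hx hs ?_
    rw [← hxf]
    have e : x + f + x = (x + x) + f := by abel
    rw [e, h.amb.two, zero_add]
    exact hf
  · intro s hs h1 y hy
    exact h.g_fix hb hA hAH hO hw hy (hE hy) hs h1
  · intro σ h1 h2 h3
    exact h.K'.triv_of h.amb.two h.a'.RH (inf_le_right.trans QQ_le) hS σ h1 h2 h3

/-- **(e)**: `C_V(K) = W + W' + F_A` -/
theorem e_CK (hAQ : ¬ A ≤ QQ H R) :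
    fx V (A ⊓ QQ H R ⊓ QQ H' R) = WW V H R ⊔ WW V H' R ⊔ fx V A :=
  Amal.e_CK h.a h.a' h.amb h.we h.we' hA hAH hE hw hAQ (h.not_le hA hAH hAM)
    (h.e_SK hb hA hAH hAM hO hE hw)

/-- **(e)**: `|A| ≥ |F|⁴`, `|S_X| ≥ |F|²` -/
theorem e_card [Finite F] (hI : I.Nonempty) :
    Nat.card F ^ 2 ≤ Nat.card {s : Y // s ∈ A ∧ s • w + w ∈ WW V H R ⊔ WW V H' R ⊔ fx V A} ∧
      Nat.card F ^ 4 ≤ Nat.card A := by
  obtain ⟨Δ, hΔ, hS⟩ := h.e_exact hA hAH hAM hE
  have h1 := Amal.e_S h.a h.a' h.amb h.we h.we' hA hAH hE hw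
  have h2 := h.opp_card hA hAH hO
  have h3 : Nat.card ↥(A ⊓ QQ H R) = Nat.card ↥(A ⊓ QQ H R ⊓ QQ H' R) * Nat.card (Δ → F) :=
    hS.card h.K' h.amb.two h.a'.RH (Q_fix h.amb h.a') (inf_le_right.trans QQ_le)
  have h4 : Nat.card {s : Y // s ∈ A ∧ s • w + w ∈ WW V H R ⊔ WW V H' R ⊔ fx V A} ≤
      Nat.card ↥(A ⊓ QQ H R ⊓ QQ H' R) := by
    have hSK := h.e_SK hb hA hAH hAM hO hE hw
    apply Nat.card_le_card_of_injective
      (fun s : {s : Y // s ∈ A ∧ s • w + w ∈ WW V H R ⊔ WW V H' R ⊔ fx V A} =>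
        (⟨s, ⟨s.2.1, (hSK s s.2.1 s.2.2).1⟩, (hSK s s.2.1 s.2.2).2⟩ : ↥(A ⊓ QQ H R ⊓ QQ H' R)))
    intro s r hsr
    exact Subtype.ext (congrArg (fun z : ↥(A ⊓ QQ H R ⊓ QQ H' R) => (z : Y)) hsr)
  have h5 : Nat.card F ≤ Nat.card (I → F) := card_le_fun hI
  have h6 : Nat.card F ≤ Nat.card (Δ → F) := card_le_fun hΔ
  set κ := Nat.card ↥(A ⊓ QQ H R ⊓ QQ H' R) with hκ
  set σ := Nat.card {s : Y // s ∈ A ∧ s • w + w ∈ WW V H R ⊔ WW V H' R ⊔ fx V A} with hσ
  have h7 : 0 < κ := Nat.card_pos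
  have h8 : Nat.card F ^ 2 ≤ σ := by
    apply Nat.le_of_mul_le_mul_left _ h7
    calc κ * Nat.card F ^ 2 = κ * Nat.card F * Nat.card F := by ring
      _ ≤ κ * Nat.card (Δ → F) * Nat.card (I → F) := Nat.mul_le_mul (Nat.mul_le_mul_left _ h6) h5
      _ ≤ Nat.card A := by rw [← h3]; exact h2
      _ = κ * σ := h1.symm
  refine ⟨h8, ?_⟩
  calc Nat.card F ^ 4 = Nat.card F ^ 2 * Nat.card F ^ 2 := by ring
    _ ≤ κ * σ := Nat.mul_le_mul (h8.trans h4) h8
    _ = Nat.card A := h1

end e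

end TwoN

end Cfsg.Agent.Omega.NO1.TH.K

end
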