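import Cfsg.Agent.Mrg.Omega.NO1.TH.Fact
import Cfsg.Agent.Mrg.Omega.NO1.TH.K.EOne


/-!
# N1, `S_n` type, case (d): `W' ≰ E_A` for an opposite member `A` (bb OMEGA 21465 (3), helper593)

`A ≤ H` a member, `A ≰ Q`, `B₁ = A ∩ Q`, `S₁ = {s ∈ A | [w, s] ∈ W + F_A}`.

* `Amal.card_S1` : `|B₁| |S₁| = |A|`;
* `Amal.d_two` (type-free, `P` a set of independent point vectors of `W'`, permuted by `R`): `W' ≰ E_A`,
  `S₁ ≤ Q`, `[W' ∩ E_A, S₁] = 0` ⟹ `|B₁| = 2`, `|A| = 4`;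
* `Amal.d_trans` : if moreover `|V : E_A| = 2`, then `B₁ = ⟨b⟩`, `b` fixes `W' ∩ E_A`, `V = W' + E_A`;
* `TwoS.d_swap` : `b` acts on `W'` as one transposition.
-/

set_option autoImplicit false
set_option linter.unusedSectionVars false
set_option linter.dupNamespace false

namespace Cfsg.Agent.Omega.NO1.TH

open Subgroup Cfsg.Agent.Omega.NO1.AB Cfsg.Agent.Omega.FFBr
open scoped Pointwise

universe u

variable {Y : Type u} [Group Y] {V : Type u} [AddCommGroup V] [DistribMulAction Y V]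

namespace Amal

variable {U : Set (Subgroup Y)} {T : Sylow 2 Y} {M H H' R : Subgroup Y} {t : Y}

/-- `|B₁| |S₁| = |A|` -/
theorem card_S1 [Finite Y] [Finite V] (a : Amal U T M H R t) (h : Amb V U T M) (we : WE V U H R) {A : Subgroup Y}
    (hA : A ∈ U) (hAH : A ≤ H) {w : V} (hw : w ∉ Ee V A) :
    Nat.card ↥(A ⊓ QQ H R) * Nat.card {s : Y // s ∈ A ∧ s • w + w ∈ WW V H R ⊔ fx V A} = Nat.card A := by
  have hm := h.cls.mem A hA
  have h1 := card_SX h.two hm hw (X := WW V H R ⊔ fx V A) le_sup_right (sup_le (a.WW_le_Ee h we hA hAH) hm.FE)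
  have h2 := a.exact' h we hA hAH
  have h3 := card_sup_as (WW V H R) (fx V A)
  have hF : 0 < Nat.card ↥(fx V A) := Nat.card_pos
  have hI : 0 < Nat.card ↥(WW V H R ⊓ fx V A) := Nat.card_pos
  rw [h1] at h3
  generalize Nat.card {s : Y // s ∈ A ∧ s • w + w ∈ WW V H R ⊔ fx V A} = s at *
  apply Nat.eq_of_mul_eq_mul_right (Nat.mul_pos hF hI)
  calc _ = Nat.card ↥(A ⊓ QQ H R) * (Nat.card ↥(fx V A) * s * Nat.card ↥(WW V H R ⊓ fx V A)) := by ring
    _ = Nat.card ↥(A ⊓ QQ H R) * (Nat.card ↥(WW V H R) * Nat.card ↥(fx V A)) := by rw [h3]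
    _ = Nat.card ↥(WW V H R) * Nat.card ↥(A ⊓ QQ H R) * Nat.card ↥(fx V A) := by ring
    _ = Nat.card A * Nat.card ↥(WW V H R ⊓ fx V A) * Nat.card ↥(fx V A) := by rw [h2]
    _ = _ := by ring

variable [Finite Y] [Finite V] (a : Amal U T M H R t) (a' : Amal U T M H' R t) (h : Amb V U T M) (we : WE V U H R)
include a a' h we

/-- **(d)**: `|B₁| = 2`, `|A| = 4` -/
theorem d_two {A : Subgroup Y} (hA : A ∈ U) (hAH : A ≤ H) (hAQ : ¬ A ≤ QQ H R) (hE : ¬ WW V H' R ≤ Ee V A)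
    (gg : ∀ w, w ∉ Ee V A → ∀ s ∈ A, s • w + w ∈ WW V H R ⊔ fx V A →
      s ∈ QQ H R ∧ ∀ y ∈ WW V H' R, y ∈ Ee V A → s • y = y)
    {P : Set V} (hP : ∀ p ∈ P, p ∈ WW V H' R) (hgen : WW V H' R ≤ fx V R ⊔ AddSubgroup.closure P)
    (hsm : ∀ r ∈ R, ∀ p ∈ P, r • p ∈ P)
    (hind : ∀ p₁ ∈ P, ∀ p₂ ∈ P, ∀ p₃ ∈ P, ∀ p₄ ∈ P, p₁ + p₂ = p₃ + p₄ → p₁ = p₂ ∨ p₁ = p₃ ∨ p₁ = p₄) :
    (∃ p ∈ P, p ∉ Ee V A) ∧ ∃ b ∈ A ⊓ QQ H R, b ≠ 1 ∧ (∀ x ∈ A ⊓ QQ H R, x = 1 ∨ x = b) ∧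
      Nat.card ↥(A ⊓ QQ H R) = 2 ∧ Nat.card A = 4 ∧ ∀ y ∈ WW V H' R, y ∈ Ee V A → b • y = y := by
  have hm := h.cls.mem A hA
  have hWE : WW V H R ≤ Ee V A := a.WW_le_Ee h we hA hAH
  obtain ⟨v, hvP, hvE⟩ : ∃ p ∈ P, p ∉ Ee V A := by
    by_contra hcon
    push Not at hcon
    apply hE
    refine hgen.trans (sup_le (fx_le_WW.trans hWE) ?_)
    rw [AddSubgroup.closure_le]
    exact hcon
  have hcS := a.card_S1 h we hA hAH hvE
  have hlt : A ⊓ QQ H R < A := lt_of_le_of_ne inf_le_left fun h1 => hAQ (by rw [← h1]; exact inf_le_right)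
  have h2 := mul_card_le hlt
  have hB0 : 0 < Nat.card ↥(A ⊓ QQ H R) := Nat.card_pos
  -- `1 ≠ s ∈ S₁`
  obtain ⟨s, hs, hsv, hs1⟩ : ∃ s ∈ A, s • v + v ∈ WW V H R ⊔ fx V A ∧ s ≠ 1 := by
    by_contra hcon
    push Not at hcon
    have h3 : Nat.card {s : Y // s ∈ A ∧ s • v + v ∈ WW V H R ⊔ fx V A} ≤ 1 := by
      have : Subsingleton {s : Y // s ∈ A ∧ s • v + v ∈ WW V H R ⊔ fx V A} :=
        ⟨fun x y => Subtype.ext ((hcon x x.2.1 x.2.2).trans (hcon y y.2.1 y.2.2).symm)⟩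
      exact Finite.card_le_one_iff_subsingleton.2 this
    have h4 : Nat.card ↥(A ⊓ QQ H R) *
        Nat.card {s : Y // s ∈ A ∧ s • v + v ∈ WW V H R ⊔ fx V A} ≤ Nat.card ↥(A ⊓ QQ H R) * 1 :=
      Nat.mul_le_mul_left _ h3
    omega
  obtain ⟨hsQ, hsy⟩ := gg v hvE s hs hsv
  have key : ∀ w, w ∉ Ee V A → w ∈ P → ∀ r ∈ A, r ≠ 1 → r ∈ QQ H R →
      (∀ y ∈ WW V H' R, y ∈ Ee V A → r • y = y) → ∀ b ∈ A ⊓ QQ H R, b = 1 ∨ b = r := by
    intro w hw hwP r hr hr1 hrQ hry b hb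
    by_cases hb1 : b = 1
    · exact Or.inl hb1
    right
    have hrR : r ∈ R := QQ_le hrQ
    have hbR : b ∈ R := QQ_le hb.2
    have h3 : r • (b • w + w) = b • w + w :=
      hry _ (add_mem (smul_mem_WW (a'.RH hbR) (hP w hwP)) (hP w hwP)) (hm.VB b hb.1 w)
    rw [smul_add] at h3
    have hinj : ∀ x ∈ A, x • w = w → x = 1 := by
      intro x hx hxw
      apply hm.inj w hw x hx
      rw [hxw, h.two]
      exact zero_mem _
    rcases hind _ (hsm r hrR _ (hsm b hbR w hwP)) _ (hsm r hrR w hwP) _ (hsm b hbR w hwP) _ hwP h3 with h4 | h4 | h4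
    · exact absurd (hinj b hb.1 (smul_left_cancel r h4)) hb1
    · rw [← mul_smul, hm.comm r hr b hb.1, mul_smul] at h4
      exact absurd (hinj r hr (smul_left_cancel b h4)) hr1
    · have h5 := hinj (r * b) (mul_mem hr hb.1) (by rw [mul_smul]; exact h4)
      have h6 : r * (r * b) = r * 1 := by rw [h5]
      rwa [← mul_assoc, hm.sq r hr, one_mul, mul_one] at h6
  have hB : ∀ b ∈ A ⊓ QQ H R, b = 1 ∨ b = s := key v hvE hvP s hs hs1 hsQ hsy
  have hcB : Nat.card ↥(A ⊓ QQ H R) = 2 := by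
    have h3 : A ⊓ QQ H R = zpowers s := by
      apply le_antisymm
      · intro b hb
        rcases hB b hb with rfl | rfl
        · exact one_mem _
        · exact mem_zpowers _
      · rw [zpowers_le]
        exact ⟨hs, hsQ⟩
    rw [h3, Nat.card_zpowers]
    exact orderOf_eq_prime (by rw [pow_two]; exact hm.sq s hs) hs1
  refine ⟨⟨v, hvP, hvE⟩, s, ⟨hs, hsQ⟩, hs1, hB, hcB, ?_, hsy⟩
  have hcS2 : Nat.card {s : Y // s ∈ A ∧ s • v + v ∈ WW V H R ⊔ fx V A} ≤ 2 := by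
    rw [← hcB]
    apply Nat.card_le_card_of_injective
      (fun x : {s : Y // s ∈ A ∧ s • v + v ∈ WW V H R ⊔ fx V A} =>
        (⟨x, x.2.1, (gg v hvE x x.2.1 x.2.2).1⟩ : ↥(A ⊓ QQ H R)))
    intro x y hxy
    exact Subtype.ext (congrArg (fun z : ↥(A ⊓ QQ H R) => (z : Y)) hxy)
  rw [hcB] at hcS h2
  have h5 : 2 * Nat.card {s : Y // s ∈ A ∧ s • v + v ∈ WW V H R ⊔ fx V A} ≤ 2 * 2 := Nat.mul_le_mul_left _ hcS2
  omega

omit a a' h we in
/-- `V = W' + E_A` if `|V : E_A| = 2` -/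
theorem d_sup {A : Subgroup Y} {W' : AddSubgroup V} (hind : (Ee V A).index = 2) (hE : ¬ W' ≤ Ee V A) :
    W' ⊔ Ee V A = ⊤ := by
  rw [← AddSubgroup.index_eq_one]
  have h1 : (W' ⊔ Ee V A).index ∣ (Ee V A).index := AddSubgroup.index_dvd_of_le le_sup_right
  rw [hind] at h1
  rcases (Nat.dvd_prime Nat.prime_two).1 h1 with h2 | h2
  · exact h2
  · exfalso
    apply hE
    have h3 : Ee V A = W' ⊔ Ee V A := by
      have h4 := AddSubgroup.relIndex_mul_index (H := Ee V A) (K := W' ⊔ Ee V A) le_sup_right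
      rw [h2, hind] at h4
      have h5 : (Ee V A).relIndex (W' ⊔ Ee V A) = 1 := by omega
      exact le_antisymm le_sup_right (AddSubgroup.relIndex_eq_one.1 h5)
    rw [h3]
    exact le_sup_left

end Amal

namespace K

variable {U : Set (Subgroup Y)} {T : Sylow 2 Y} {M H H' R : Subgroup Y} {t : Y} {k m : ℕ}
  {co co' : V → Fin k → Fin (2 ^ m + 1) → ZMod 2}

/-- two letters are separated by a vector of `W` -/
theorem KSym.exists_sep (K : KSym V H R k m co) (i : Fin k) {x y : Fin (2 ^ m + 1)} (hxy : x ≠ y) :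
    ∃ w ∈ WW V H R, co w i x = 1 ∧ co w i y = 0 := by
  classical
  obtain ⟨z, hzx, hzy⟩ : ∃ z : Fin (2 ^ m + 1), z ≠ x ∧ z ≠ y := by
    by_contra hcon
    push Not at hcon
    have h1 : (Finset.univ : Finset (Fin (2 ^ m + 1))) ⊆ {x, y} := by
      intro z _
      rw [Finset.mem_insert, Finset.mem_singleton]
      by_cases h : z = x
      · exact Or.inl h
      · exact Or.inr (hcon z h)
    have h2 := Finset.card_le_card h1
    rw [Finset.card_univ, Fintype.card_fin, Finset.card_pair hxy] at h2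
    have h3 : 2 ^ 2 ≤ 2 ^ m := Nat.pow_le_pow_right (by norm_num) K.two_le
    omega
  obtain ⟨w, hw, hco⟩ := K.surj (fun j l => if j = i then (if l = x then 1 else 0) + (if l = z then 1 else 0) else 0) (by
    intro j
    by_cases hj : j = i
    · simp only [hj, if_true]
      rw [Finset.sum_add_distrib, Finset.sum_ite_eq' Finset.univ x, Finset.sum_ite_eq' Finset.univ z]
      simp only [Finset.mem_univ, if_true]
      decide
    · simp only [if_neg hj, Finset.sum_const_zero])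
  refine ⟨w, hw, ?_, ?_⟩
  · rw [hco]
    simp only [if_true, if_neg (Ne.symm hzx), add_zero]
  · rw [hco]
    simp only [if_true, if_neg (Ne.symm hxy), if_neg (Ne.symm hzy), add_zero]

/-- an involution `b ∈ R` whose group is an exact offender is one transposition -/
theorem KSym.swap_of [Finite Y] [Finite V] (K : KSym V H R k m co) {A : Subgroup Y} {b : Y} (hRH : R ≤ H)
    (hAR : A ≤ R) (hel : ElAb A) (hb : b ∈ A) (hB : ∀ x ∈ A, x = 1 ∨ x = b) (hbQ : b ∉ QQ H R)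
    (hc : Nat.card ↥(WW V H R) ≤ 2 * Nat.card ↥(fx V A ⊓ WW V H R)) :
    ∃ i x y, x ≠ y ∧ ActS V H R co b 1 (Function.update 1 i (Equiv.swap x y)) ∧ TrD V H R co b := by
  have hb1 : b ≠ 1 := fun h1 => hbQ (by rw [h1]; exact one_mem _)
  have hcA : Nat.card A = 2 := by
    have h3 : A = zpowers b := by
      apply le_antisymm
      · intro x hx
        rcases hB x hx with rfl | rfl
        · exact one_mem _
        · exact mem_zpowers _
      · rwa [zpowers_le]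
    rw [h3, Nat.card_zpowers]
    exact orderOf_eq_prime (by rw [pow_two]; exact hel.2 b hb) hb1
  have hcB : Nat.card ↥(A ⊓ QQ H R) = 1 := by
    have h3 : A ⊓ QQ H R = ⊥ := by
      rw [eq_bot_iff]
      intro x hx
      rcases hB x hx.1 with rfl | rfl
      · exact one_mem _
      · exact absurd hx.2 hbQ
    rw [h3, Subgroup.card_bot]
  obtain ⟨h1, h2⟩ := K.off A hAR hel (fun h => hbQ (h hb)) (by rw [hcB, hcA, one_mul]; exact hc)
  obtain ⟨τ, hτ, hτ2⟩ := h2 b hb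
  obtain ⟨i, x, hix⟩ : ∃ i x, τ i x ≠ x := by
    by_contra hcon
    push Not at hcon
    apply hbQ
    apply K.triv b (hAR hb)
    intro w hw
    have h3 : co (b • w) = co w := by
      funext i x
      have h4 := hτ w hw i x
      rw [hcon i x] at h4
      exact h4
    rw [K.add _ (smul_mem_WW (hRH (hAR hb)) hw) _ hw, h3]
    funext i x
    exact CharTwo.add_self_eq_zero _
  obtain ⟨_, b', hb', hb'2⟩ := hτ2 i x hix
  rcases hB b' hb' with h5 | h5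
  · exfalso
    obtain ⟨w, hw, hw1, hw2⟩ := K.exists_sep i (Ne.symm hix)
    have h3 := hb'2 w hw i x
    rw [h5, one_smul, Equiv.Perm.one_apply, Function.update_self, Equiv.swap_apply_left, hw1, hw2] at h3
    exact absurd h3 (by decide)
  · rw [h5] at hb'2
    exact ⟨i, x, τ i x, Ne.symm hix, hb'2, h1 b hb⟩

/-- **(d)** for `S_n` type: `|A ∩ Q| = 2`, `|A| = 4`, and if `|V : E_A| = 2`, then `V = W' + E_A` and `A ∩ Q = ⟨b⟩`
acts on `W'` as one transposition.  (`P` : independent point vectors of `W'`; `gg` : (a), (g).) -/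
theorem TwoS.d [Finite Y] [Finite V] (h : TwoS V U T M H H' R k m co co' t) {A : Subgroup Y} (hA : A ∈ U)
    (hAH : A ≤ H) (hAQ : ¬ A ≤ QQ H R) (hE : ¬ WW V H' R ≤ Ee V A)
    (gg : ∀ w, w ∉ Ee V A → ∀ s ∈ A, s • w + w ∈ WW V H R ⊔ fx V A →
      s ∈ QQ H R ∧ ∀ y ∈ WW V H' R, y ∈ Ee V A → s • y = y)
    {P : Set V} (hP : ∀ p ∈ P, p ∈ WW V H' R) (hgen : WW V H' R ≤ fx V R ⊔ AddSubgroup.closure P)
    (hsm : ∀ r ∈ R, ∀ p ∈ P, r • p ∈ P)
    (hind : ∀ p₁ ∈ P, ∀ p₂ ∈ P, ∀ p₃ ∈ P, ∀ p₄ ∈ P, p₁ + p₂ = p₃ + p₄ → p₁ = p₂ ∨ p₁ = p₃ ∨ p₁ = p₄) :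
    ∃ b ∈ A ⊓ QQ H R, b ≠ 1 ∧ (∀ x ∈ A ⊓ QQ H R, x = 1 ∨ x = b) ∧ Nat.card ↥(A ⊓ QQ H R) = 2 ∧ Nat.card A = 4 ∧
      (∀ y ∈ WW V H' R, y ∈ Ee V A → b • y = y) ∧
        ((Ee V A).index = 2 → WW V H' R ⊔ Ee V A = ⊤ ∧
          ∃ i x y, x ≠ y ∧ ActS V H' R co' b 1 (Function.update 1 i (Equiv.swap x y)) ∧ TrD V H' R co' b) := by
  have hm := h.amb.cls.mem A hA
  obtain ⟨_, b, hb, hb1, hB, hc2, hc4, hfix⟩ := h.a.d_two h.a' h.amb h.we hA hAH hAQ hE gg hP hgen hsm hind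
  refine ⟨b, hb, hb1, hB, hc2, hc4, hfix, fun hi => ⟨Amal.d_sup hi hE, ?_⟩⟩
  obtain ⟨v, hvW, hvE⟩ : ∃ v ∈ WW V H' R, v ∉ Ee V A := by
    by_contra hcon
    push Not at hcon
    exact hE hcon
  have hbQ : b ∉ QQ H' R := by
    intro h1
    apply hb1
    apply hm.inj v hvE b hb.1
    rw [Amal.QQ_fix h.a' h.amb h1 hvW, h.amb.two]
    exact zero_mem _
  refine h.K'.swap_of h.a'.RH (A := A ⊓ QQ H R) (inf_le_right.trans QQ_le) (ElAb.mono (Mem.elAb hm) inf_le_left) hb hB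
    hbQ ?_
  have h1 := card_sup_as (WW V H' R) (Ee V A)
  have h2 : WW V H' R ⊓ Ee V A ≤ fx V (A ⊓ QQ H R) ⊓ WW V H' R := by
    rintro y ⟨hy1, hy2⟩
    refine ⟨fun x hx => ?_, hy1⟩
    rcases hB x hx with h3 | h3
    · rw [h3, one_smul]
    · rw [h3]
      exact hfix y hy1 hy2
  have h3 : Nat.card ↥(WW V H' R ⊓ Ee V A) ≤ Nat.card ↥(fx V (A ⊓ QQ H R) ⊓ WW V H' R) :=
    Nat.card_le_card_of_injective _ (AddSubgroup.inclusion_injective h2)
  have h4 : Nat.card ↥(WW V H' R ⊔ Ee V A) ≤ 2 * Nat.card ↥(Ee V A) := by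
    have h5 := AddSubgroup.card_mul_index (Ee V A)
    rw [hi] at h5
    rw [mul_comm, h5]
    exact Nat.card_le_card_of_injective _ (WW V H' R ⊔ Ee V A).subtype_injective
  have hpos : 0 < Nat.card ↥(Ee V A) := Nat.card_pos
  apply Nat.le_of_mul_le_mul_right _ hpos
  calc Nat.card ↥(WW V H' R) * Nat.card ↥(Ee V A) =
        Nat.card ↥(WW V H' R ⊔ Ee V A) * Nat.card ↥(WW V H' R ⊓ Ee V A) := h1.symm
    _ ≤ 2 * Nat.card ↥(Ee V A) * Nat.card ↥(fx V (A ⊓ QQ H R) ⊓ WW V H' R) := Nat.mul_le_mul h4 h3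
    _ = _ := by ring

end K

end Cfsg.Agent.Omega.NO1.TH
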