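import Cfsg.Agent.Mrg.Omega.NO1.TH.K.Four
import Cfsg.Agent.Mrg.Omega.NO1.TH.K.EOne

section


/-!
# N1, `S_n` type, case (d), `a = 2`, `|U| = 4`: the end (bb OMEGA 21636 (1)-(5), helper593)

`Dk` : the data (1) of one member `D ≤ H` outside `M`; `S4.wp_inv` : (2) `W + C_{W'}(J)` is `H`-invariant;
`S4.not_QQ'` : (3); `S4.f_mem` : (4); `S4.letter`, `S4.false` : (5).
-/

set_option autoImplicit false
set_option linter.unusedSectionVars false
set_option linter.dupNamespace false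

namespace Cfsg.Agent.Omega.NO1.TH.K

open Subgroup Cfsg.Agent.Omega.NO1.AB Cfsg.Agent.Omega.FFBr
open scoped Pointwise

universe u

variable {Y : Type u} [Group Y]

/-- The data of one member `D ≤ H` outside `M`: `b ∈ D ∩ Q` acts on `W'` as the transposition `(x' y')` of block
`i'`, `f'` is the vector of this pair, `[V, b] = ⟨f, f'⟩`. -/
structure Dk (V : Type u) [AddCommGroup V] [DistribMulAction Y V] (U : Set (Subgroup Y)) (H H' R : Subgroup Y)
    {k n : ℕ} (co co' : V → Fin k → Fin n → ZMod 2) (D : Subgroup Y) (b u : Y) (i : Fin k) (x y : Fin n) (f : V)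
    (i' : Fin k) (x' y' : Fin n) (f' : V) : Prop where
  pk : Pk V H R co D b u i x y f
  sw' : Sw V H' R co' b i' x' y'
  XJ : ∀ v ∈ WJ V U H' R, b • v = v
  fJ : f' ∈ WJ V U H' R
  co_f' : co' f' = indi i' x' y'
  nf : f' ∉ fx V D
  hit : ∃ v, b • v + v = f'
  sig : ∀ v, b • v + v = 0 ∨ b • v + v = f' ∨ b • v + v = f ∨ b • v + v = f + f'
  inR : ∃ B ∈ U, B ≤ R ∧ ∃ b₁ u₁, Pk V H' R co' B b₁ u₁ i' x' y' f'

theorem indi_sep {k n : ℕ} {i j : Fin k} {x y a c : Fin n} (h : indi i x y j a ≠ indi i x y j c) :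
    j = i ∧ (((a = x ∨ a = y) ∧ ¬ (c = x ∨ c = y)) ∨ (¬ (a = x ∨ a = y) ∧ (c = x ∨ c = y))) := by
  unfold indi at h
  by_cases hj : j = i
  · refine ⟨hj, ?_⟩
    by_cases ha : a = x ∨ a = y
    · by_cases hc : c = x ∨ c = y
      · rw [if_pos ⟨hj, ha⟩, if_pos ⟨hj, hc⟩] at h
        exact absurd rfl h
      · exact Or.inl ⟨ha, hc⟩
    · by_cases hc : c = x ∨ c = y
      · exact Or.inr ⟨ha, hc⟩
      · rw [if_neg (fun h1 => ha h1.2), if_neg (fun h1 => hc h1.2)] at h
        exact absurd rfl h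
  · rw [if_neg (fun h1 => hj h1.1), if_neg (fun h1 => hj h1.1)] at h
    exact absurd rfl h

variable {V : Type u} [AddCommGroup V] [DistribMulAction Y V] {U : Set (Subgroup Y)} {T : Sylow 2 Y}
  {M H H' R : Subgroup Y} {k m : ℕ} {co co' : V → Fin k → Fin (2 ^ m + 1) → ZMod 2} {t : Y}

section side

variable [Finite Y] [Finite V]

/-- two transpositions in `R`: the second one fixes the pair of the first one -/
theorem TwoS.indi_eq (h : TwoS V U T M H H' R k m co co' t) {r s : Y} (hr : r ∈ R) (hs : s ∈ R) {i j : Fin k}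
    {x y a c : Fin (2 ^ m + 1)} (h1 : Sw V H R co r i x y) (h2 : Sw V H R co s j a c) :
    indi i x y j a = indi i x y j c := by
  by_contra hne
  obtain ⟨hj, h3⟩ := indi_sep hne
  subst hj
  rcases h3 with ⟨ha, hc⟩ | ⟨ha, hc⟩
  · rcases ha with rfl | rfl
    · exact hc (Or.inr (h.disj hr hs h1 h2).symm)
    · exact hc (Or.inl (h.disj hr hs h1.symm h2).symm)
  · rcases hc with rfl | rfl
    · exact ha (Or.inr (h.disj hr hs h1 h2.symm).symm)
    · exact ha (Or.inl (h.disj hr hs h1.symm h2.symm).symm)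

theorem S4.QM (h : S4 V U T M H H' R k m co co' t) : QQ H R ≤ M := QQ_le.trans (h.s.a.RT.trans h.s.amb.TM)

/-- **(1)** -/
theorem S4.exists_dk_of (h : S4 V U T M H H' R k m co co' t) {D : Subgroup Y} (hD : D ∈ U) (hDH : D ≤ H)
    (hDM : ¬ D ≤ M) {b u : Y} {i : Fin k} {x y : Fin (2 ^ m + 1)} {f : V} (p : Pk V H R co D b u i x y f) :
    ∃ i' x' y' f', Dk V U H H' R co co' D b u i x y f i' x' y' f' := by
  have hm := h.s.amb.cls.mem _ hD
  have two := h.s.amb.two
  obtain ⟨hE, b₀, hb₀, hb₀Q, i', x', y', hsw'⟩ := h.d D hD hDH hDM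
  have hb : b₀ = b := by
    rcases p.q b₀ hb₀ hb₀Q with h1 | h1
    · exfalso
      apply Sw.not_QQ h.s.swap hsw'
      rw [h1]
      exact one_mem _
    · exact h1
  subst hb
  have hbR : b₀ ∈ R := QQ_le p.bQ
  have hbH' : b₀ ∈ H' := h.s.a'.RH hbR
  obtain ⟨B, hB, hBR, b₁, u₁, f', p'⟩ := h.s.swap.exists_in_R h.c4 hbR hsw'
  have hBH' : B ≤ H' := hBR.trans h.s.a'.RH
  obtain ⟨w', hw', hw'E⟩ := SetLike.not_le_iff_exists.1 hE
  have hne : b₀ • w' + w' ∉ fx V D := fun h1 => p.b1 (hm.inj w' hw'E b₀ p.bD h1)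
  have hco : co' w' i' x' ≠ co' w' i' y' := by
    intro h1
    apply hne
    rw [Pk.fix_of h.s.swap hB hBH' p' hbH' hsw' hw' h1, two]
    exact zero_mem _
  have hf' : b₀ • w' + w' = f' := Pk.comm_eq h.s.swap hB hBH' p' hbH' hsw' hw' hco
  refine ⟨i', x', y', f', ⟨p, hsw', ?_, ⟨p'.fW, ?_⟩, p'.co_f, by rw [← hf']; exact hne, ⟨w', hf'⟩, ?_,
    B, hB, hBR, b₁, u₁, p'⟩⟩
  · intro v hv
    rw [h.s.swap.K.sw_smulD hbH' (hBH' p'.uD) hsw' p'.sw hv.1]
    exact hv.2 B hB hBR u₁ p'.uD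
  · intro B₂ hB₂ hB₂R c hc
    by_cases hQ : B₂ ≤ QQ H' R
    · exact h.s.swap.qfix (hQ hc) p'.fW
    · obtain ⟨b₂, u₂, i₂, x₂, y₂, f₂, p₂⟩ := h.s.swap.exists_pk hB₂ (hB₂R.trans h.s.a'.RH) (h.c4 _ hB₂) hQ
      have h2 : u₂ • f' = f' := by
        apply Pk.fix_of h.s.swap hB₂ (hB₂R.trans h.s.a'.RH) p₂ (h.s.a'.RH (hB₂R p₂.uD)) p₂.sw p'.fW
        rw [p'.co_f]
        exact h.s.swap.indi_eq hbR (hB₂R p₂.uD) hsw' p₂.sw
      have h3 : b₂ • f' = f' := h.s.swap.qfix p₂.bQ p'.fW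
      rcases p₂.all c hc with rfl | rfl | rfl | rfl
      · exact one_smul Y f'
      · exact h3
      · exact h2
      · rw [mul_smul, h2, h3]
  · intro v
    by_cases hvE : v ∈ Ee V D
    · rcases p.EE b₀ p.bD v hvE with h1 | h1
      · left; rw [h1, two]
      · right; right; left; exact h1
    · have h1 : v + w' ∈ Ee V D := by
        rw [AddSubgroup.add_mem_iff_of_index_two (h.ind D hD)]
        exact ⟨fun h2 => absurd h2 hvE, fun h2 => absurd h2 hw'E⟩
      have h2 : b₀ • v + v = (b₀ • (v + w') + (v + w')) + f' := by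
        rw [← hf', smul_add]
        have e : b₀ • v + b₀ • w' + (v + w') + (b₀ • w' + w') =
            b₀ • v + v + (b₀ • w' + b₀ • w') + (w' + w') := by abel
        rw [e, two, two, add_zero, add_zero]
      rcases p.EE b₀ p.bD _ h1 with h3 | h3
      · right; left; rw [h2, h3, two, zero_add]
      · right; right; right; rw [h2, h3]

theorem S4.exists_dk (h : S4 V U T M H H' R k m co co' t) {D : Subgroup Y} (hD : D ∈ U) (hDH : D ≤ H)
    (hDM : ¬ D ≤ M) : ∃ b u i x y f i' x' y' f', Dk V U H H' R co co' D b u i x y f i' x' y' f' := by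
  obtain ⟨b, u, i, x, y, f, p⟩ := h.s.exists_pk hD hDH (h.c4 D hD) fun h1 => hDM (h1.trans h.QM)
  obtain ⟨i', x', y', f', q⟩ := h.exists_dk_of hD hDH hDM p
  exact ⟨b, u, i, x, y, f, i', x', y', f', q⟩

/-- **(2)** `W + C_{W'}(J)` is `H`-invariant -/
theorem S4.wp_inv (h : S4 V U T M H H' R k m co co' t) {l : Y} (hl : l ∈ H) {v : V}
    (hv : v ∈ WW V H R ⊔ WJ V U H' R) : l • v ∈ WW V H R ⊔ WJ V U H' R := by
  have two := h.s.amb.two
  obtain ⟨D, hD, hDH, hDM⟩ := h.ex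
  obtain ⟨b, u, i, x, y, f, i', x', y', f', q⟩ := h.exists_dk hD hDH hDM
  set Wp := WW V H R ⊔ WJ V U H' R with hWp
  have key : ∀ g ∈ H, (∀ v ∈ WJ V U H' R, g • v ∈ Wp) → g ∈ MulAction.stabilizer Y Wp := by
    intro g hg h1
    rw [MulAction.mem_stabilizer_iff]
    apply eq_of_le_as
    · intro z hz
      rw [mem_smul_as, hWp, AddSubgroup.mem_sup] at hz
      obtain ⟨w, hw, j, hj, hwj⟩ := hz
      have e : z = g • w + g • j := by rw [← smul_add, hwj, smul_inv_smul]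
      rw [e]
      exact add_mem ((le_sup_left : _ ≤ Wp) (smul_mem_WW hg hw)) (h1 j hj)
    · rw [card_smul_as]
  have hR : R ≤ MulAction.stabilizer Y Wp := by
    intro r hr
    apply key r (h.s.a.RH hr)
    intro j hj
    apply (le_sup_right : _ ≤ Wp)
    refine ⟨smul_mem_WW (h.s.a'.RH hr) hj.1, fun B hB hBR c hc => ?_⟩
    have h1 : r⁻¹ * c * r ∈ MulAut.conj r⁻¹ • B := by
      have := conj_mem_conj (g := r⁻¹) hc
      rwa [inv_inv] at this
    have h2 : MulAut.conj r⁻¹ • B ≤ R := by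
      intro z hz
      rw [mem_conj, inv_inv] at hz
      have h3 := R.mul_mem (R.mul_mem (R.inv_mem hr) (hBR hz)) hr
      have e : r⁻¹ * (r * z * r⁻¹) * r = z := by group
      rwa [e] at h3
    have h3 := hj.2 _ (h.s.amb.cls.conj B hB r⁻¹) h2 _ h1
    rw [mul_smul, mul_smul, inv_smul_eq_iff] at h3
    exact h3
  have hDs : D ≤ MulAction.stabilizer Y Wp := by
    intro d hd
    apply key d (hDH hd)
    intro j hj
    have h1 := Pk.fix_b h.s hD hDH q.pk (q.XJ j hj)
    rw [AddSubgroup.mem_sup] at h1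
    obtain ⟨w, hw, e, he, hwe⟩ := h1
    have h2 : d • j = (d • w + w) + j := by
      rw [← hwe, smul_add, he d hd]
      have e1 : d • w + w + (w + e) = d • w + (w + w) + e := by abel
      rw [e1, two, add_zero]
    rw [h2]
    exact add_mem ((le_sup_left : _ ≤ Wp) (add_mem (smul_mem_WW (hDH hd) hw) hw)) ((le_sup_right : _ ≤ Wp) hj)
  have hH : H ≤ MulAction.stabilizer Y Wp := by
    rw [← h.s.a.gen hDH hDM]
    exact sup_le hR hDs
  have h1 := hH hl
  rw [MulAction.mem_stabilizer_iff] at h1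
  rw [← h1]
  exact smul_mem_smul_as hv

/-- `[V, b_D] ≤ W + C_{W'}(J)` for all active members of `H` -/
theorem S4.sigW (h : S4 V U T M H H' R k m co co' t) {D : Subgroup Y} (hD : D ∈ U) (hDH : D ≤ H) {b u : Y}
    {i : Fin k} {x y : Fin (2 ^ m + 1)} {f : V} (p : Pk V H R co D b u i x y f) (v : V) :
    b • v + v ∈ WW V H R ⊔ WJ V U H' R := by
  obtain ⟨l, hl, hlM⟩ := h.s.exists_out h.c4 h.ex hD hDH fun h1 => Sw.not_QQ h.s p.sw (h1 p.uD)
  have hD₁ : MulAut.conj l • D ∈ U := h.s.amb.cls.conj D hD l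
  have hD₁H : MulAut.conj l • D ≤ H := by
    intro z hz
    rw [mem_conj] at hz
    have h1 := H.mul_mem (H.mul_mem hl (hDH hz)) (H.inv_mem hl)
    have e : l * (l⁻¹ * z * l) * l⁻¹ = z := by group
    rwa [e] at h1
  obtain ⟨b₁, u₁, i₁, x₁, y₁, f₁, i', x', y', f', q⟩ := h.exists_dk hD₁ hD₁H hlM
  have hb : l * b * l⁻¹ = b₁ := by
    rcases q.pk.q _ (conj_mem_conj (g := l) p.bD) (conj_mem_QQ hl p.bQ) with h1 | h1
    · exfalso
      apply p.b1
      have h2 : l⁻¹ * (l * b * l⁻¹) * l = 1 := by rw [h1]; group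
      have e : l⁻¹ * (l * b * l⁻¹) * l = b := by group
      rwa [e] at h2
    · exact h1
  have h1 : b₁ • (l • v) + l • v ∈ WW V H R ⊔ WJ V U H' R := by
    have hf := (le_sup_left : _ ≤ WW V H R ⊔ WJ V U H' R) q.pk.fW
    have hf' := (le_sup_right : _ ≤ WW V H R ⊔ WJ V U H' R) q.fJ
    rcases q.sig (l • v) with h2 | h2 | h2 | h2
    · rw [h2]; exact zero_mem _
    · rw [h2]; exact hf'
    · rw [h2]; exact hf
    · rw [h2]; exact add_mem hf hf'
  have h2 := h.wp_inv (H.inv_mem hl) h1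
  have e : l⁻¹ • (b₁ • (l • v) + l • v) = b • v + v := by
    rw [← hb, smul_add, inv_smul_smul, ← mul_smul, ← mul_smul]
    congr 2
    group
  rwa [e] at h2

/-- **(3)** -/
theorem S4.not_QQ' (h : S4 V U T M H H' R k m co co' t) {D' : Subgroup Y} (hD' : D' ∈ U) {a u' : Y} {i' : Fin k}
    {x' y' : Fin (2 ^ m + 1)} {f' : V} {i : Fin k} {x y : Fin (2 ^ m + 1)} {f : V}
    (q : Dk V U H' H R co' co D' a u' i' x' y' f' i x y f) {B : Subgroup Y} (hB : B ∈ U) (hBR : B ≤ R) {b u : Y}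
    (p : Pk V H R co B b u i x y f) : ¬ B ≤ QQ H' R := by
  intro hle
  have two := h.s.amb.two
  have hBH := hBR.trans h.s.a.RH
  have hm := h.s.amb.cls.mem _ hB
  have haR : a ∈ R := QQ_le q.pk.bQ
  have haH : a ∈ H := h.s.a.RH haR
  have ha2 : ∀ v : V, a • a • v = v := fun v => by
    rw [← mul_smul, (h.s.amb.cls.mem _ hD').sq a q.pk.bD, one_smul]
  have hb2 : ∀ v : V, b • b • v = v := fun v => by rw [← mul_smul, hm.sq b p.bD, one_smul]
  -- `[V, a] ≤ F_B`
  have hfa : ∀ v : V, a • v + v ∈ fx V B := by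
    intro v
    have h1 : f' ∈ fx V B := fun c hc => h.s.swap.qfix (hle hc) q.pk.fW
    rcases q.sig v with h2 | h2 | h2 | h2
    · rw [h2]; exact zero_mem _
    · rw [h2]; exact p.ff
    · rw [h2]; exact h1
    · rw [h2]; exact add_mem h1 p.ff
  have haf : a • f = f := by
    apply Pk.fix_of h.s hB hBH p haH q.sw' p.fW
    rw [p.co_f]
    exact h.s.indi_eq haR haR q.sw' q.sw'
  -- `(ab)² v = v + (a β + β)`, `β = b v + v`
  set g := a * b * (a * b) with hgdef
  have hg : ∀ v : V, g • v = v + (a • (b • v + v) + (b • v + v)) := by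
    intro v
    have h1 : b • (a • v + v) = a • v + v := hfa v b p.bD
    have h2 : b • (a • (b • v + v) + (b • v + v)) = a • (b • v + v) + (b • v + v) := hfa (b • v + v) b p.bD
    have h3 : b • a • v = a • v + v + b • v := by
      rw [← h1, smul_add]
      have e : b • a • v + b • v + b • v = b • a • v + (b • v + b • v) := by abel
      rw [e, two, add_zero]
    rw [smul_add, smul_add a, smul_add b, smul_add b, hb2, h3] at h2
    -- `b a b v + (a v + v + b v) + (v + b v) = a b v + a v + (b v + v)`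
    have h4 : b • a • b • v = a • b • v + v + b • v := by
      have h5 := congrArg (fun z => z + (a • v + v + b • v + (v + b • v))) h2
      have e1 : b • a • b • v + (a • v + v + b • v) + (v + b • v) + (a • v + v + b • v + (v + b • v)) =
          b • a • b • v + (a • v + a • v) + (v + v) + (v + v) + (b • v + b • v) + (b • v + b • v) := by abel
      have e2 : a • b • v + a • v + (b • v + v) + (a • v + v + b • v + (v + b • v)) =
          a • b • v + v + b • v + (a • v + a • v) + (v + v) + (b • v + b • v) := by abel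
      have h6 := (e1.symm.trans h5).trans e2
      simp only [two, add_zero] at h6
      exact h6
    rw [hgdef, mul_smul, mul_smul, mul_smul, h4, smul_add, smul_add, ha2, smul_add]
    have e : v + (a • b • v + a • v + (b • v + v)) = b • v + a • v + a • b • v + (v + v) := by abel
    rw [e, two, add_zero]
  -- on `E_B`
  have hgE : ∀ v ∈ Ee V B, g • v = v := by
    intro v hv
    rw [hg v]
    rcases p.EE b p.bD v hv with h1 | h1
    · rw [h1, two, smul_zero, add_zero, add_zero]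
    · rw [h1, haf, two, add_zero]
  -- outside `E_B`
  have hWJ : ∀ j ∈ WJ V U H' R, a • j = j ∧ j ∈ fx V B := fun j hj =>
    ⟨h.s.swap.qfix q.pk.bQ hj.1, fun c hc => hj.2 B hB hBR c hc⟩
  have hgd : ∀ v : V, ∃ w ∈ WW V H R, ∃ j ∈ WJ V U H' R, b • v + v = w + j ∧
      a • (b • v + v) + (b • v + v) = a • w + w := by
    intro v
    have h1 := h.sigW hB hBH p v
    rw [AddSubgroup.mem_sup] at h1
    obtain ⟨w, hw, j, hj, hwj⟩ := h1
    refine ⟨w, hw, j, hj, hwj.symm, ?_⟩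
    rw [← hwj, smul_add, (hWJ j hj).1]
    have e : a • w + j + (w + j) = a • w + w + (j + j) := by abel
    rw [e, two, add_zero]
  have hgn : ∀ v, v ∉ Ee V B → g • v ≠ v := by
    intro v hv h1
    obtain ⟨w, hw, j, hj, h2, h3⟩ := hgd v
    rw [hg v, h3] at h1
    have h4 : a • w + w = 0 := by
      have h5 : v + (a • w + w) = v + 0 := by rw [h1, add_zero]
      exact add_left_cancel h5
    have h5 : a • w = w := (HE.add_eq_zero' two).1 h4
    have h6 : u • w = w := by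
      rw [← h.s.K.sw_smulD haH (hBH p.uD) q.sw' p.sw hw]
      exact h5
    have h7 : b • w = w := h.s.qfix p.bQ hw
    have h8 : w ∈ fx V B := by
      intro c hc
      rcases p.all c hc with rfl | rfl | rfl | rfl
      · exact one_smul Y w
      · exact h7
      · exact h6
      · rw [mul_smul, h6, h7]
    apply p.b1
    apply hm.inj v hv b p.bD
    rw [h2]
    exact add_mem h8 (hWJ j hj).2
  -- `g² = 1`
  have hg2 : g * g = 1 := by
    apply h.s.amb.faith
    intro v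
    obtain ⟨w, hw, j, hj, h2, h3⟩ := hgd v
    have h4 : a • w + w ∈ Ee V B := by
      have h5 := Amal.WW_le_Ee h.s.a h.s.amb h.s.we hB hBH
      exact h5 (add_mem (smul_mem_WW haH hw) hw)
    rw [mul_smul, hg v, h3, smul_add, hgE _ h4, hg v, h3, add_assoc, two, add_zero]
  have hg1 : g ≠ 1 := by
    intro h1
    obtain ⟨v, hv⟩ := hm.ne
    apply hgn v hv
    rw [h1, one_smul]
  have h1 := h.noff (zpowers g) (by
      rintro x ⟨n₁, rfl⟩ y ⟨n₂, rfl⟩
      exact (zpow_mul_comm g n₁ n₂)) (by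
      rintro x ⟨n₁, rfl⟩
      change g ^ n₁ * g ^ n₁ = 1
      rw [← (Commute.refl g).mul_zpow, hg2, one_zpow]) (by
      rw [Ne, zpowers_eq_bot]; exact hg1)
  have h2 : Nat.card ↥(zpowers g) = 2 := by
    rw [Nat.card_zpowers]
    exact orderOf_eq_prime (by rw [pow_two, hg2]) hg1
  have h3 : Ee V B ≤ fx V (zpowers g) := by
    intro v hv c hc
    have h4 : zpowers g ≤ MulAction.stabilizer Y v := by
      rw [zpowers_le]
      exact hgE v hv
    exact h4 hc
  have h4 : (fx V (zpowers g)).index ∣ 2 := by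
    rw [← h.ind B hB]
    exact AddSubgroup.index_dvd_of_le h3
  have h5 := Nat.le_of_dvd (by norm_num) h4
  omega

/-- **(4)** -/
theorem S4.f_mem (h : S4 V U T M H H' R k m co co' t) {D' : Subgroup Y} (hD' : D' ∈ U) {a u' : Y} {i' : Fin k}
    {x' y' : Fin (2 ^ m + 1)} {f' : V} {i : Fin k} {x y : Fin (2 ^ m + 1)} {f : V}
    (q : Dk V U H' H R co' co D' a u' i' x' y' f' i x y f) :
    f ∈ WW V H' R ∧ ∃ r ∈ R, ∃ i₂ x₂ y₂, Sw V H' R co' r i₂ x₂ y₂ ∧ co' f = indi i₂ x₂ y₂ := by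
  obtain ⟨B, hB, hBR, b, u, p⟩ := q.inR
  have hBH' := hBR.trans h.s.a'.RH
  obtain ⟨b₂, u₂, i₂, x₂, y₂, f₂, p₂⟩ := h.s.swap.exists_pk hB hBH' (h.c4 B hB) (h.not_QQ' hD' q hB hBR p)
  obtain ⟨w, hw, hwne⟩ := h.s.swap.K.exists_sepD i₂ p₂.sw.ne
  have h1 := Pk.comm_eq h.s.swap hB hBH' p₂ (hBH' p₂.uD) p₂.sw hw hwne
  have h2 : f = f₂ := by
    rcases p.EE u₂ p₂.uD w (Amal.WW_le_Ee h.s.a' h.s.amb h.s.we' hB hBH' hw) with h3 | h3
    · exact absurd (p₂.sw.co_of_fix hw (by rw [h3])) hwne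
    · rw [← h3, h1]
  rw [h2]
  exact ⟨p₂.fW, u₂, hBR p₂.uD, i₂, x₂, y₂, p₂.sw, p₂.co_f⟩

/-- **(5)**: the partner of the letter `x` -/
theorem S4.letter (h : S4 V U T M H H' R k m co co' t) {D : Subgroup Y} (hD : D ∈ U) (hDH : D ≤ H) {b u : Y}
    {i : Fin k} {x : Fin (2 ^ m + 1)} {f : V} {i' : Fin k} {x' y' : Fin (2 ^ m + 1)} {f' : V}
    (q : Dk V U H H' R co co' D b u i x 0 f i' x' y' f') :
    f' ∈ WW V H R ∧ ∃ z, z ≠ 0 ∧ co f' = indi i x z ∧ ∃ r ∈ R, Sw V H R co r i x z := by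
  obtain ⟨hfW, r, hr, i₂, x₂, y₂, hsw, hco⟩ := h.swap.f_mem hD q
  refine ⟨hfW, ?_⟩
  -- `0 ∉ {x₂, y₂}`
  have h0 : ∀ {x₂ y₂ : Fin (2 ^ m + 1)}, Sw V H R co r i₂ x₂ y₂ → x₂ ≠ 0 := by
    intro x₂ y₂ hs hx
    subst hx
    have h1 := h.s.K.fix0 r hr _ _ hs.act i₂
    rw [Function.update_self, Equiv.swap_apply_left] at h1
    exact hs.ne h1.symm
  have h02 := h0 hsw
  have h03 := h0 hsw.symm
  have hne : co f' i x ≠ co f' i 0 := by
    intro h1
    apply q.nf
    have h2 := Pk.fix_of h.s hD hDH q.pk (hDH q.pk.uD) q.pk.sw hfW h1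
    have h3 := h.s.qfix q.pk.bQ hfW
    intro c hc
    rcases q.pk.all c hc with rfl | rfl | rfl | rfl
    · exact one_smul Y f'
    · exact h3
    · exact h2
    · rw [mul_smul, h2, h3]
  rw [hco] at hne
  obtain ⟨hi, h1⟩ := indi_sep hne
  subst hi
  rcases h1 with ⟨h1 | h1, _⟩ | ⟨_, h1 | h1⟩
  · rw [← h1] at hsw hco
    exact ⟨y₂, h03, hco, r, hr, hsw⟩
  · rw [← h1] at hsw hco
    exact ⟨x₂, h02, by rw [hco, indi_comm], r, hr, hsw.symm⟩
  · exact absurd h1.symm h02
  · exact absurd h1.symm h03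

theorem S4.false (h : S4 V U T M H H' R k m co co' t) : False := by
  obtain ⟨D, hD, hDH, hDM⟩ := h.ex
  have hm := h.s.amb.cls.mem _ hD
  -- a member with `π(D) = {x, 0}`
  obtain ⟨b, u, i, x, f, p⟩ : ∃ b u i x f, Pk V H R co D b u i x 0 f := by
    obtain ⟨b, u, i, x, y, f, p⟩ := h.s.exists_pk hD hDH (h.c4 D hD) fun h1 => hDM (h1.trans h.QM)
    by_cases hy : y = 0
    · subst hy
      exact ⟨b, u, i, x, f, p⟩
    by_cases hx : x = 0
    · subst hx
      exact ⟨b, u, i, y, f, Pk.symm h.s hD hDH p⟩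
    exfalso
    apply hDM
    have h1 := h.s.sw_mem_M (hDH p.uD) hx hy p.sw.act
    have h2 := h.QM p.bQ
    intro d hd
    rcases p.all d hd with rfl | rfl | rfl | rfl
    · exact one_mem _
    · exact h2
    · exact h1
    · exact M.mul_mem h2 h1
  obtain ⟨i', x', y', f', q⟩ := h.exists_dk_of hD hDH hDM p
  obtain ⟨hfW, z, hz0, hzco, r, hr, hrs⟩ := h.letter hD hDH q
  -- a further letter
  obtain ⟨c, hc0, hcx, hcz⟩ := h.s.K.exists_letterD 0 x z
  obtain ⟨l, hl, hlτ, _⟩ := h.s.K.lift (Function.update 1 i (Equiv.swap z c))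
  have hlM : l ∈ M := h.s.sw_mem_M hl hz0 hc0 hlτ
  have hD₁ : MulAut.conj l • D ∈ U := h.s.amb.cls.conj D hD l
  have hD₁H : MulAut.conj l • D ≤ H := by
    intro z hz
    rw [mem_conj] at hz
    have h1 := H.mul_mem (H.mul_mem hl (hDH hz)) (H.inv_mem hl)
    have e : l * (l⁻¹ * z * l) * l⁻¹ = z := by group
    rwa [e] at h1
  have hD₁M : ¬ MulAut.conj l • D ≤ M := by
    intro h1
    apply hDM
    intro d hd
    have h2 := M.mul_mem (M.mul_mem (M.inv_mem hlM) (h1 (conj_mem_conj (g := l) hd))) hlM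
    have e : l⁻¹ * (l * d * l⁻¹) * l = d := by group
    rwa [e] at h2
  have hsw₁ : Sw V H R co (l * u * l⁻¹) i x 0 := by
    have h1 := p.sw.conj (hDH p.uD) hl hlτ
    rw [Equiv.Perm.one_apply, Function.update_self, Equiv.swap_apply_of_ne_of_ne hrs.ne hcx.symm,
      Equiv.swap_apply_of_ne_of_ne hz0.symm hc0.symm] at h1
    exact h1
  obtain ⟨b₁, f₁, p₁⟩ := h.s.exists_pk_of hD₁ hD₁H (h.c4 _ hD₁) (conj_mem_conj p.uD) hsw₁
  obtain ⟨i₁', x₁', y₁', f₁', q₁⟩ := h.exists_dk_of hD₁ hD₁H hD₁M p₁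
  obtain ⟨hf₁W, z₁, _, hz₁co, r₁, hr₁, hr₁s⟩ := h.letter hD₁ hD₁H q₁
  have hzz : z = z₁ := h.s.disj hr hr₁ hrs hr₁s
  subst hzz
  have hb : l * b * l⁻¹ = b₁ := by
    rcases p₁.q _ (conj_mem_conj (g := l) p.bD) (conj_mem_QQ hl p.bQ) with h1 | h1
    · exfalso
      apply p.b1
      have h2 : l⁻¹ * (l * b * l⁻¹) * l = 1 := by rw [h1]; group
      have e : l⁻¹ * (l * b * l⁻¹) * l = b := by group
      rwa [e] at h2
    · exact h1
  obtain ⟨v, hv⟩ := q.hit
  have h1 : b₁ • (l • v) + l • v = l • f' := by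
    rw [← hb, ← hv, smul_add, ← mul_smul, ← mul_smul]
    congr 2
    group
  -- evaluate at the letter `c`
  have h2 : co (l • f') i c = 1 := by
    have h3 := hlτ f' hfW i z
    rw [Equiv.Perm.one_apply, Function.update_self, Equiv.swap_apply_left, hzco] at h3
    rw [h3]
    unfold indi
    rw [if_pos ⟨rfl, Or.inr rfl⟩]
  have h3 : co f₁' i c = 0 := by
    rw [hz₁co]
    unfold indi
    rw [if_neg fun h4 => h4.2.elim hcx hcz]
  have h4 : co f₁ i c = 0 := by
    rw [p₁.co_f]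
    unfold indi
    rw [if_neg fun h4 => h4.2.elim hcx hc0]
  have h5 := q₁.sig (l • v)
  rw [h1] at h5
  rcases h5 with h5 | h5 | h5 | h5
  · rw [h5, h.s.K.zeroD] at h2
    exact zero_ne_one h2
  · rw [h5, h3] at h2
    exact zero_ne_one h2
  · rw [h5, h4] at h2
    exact zero_ne_one h2
  · rw [h5, h.s.K.add _ p₁.fW _ hf₁W, Pi.add_apply, Pi.add_apply, h3, h4, add_zero] at h2
    exact zero_ne_one h2

end side

end Cfsg.Agent.Omega.NO1.TH.K

end

section


/-!
# N1, the amalgam, `S_n` type: the pairs of `R`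

`PI.uniq` : the pairs of a block are disjoint; `exists_PI` : every letter `≠ 0` lies in a pair; `trans_PI` : `R` is
transitive on the pairs; `off_member` : the members `B ≤ R` act by disjoint transpositions of `R`;
`mem_D0`, `mem_WJ` : `D0` and `WJ` in coordinates.
-/

set_option autoImplicit false
set_option linter.unusedSectionVars false
set_option linter.dupNamespace false

namespace Cfsg.Agent.Omega.NO1.TH.K.SI

open Subgroup Cfsg.Agent.Omega.NO1.AB
open scoped Pointwise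

universe u

variable {Y : Type u} [Group Y] {V : Type u} [AddCommGroup V] [DistribMulAction Y V]

section pairs

variable {H R : Subgroup Y} {k m : ℕ} {co : V → Fin k → Fin (2 ^ m + 1) → ZMod 2} (K : KSym V H R k m co)
include K

omit K in
theorem tp_pow {k n : ℕ} (τ : Fin k → Equiv.Perm (Fin n)) (e : ℕ) (i : Fin k) : (τ ^ e) i = τ i ^ e := rfl

omit K in
theorem actS_pow {g : Y} (hg : g ∈ H) {τ : Fin k → Equiv.Perm (Fin (2 ^ m + 1))} (h : ActS V H R co g 1 τ) (e : ℕ) :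
    ActS V H R co (g ^ e) 1 (τ ^ e) := by
  induction e with
  | zero => rw [pow_zero, pow_zero]; exact actS_one
  | succ e ih => rw [pow_succ, pow_succ]; exact actS_mul1 hg ih h

/-- **the pairs of a block are disjoint** -/
theorem PI.uniq (hRH : R ≤ H) (hR2 : IsPGroup 2 R) {i : Fin k} {a b c : Fin (2 ^ m + 1)}
    (h1 : PI V H R co i a b) (h2 : PI V H R co i a c) : b = c := by
  by_contra hbc
  obtain ⟨hab, r, hr, hrt⟩ := h1
  obtain ⟨hac, s, hs, hst⟩ := h2
  have hx := actS_mul1 (hRH hs) hrt hst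
  obtain ⟨e, he⟩ := hR2 ⟨r * s, R.mul_mem hr hs⟩
  have he' : (r * s) ^ 2 ^ e = 1 := congrArg Subtype.val he
  have h3 := actS_pow (hRH (R.mul_mem hr hs)) hx (2 ^ e)
  rw [he'] at h3
  have h4 := (actS_unique K H.one_mem h3 actS_one).2
  have h5 : (Equiv.swap a b * Equiv.swap a c) ^ 2 ^ e = 1 := by
    have := congrFun h4 i
    rw [tp_pow, Pi.mul_apply, tp_self, tp_self] at this
    exact this
  have h6 := (Equiv.Perm.isThreeCycle_swap_mul_swap_same hab hac hbc).orderOf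
  have h7 := orderOf_dvd_of_pow_eq_one h5
  rw [h6] at h7
  have h8 := (Nat.Prime.dvd_of_dvd_pow Nat.prime_three h7)
  omega

/-- the image of a pair -/
theorem PI.map (hRH : R ≤ H) {r : Y} (hr : r ∈ R) {σ : Equiv.Perm (Fin k)} {τ : Fin k → Equiv.Perm (Fin (2 ^ m + 1))}
    (hrt : ActS V H R co r σ τ) {i : Fin k} {a b : Fin (2 ^ m + 1)} (h : PI V H R co i a b) :
    PI V H R co (σ i) (τ i a) (τ i b) := by
  obtain ⟨hab, s, hs, hst⟩ := h
  exact ⟨fun h => hab ((τ i).injective h), r * s * r⁻¹, R.mul_mem (R.mul_mem hr hs) (R.inv_mem hr),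
    actS_conj_tp (hRH hr) (hRH hs) hrt hst⟩

/-- the pairs contain all letters `≠ 0` -/
theorem exists_PI [Finite Y] (hRH : R ≤ H) (hS : ∃ P : Sylow 2 H, (P : Subgroup H) = R.subgroupOf H)
    (hne : ∃ i a b, PI V H R co i a b) (j : Fin k) {x : Fin (2 ^ m + 1)} (hx : x ≠ 0) : ∃ y, PI V H R co j x y := by
  obtain ⟨i, a, b, hp⟩ := hne
  obtain ⟨r, hr, σ, τ, h1, rfl, rfl⟩ := trans_pt K hRH hS (i := i) (j := j) (hp.ne0 K) hx
  exact ⟨_, hp.map K hRH hr h1⟩

/-- `R` is transitive on the pairs -/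
theorem trans_PI [Finite Y] (hRH : R ≤ H) (hR2 : IsPGroup 2 R)
    (hS : ∃ P : Sylow 2 H, (P : Subgroup H) = R.subgroupOf H) {i j : Fin k} {a b c d : Fin (2 ^ m + 1)}
    (h1 : PI V H R co i a b) (h2 : PI V H R co j c d) :
    ∃ r ∈ R, ∃ σ τ, ActS V H R co r σ τ ∧ σ i = j ∧ τ i a = c ∧ τ i b = d := by
  obtain ⟨r, hr, σ, τ, h3, rfl, rfl⟩ := trans_pt K hRH hS (i := i) (j := j) (h1.ne0 K) (h2.ne0 K)
  exact ⟨r, hr, σ, τ, h3, rfl, rfl, (h1.map K hRH hr h3).uniq K hRH hR2 h2⟩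

end pairs

section amal

variable [Finite Y] [Finite V] {U : Set (Subgroup Y)} {T : Sylow 2 Y} {M H R : Subgroup Y} {t : Y} {k m : ℕ}
  {co : V → Fin k → Fin (2 ^ m + 1) → ZMod 2} (amb : Amb V U T M) (a : Amal U T M H R t) (we : WE V U H R)
  (K : KSym V H R k m co)
include amb a we K

/-- the members `B ≤ R` act by disjoint transpositions of `R` -/
theorem off_member {B : Subgroup Y} (hB : B ∈ U) (hBR : B ≤ R) {b : Y} (hb : b ∈ B) :
    ∃ τ, ActS V H R co b 1 τ ∧ ∀ i x, τ i x ≠ x → ∃ c ∈ B, ActS V H R co c 1 (tp i x (τ i x)) := by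
  by_cases hBQ : B ≤ QQ H R
  · refine ⟨1, fun v hv i x => ?_, fun i x h => absurd rfl h⟩
    rw [Amal.QQ_fix a amb (hBQ hb) hv]; rfl
  · have h1 := a.exact' amb we hB (hBR.trans a.RH)
    rw [inf_comm (WW V H R), mul_comm (Nat.card ↥(WW V H R))] at h1
    obtain ⟨_, h3⟩ := K.off B hBR (Mem.elAb (amb.cls.mem B hB)) hBQ h1.le
    obtain ⟨τ, h4, h5⟩ := h3 b hb
    exact ⟨τ, h4, fun i x h => (h5 i x h).2⟩

/-- some member `B ≤ R` contains a transposition -/
theorem exists_tp : ∃ i x y, x ≠ y ∧ ∃ B ∈ U, B ≤ R ∧ ∃ c ∈ B, ActS V H R co c 1 (tp i x y) := by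
  obtain ⟨B, hB, hBR, hBQ⟩ := a.exists_not_QQ amb
  obtain ⟨b, hb, hbQ⟩ := SetLike.not_le_iff_exists.1 hBQ
  obtain ⟨τ, h1, h2⟩ := off_member amb a we K hB hBR hb
  by_contra hcon
  push Not at hcon
  apply hbQ
  have h3 : ∀ i x, τ i x = x := by
    intro i x
    by_contra h4
    obtain ⟨c, hc, h5⟩ := h2 i x h4
    exact hcon i x (τ i x) (Ne.symm h4) B hB hBR c hc h5
  rw [a.mem_QQ_iff amb (hBR hb)]
  intro w hw
  have h4 := smul_eq K (a.RH (hBR hb)) H.one_mem (by
    intro w hw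
    funext i x
    have h5 := h1 w hw i x
    rw [h3] at h5
    rw [one_smul]
    exact h5) w hw
  rw [h4, one_smul]

theorem ne_PI : ∃ i x y, PI V H R co i x y := by
  obtain ⟨i, x, y, hxy, B, _, hBR, c, hc, h1⟩ := exists_tp amb a we K
  exact ⟨i, x, y, hxy, c, hBR hc, h1⟩

theorem PI_uniq {i : Fin k} {x y z : Fin (2 ^ m + 1)} (h1 : PI V H R co i x y) (h2 : PI V H R co i x z) : y = z :=
  h1.uniq K a.RH a.R2 h2

theorem exists_PI' (j : Fin k) {x : Fin (2 ^ m + 1)} (hx : x ≠ 0) : ∃ y, PI V H R co j x y :=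
  exists_PI K a.RH a.exists_syl (ne_PI amb a we K) j hx

theorem trans_PI' {i j : Fin k} {x y z w : Fin (2 ^ m + 1)} (h1 : PI V H R co i x y) (h2 : PI V H R co j z w) :
    ∃ r ∈ R, ∃ σ τ, ActS V H R co r σ τ ∧ σ i = j ∧ τ i x = z ∧ τ i y = w :=
  trans_PI K a.RH a.R2 a.exists_syl h1 h2

/-- every transposition of `R` is induced by a member `≤ R` -/
theorem exists_member {i : Fin k} {x y : Fin (2 ^ m + 1)} (h : PI V H R co i x y) :
    ∃ B ∈ U, B ≤ R ∧ ∃ c ∈ B, ActS V H R co c 1 (tp i x y) := by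
  obtain ⟨j, z, w, hzw, B, hB, hBR, c, hc, h1⟩ := exists_tp amb a we K
  obtain ⟨r, hr, σ, τ, h2, rfl, rfl, rfl⟩ := trans_PI' amb a we K ⟨hzw, c, hBR hc, h1⟩ h
  refine ⟨MulAut.conj r • B, amb.cls.conj B hB r, ?_, r * c * r⁻¹, conj_mem_conj hc,
    actS_conj_tp (a.RH hr) (a.RH (hBR hc)) h2 h1⟩
  intro y hy
  rw [mem_conj] at hy
  have h3 := R.mul_mem (R.mul_mem hr (hBR hy)) (R.inv_mem hr)
  have e : r * (r⁻¹ * y * r) * r⁻¹ = y := by group
  rwa [e] at h3

/-- every transposition is induced by a member `≤ H` -/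
theorem exists_member_H (i : Fin k) {x y : Fin (2 ^ m + 1)} (hxy : x ≠ y) :
    ∃ B ∈ U, B ≤ H ∧ ∃ c ∈ B, ActS V H R co c 1 (tp i x y) := by
  obtain ⟨j, z, w, hzw, B, hB, hBR, c, hc, h1⟩ := exists_tp amb a we K
  obtain ⟨r, hr, σ, τ, h2, rfl⟩ := K.trans j i
  -- a permutation `τ z ↦ x`, `τ w ↦ y`
  obtain ⟨ρ, hρ1, hρ2⟩ : ∃ ρ : Equiv.Perm (Fin (2 ^ m + 1)), ρ (τ j z) = x ∧ ρ (τ j w) = y := by
    set u := Equiv.swap (τ j z) x (τ j w) with hu
    have hux : u ≠ x := by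
      intro h6
      have h7 : Equiv.swap (τ j z) x (τ j w) = Equiv.swap (τ j z) x (τ j z) := by
        rw [Equiv.swap_apply_left]; exact h6
      exact hzw ((τ j).injective ((Equiv.swap (τ j z) x).injective h7)).symm
    refine ⟨Equiv.swap u y * Equiv.swap (τ j z) x, ?_, ?_⟩
    · rw [Equiv.Perm.mul_apply, Equiv.swap_apply_left, Equiv.swap_apply_of_ne_of_ne hux.symm hxy]
    · rw [Equiv.Perm.mul_apply, ← hu, Equiv.swap_apply_left]
  obtain ⟨g, hg, hgt, _⟩ := K.lift fun _ => ρ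
  have h3 := actS_mul K (a.RH hr) hgt h2
  have hgr : g * r ∈ H := H.mul_mem hg (a.RH hr)
  have h4 := actS_conj_tp hgr (a.RH (hBR hc)) h3 h1
  refine ⟨MulAut.conj (g * r) • B, amb.cls.conj B hB _, ?_, _, conj_mem_conj hc, ?_⟩
  · intro y hy
    rw [mem_conj] at hy
    have h3 := H.mul_mem (H.mul_mem hgr (a.RH (hBR hy))) (H.inv_mem hgr)
    have e : g * r * ((g * r)⁻¹ * y * (g * r)) * (g * r)⁻¹ = y := by group
    rwa [e] at h3
  · rw [Equiv.Perm.mul_apply, Equiv.Perm.mul_apply, hρ1, Equiv.Perm.mul_apply, hρ2] at h4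
    exact h4

/-- a vector fixed by a transposition is constant on its letters -/
theorem const_of_fix {g : Y} {i : Fin k} {x y : Fin (2 ^ m + 1)} (hgt : ActS V H R co g 1 (tp i x y)) {w : V}
    (hw : w ∈ WW V H R) (h : g • w = w) : co w i x = co w i y := by
  have h1 := hgt w hw i x
  rw [h, tp_self, Equiv.swap_apply_left] at h1
  exact h1.symm

/-- **`D0` in coordinates** -/
theorem mem_D0 {w : V} : w ∈ D0 V U H R ↔ w ∈ WW V H R ∧ co w = 0 := by
  constructor
  · rintro ⟨hw, h1⟩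
    refine ⟨hw, ?_⟩
    have h2 : ∀ i x, co w i x = co w i 0 := by
      intro i x
      by_cases hx : x = 0
      · rw [hx]
      obtain ⟨B, hB, hBH, c, hc, h3⟩ := exists_member_H amb a we K i hx
      exact const_of_fix amb a we K h3 hw (h1 B hB hBH c hc)
    have h3 : ∀ i, co w i 0 = 0 := by
      intro i
      have h4 := K.even w hw i
      rw [Finset.sum_congr rfl fun x _ => h2 i x, Finset.sum_const, Finset.card_univ, Fintype.card_fin,
        nsmul_eq_mul] at h4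
      have h5 : ((2 ^ m + 1 : ℕ) : ZMod 2) = 1 := by
        have h6 : (2 : ZMod 2) = 0 := by decide
        rw [Nat.cast_add, Nat.cast_pow, Nat.cast_ofNat, h6, zero_pow (by have := K.two_le; omega), Nat.cast_one,
          zero_add]
      rwa [h5, one_mul] at h4
    funext i x
    rw [h2, h3]; rfl
  · rintro ⟨hw, h0⟩
    refine ⟨hw, fun B hB hBH b hb => ?_⟩
    obtain ⟨x, hx, hxU, hxR⟩ := a.exists_conj amb hB hBH
    obtain ⟨τ, h1, _⟩ := off_member amb a we K hxU hxR (conj_mem_conj hb)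
    have h2 := trD_of K (a.RH (hxR (conj_mem_conj hb))) h1 (x • w) (smul_mem_WW hx hw) (by
      obtain ⟨σ, τ, h3⟩ := K.perm x hx
      funext i y
      have h4 := h3 w hw (σ⁻¹ i) ((τ (σ⁻¹ i))⁻¹ y)
      rw [papp, papp, h0] at h4
      exact h4)
    rw [mul_smul, mul_smul, inv_smul_smul] at h2
    exact (smul_left_cancel_iff x).1 h2

/-- the vectors with zero coordinates are fixed by the elements of `R` acting by `(1, τ)`... and by members -/
theorem fix_of_D0 {w : V} (hw : w ∈ WW V H R) (h0 : co w = 0) {B : Subgroup Y} (hB : B ∈ U) (hBH : B ≤ H) {b : Y}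
    (hb : b ∈ B) : b • w = w := ((mem_D0 amb a we K).2 ⟨hw, h0⟩).2 B hB hBH b hb

end amal

end Cfsg.Agent.Omega.NO1.TH.K.SI

end

section


/-!
# N1, the amalgam, `S_n` type: the factors of `W` (`LFac`)

`Ix` : the pairs of `R`; `Pp` : the elements of `R` acting trivially or as the transposition of the pair;
`Ps` : the vectors of `W` which are constant on all other pairs; `mem_WJ` : `WJ` in coordinates;
`lfac` : `LFac`.
-/

set_option autoImplicit false
set_option linter.unusedSectionVars false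
set_option linter.dupNamespace false

namespace Cfsg.Agent.Omega.NO1.TH.K.SI

open Subgroup Cfsg.Agent.Omega.NO1.AB
open scoped Pointwise

universe u

variable {Y : Type u} [Group Y] {V : Type u} [AddCommGroup V] [DistribMulAction Y V]

section basic

variable {H R : Subgroup Y} {k m : ℕ} {co : V → Fin k → Fin (2 ^ m + 1) → ZMod 2}

/-- the pairs of `R` -/
abbrev Ix (V : Type u) [AddCommGroup V] [DistribMulAction Y V] (H R : Subgroup Y) {k n : ℕ}
    (co : V → Fin k → Fin n → ZMod 2) : Type :=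
  {p : Fin k × Fin n × Fin n // p.2.1 < p.2.2 ∧ PI V H R co p.1 p.2.1 p.2.2}

/-- the elements of `R` which act trivially or as the transposition `(a b)` of the block `i` -/
def Pp (V : Type u) [AddCommGroup V] [DistribMulAction Y V] {H R : Subgroup Y} {k n : ℕ}
    (co : V → Fin k → Fin n → ZMod 2) (hRH : R ≤ H) (i : Fin k) (a b : Fin n) : Subgroup Y where
  carrier := {r | r ∈ R ∧ (ActS V H R co r 1 1 ∨ ActS V H R co r 1 (tp i a b))}
  one_mem' := ⟨R.one_mem, Or.inl fun v _ i x => by rw [one_smul]; rfl⟩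
  mul_mem' := by
    have key : ∀ {g h : Y} {τ τ' : Fin k → Equiv.Perm (Fin n)}, h ∈ H → ActS V H R co g 1 τ → ActS V H R co h 1 τ' →
        ActS V H R co (g * h) 1 (τ * τ') := by
      intro g h τ τ' hh h1 h2 v hv i x
      rw [mul_smul]
      exact (h1 _ (smul_mem_WW hh hv) i (τ' i x)).trans (h2 v hv i x)
    rintro r s ⟨hr, h1⟩ ⟨hs, h2⟩
    refine ⟨R.mul_mem hr hs, ?_⟩
    rcases h1 with h1 | h1 <;> rcases h2 with h2 | h2
    · left
      have := key (hRH hs) h1 h2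
      rwa [one_mul] at this
    · right
      have := key (hRH hs) h1 h2
      rwa [one_mul] at this
    · right
      have := key (hRH hs) h1 h2
      rwa [mul_one] at this
    · left
      have := key (hRH hs) h1 h2
      rwa [tp_mul_self] at this
  inv_mem' := by
    rintro r ⟨hr, h1⟩
    refine ⟨R.inv_mem hr, ?_⟩
    have hr' := H.inv_mem (hRH hr)
    rcases h1 with h1 | h1
    · left
      intro v hv i x
      have h3 := h1 _ (smul_mem_WW hr' hv) i x
      rw [smul_inv_smul] at h3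
      exact h3.symm
    · right
      intro v hv j x
      have h3 := h1 _ (smul_mem_WW hr' hv) j (tp i a b j x)
      rw [smul_inv_smul] at h3
      have e : tp i a b j (tp i a b j x) = x := by
        have := congrFun (tp_mul_self i a b) j
        rw [Pi.mul_apply] at this
        exact Equiv.ext_iff.1 this x
      rw [e] at h3
      exact h3.symm

theorem mem_Pp {hRH : R ≤ H} {i : Fin k} {a b : Fin (2 ^ m + 1)} {r : Y} :
    r ∈ Pp V co hRH i a b ↔ r ∈ R ∧ (ActS V H R co r 1 1 ∨ ActS V H R co r 1 (tp i a b)) := Iff.rfl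

variable (K : KSym V H R k m co)

/-- the vectors which are constant on the pairs different from `{a, b}` -/
def Ps (K : KSym V H R k m co) (i : Fin k) (a b : Fin (2 ^ m + 1)) : AddSubgroup V where
  carrier := {w | w ∈ WW V H R ∧ ∀ j c d, PI V H R co j c d → ¬ (j = i ∧ (c = a ∨ c = b)) → co w j c = co w j d}
  add_mem' := by
    rintro v w ⟨hv, h1⟩ ⟨hw, h2⟩
    refine ⟨add_mem hv hw, fun j c d h3 h4 => ?_⟩
    rw [K.add v hv w hw]
    simp only [Pi.add_apply]
    rw [h1 j c d h3 h4, h2 j c d h3 h4]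
  zero_mem' := ⟨zero_mem _, fun j c d _ _ => by rw [co_zero K]; rfl⟩
  neg_mem' := by
    rintro v ⟨hv, h1⟩
    refine ⟨neg_mem hv, fun j c d h3 h4 => ?_⟩
    have h5 : co (-v) = -co v := (coH K).map_neg ⟨v, hv⟩
    rw [h5]
    simp only [Pi.neg_apply]
    rw [h1 j c d h3 h4]

theorem mem_Ps {i : Fin k} {a b : Fin (2 ^ m + 1)} {w : V} : w ∈ Ps K i a b ↔
    w ∈ WW V H R ∧ ∀ j c d, PI V H R co j c d → ¬ (j = i ∧ (c = a ∨ c = b)) → co w j c = co w j d := Iff.rfl

omit K in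
theorem exists_ix {i : Fin k} {x y : Fin (2 ^ m + 1)} (h : PI V H R co i x y) :
    ∃ p : Ix V H R co, p.1.1 = i ∧ ((p.1.2.1 = x ∧ p.1.2.2 = y) ∨ (p.1.2.1 = y ∧ p.1.2.2 = x)) := by
  rcases lt_or_gt_of_ne h.1 with h1 | h1
  · exact ⟨⟨(i, x, y), h1, h⟩, rfl, Or.inl ⟨rfl, rfl⟩⟩
  · exact ⟨⟨(i, y, x), h1, h.symm⟩, rfl, Or.inr ⟨rfl, rfl⟩⟩

include K

omit K in
theorem actS_inv {g : Y} (hg : g ∈ H) {σ : Equiv.Perm (Fin k)} {τ : Fin k → Equiv.Perm (Fin (2 ^ m + 1))}
    (h1 : ActS V H R co g σ τ) : ActS V H R co g⁻¹ σ⁻¹ fun i => (τ (σ⁻¹ i))⁻¹ := by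
  intro v hv i x
  have h3 := h1 _ (smul_mem_WW (H.inv_mem hg) hv) (σ⁻¹ i) ((τ (σ⁻¹ i))⁻¹ x)
  rw [smul_inv_smul, papp, papp] at h3
  exact h3.symm

theorem fix_of_one {g : Y} (hg : g ∈ H) (h : ActS V H R co g 1 1) {w : V} (hw : w ∈ WW V H R) : g • w = w := by
  have h1 := smul_eq_of_actS K hg H.one_mem h actS_one w hw
  rwa [one_smul] at h1

/-- elements of `Pp` fix the vectors which are constant on the pair -/
theorem fix_Pp (two : ∀ v : V, v + v = 0) {hRH : R ≤ H} {i : Fin k} {a b : Fin (2 ^ m + 1)} (hab : a ≠ b) {r : Y}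
    (hr : r ∈ Pp V co hRH i a b) {w : V} (hw : w ∈ WW V H R) (hc : co w i a = co w i b) : r • w = w := by
  rcases hr.2 with h1 | h1
  · exact fix_of_one K (hRH hr.1) h1 hw
  · exact fix_of_const K two (hRH hr.1) hab h1 hw hc

/-- the transport of `Pp` -/
theorem map_Pp {hRH : R ≤ H} {i : Fin k} {a b : Fin (2 ^ m + 1)} {g r : Y} (hr : r ∈ R) {σ : Equiv.Perm (Fin k)}
    {τ : Fin k → Equiv.Perm (Fin (2 ^ m + 1))} (hrt : ActS V H R co r σ τ) (hg : g ∈ Pp V co hRH i a b) :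
    r * g * r⁻¹ ∈ Pp V co hRH (σ i) (τ i a) (τ i b) := by
  refine ⟨R.mul_mem (R.mul_mem hr hg.1) (R.inv_mem hr), ?_⟩
  rcases hg.2 with h1 | h1
  · left
    intro v hv j x
    have h2 := fix_of_one K (hRH hg.1) h1 (smul_mem_WW (H.inv_mem (hRH hr)) hv)
    rw [mul_smul, mul_smul, h2, smul_inv_smul]
    rfl
  · right
    exact actS_conj_tp (hRH hr) (hRH hg.1) hrt h1

/-- the transport of `Ps` -/
theorem map_Ps (hRH : R ≤ H) {i : Fin k} {a b : Fin (2 ^ m + 1)} {r : Y} (hr : r ∈ R) {σ : Equiv.Perm (Fin k)}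
    {τ : Fin k → Equiv.Perm (Fin (2 ^ m + 1))} (hrt : ActS V H R co r σ τ) {w : V} (hw : w ∈ Ps K i a b) :
    r • w ∈ Ps K (σ i) (τ i a) (τ i b) := by
  refine ⟨smul_mem_WW (hRH hr) hw.1, fun j c d h1 h2 => ?_⟩
  obtain ⟨j', rfl⟩ : ∃ j', j = σ j' := ⟨σ⁻¹ j, by rw [papp]⟩
  obtain ⟨c', rfl⟩ : ∃ y', c = τ j' y' := ⟨(τ j')⁻¹ c, by rw [papp]⟩
  obtain ⟨d', rfl⟩ : ∃ y', d = τ j' y' := ⟨(τ j')⁻¹ d, by rw [papp]⟩
  rw [hrt w hw.1, hrt w hw.1]
  have h3 := h1.map K hRH (R.inv_mem hr) (actS_inv (hRH hr) hrt)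
  rw [papp', papp', papp'] at h3
  apply hw.2 j' c' d' h3
  rintro ⟨rfl, h4⟩
  apply h2
  refine ⟨rfl, ?_⟩
  rcases h4 with rfl | rfl
  · exact Or.inl rfl
  · exact Or.inr rfl

omit K in
theorem dl_const (huniq : ∀ {i : Fin k} {x y z : Fin (2 ^ m + 1)}, PI V H R co i x y → PI V H R co i x z → y = z)
    {i j : Fin k} {x y c d : Fin (2 ^ m + 1)} (h1 : PI V H R co i x y) (h2 : PI V H R co j c d) :
    dl i x y j c = dl i x y j d := by
  simp only [dl_apply]
  by_cases hj : j = i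
  · subst hj
    rw [if_pos rfl, if_pos rfl]
    by_cases hcx : c = x
    · subst hcx
      have h3 := huniq h1 h2
      subst h3
      rw [if_pos rfl, if_neg h1.1, if_neg h1.1.symm, if_pos rfl]; decide
    by_cases hcy : c = y
    · subst hcy
      have h3 := huniq h1.symm h2
      subst h3
      rw [if_pos rfl, if_neg h1.1, if_neg h1.1.symm, if_pos rfl]; decide
    have hdx : d ≠ x := by
      rintro rfl
      exact hcy (huniq h2.symm h1)
    have hdy : d ≠ y := by
      rintro rfl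
      exact hcx (huniq h2.symm h1.symm)
    rw [if_neg hcx, if_neg hcy, if_neg hdx, if_neg hdy]
  · rw [if_neg hj, if_neg hj]

/-- **products of transpositions** -/
theorem mem_sup_of (huniq : ∀ {i : Fin k} {x y z : Fin (2 ^ m + 1)}, PI V H R co i x y → PI V H R co i x z → y = z)
    {hRH : R ≤ H} {Δ : Set (Ix V H R co)} (hΔ : Δ.Nonempty) :
    ∀ (N : ℕ) {r : Y} (_ : r ∈ R) {τ : Fin k → Equiv.Perm (Fin (2 ^ m + 1))} (_ : ActS V H R co r 1 τ)
      (_ : Nat.card {q : Fin k × Fin (2 ^ m + 1) // τ q.1 q.2 ≠ q.2} = N)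
      (_ : ∀ i x, τ i x ≠ x → ∃ p ∈ Δ, p.1.1 = i ∧
        ((p.1.2.1 = x ∧ p.1.2.2 = τ i x) ∨ (p.1.2.1 = τ i x ∧ p.1.2.2 = x))),
      r ∈ ⨆ p ∈ Δ, Pp V co hRH p.1.1 p.1.2.1 p.1.2.2 := by
  intro N
  induction N using Nat.strong_induction_on with
  | _ N ih =>
    intro r hr τ hrt hN hτ
    have hPI : ∀ i x, τ i x ≠ x → PI V H R co i x (τ i x) := by
      intro i x hne
      obtain ⟨p, _, h1, h2⟩ := hτ i x hne
      rcases h2 with ⟨h2, h3⟩ | ⟨h2, h3⟩
      · have := p.2.2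
        rw [h1, h2, h3] at this
        exact this
      · have := p.2.2
        rw [h1, h2, h3] at this
        exact this.symm
    by_cases hex : ∃ i x, τ i x ≠ x
    · obtain ⟨i, x, hne⟩ := hex
      obtain ⟨p, hpΔ, h1, h2⟩ := hτ i x hne
      set y := τ i x with hy
      have hp := hPI i x hne
      rw [← hy] at hp
      obtain ⟨_, s, hs, hst⟩ := id hp
      have hsP : s ∈ Pp V co hRH p.1.1 p.1.2.1 p.1.2.2 := by
        refine ⟨hs, Or.inr ?_⟩
        rcases h2 with ⟨h2, h3⟩ | ⟨h2, h3⟩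
        · rw [h1, h2, h3]; exact hst
        · rw [h1, h2, h3, tp_comm]; exact hst
      have hyx : τ i y = x := by
        have h3 : τ i y ≠ y := by
          intro h4
          exact hne ((τ i).injective h4)
        exact huniq (hPI i y h3) hp.symm
      have hτ' : ∀ j z, (tp i x y * τ) j z = if j = i ∧ (z = x ∨ z = y) then z else τ j z := by
        intro j z
        rw [Pi.mul_apply, Equiv.Perm.mul_apply]
        by_cases hj : j = i
        · subst hj
          rw [tp_self]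
          by_cases hzx : z = x
          · subst hzx
            rw [if_pos ⟨rfl, Or.inl rfl⟩, ← hy, Equiv.swap_apply_right]
          by_cases hzy : z = y
          · rw [hzy, if_pos ⟨rfl, Or.inr rfl⟩, hyx, Equiv.swap_apply_left]
          rw [if_neg (by rintro ⟨_, h | h⟩ <;> contradiction), Equiv.swap_apply_of_ne_of_ne]
          · intro h3
            apply hzy
            rw [← hyx] at h3
            exact (τ j).injective h3
          · intro h3
            exact hzx ((τ j).injective (h3.trans hy))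
        · rw [tp_of_ne hj, if_neg (fun h => hj h.1)]; rfl
      have h4 : s * r ∈ ⨆ p ∈ Δ, Pp V co hRH p.1.1 p.1.2.1 p.1.2.2 := by
        refine ih (Nat.card {q : Fin k × Fin (2 ^ m + 1) // (tp i x y * τ) q.1 q.2 ≠ q.2}) ?_ (R.mul_mem hs hr)
          (actS_mul1 (hRH hr) hst hrt) rfl ?_
        · rw [← hN]
          have hsub : {q : Fin k × Fin (2 ^ m + 1) | (tp i x y * τ) q.1 q.2 ≠ q.2} ⊂
              {q : Fin k × Fin (2 ^ m + 1) | τ q.1 q.2 ≠ q.2} := by
            rw [Set.ssubset_iff_of_subset]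
            · refine ⟨(i, x), hne, ?_⟩
              rw [Set.mem_ofPred_eq, hτ', if_pos ⟨rfl, Or.inl rfl⟩]
              exact fun h => h rfl
            · rintro ⟨j, z⟩ h5
              rw [Set.mem_ofPred_eq, hτ'] at h5
              by_cases h6 : j = i ∧ (z = x ∨ z = y)
              · rw [if_pos h6] at h5
                exact absurd rfl h5
              · rw [if_neg h6] at h5
                exact h5
          exact Set.ncard_lt_ncard hsub (Set.toFinite _)
        · intro j z h5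
          rw [hτ'] at h5 ⊢
          by_cases h6 : j = i ∧ (z = x ∨ z = y)
          · rw [if_pos h6] at h5
            exact absurd rfl h5
          · rw [if_neg h6] at h5 ⊢
            exact hτ j z h5
      have h5 : s ∈ ⨆ p ∈ Δ, Pp V co hRH p.1.1 p.1.2.1 p.1.2.2 :=
        (le_iSup₂ (f := fun (p : Ix V H R co) (_ : p ∈ Δ) => Pp V co hRH p.1.1 p.1.2.1 p.1.2.2) p hpΔ) hsP
      have h6 := mul_mem (inv_mem h5) h4
      rwa [inv_mul_cancel_left] at h6
    · push Not at hex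
      obtain ⟨p, hp⟩ := hΔ
      apply (le_iSup₂ (f := fun (p : Ix V H R co) (_ : p ∈ Δ) => Pp V co hRH p.1.1 p.1.2.1 p.1.2.2) p hp)
      refine ⟨hr, Or.inl ?_⟩
      intro v hv i x
      have h1 := hrt v hv i x
      rw [hex] at h1
      exact h1

end basic

section amal

variable [Finite Y] [Finite V] {U : Set (Subgroup Y)} {T : Sylow 2 Y} {M H R : Subgroup Y} {t : Y} {k m : ℕ}
  {co : V → Fin k → Fin (2 ^ m + 1) → ZMod 2} (amb : Amb V U T M) (a : Amal U T M H R t) (we : WE V U H R)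
  (K : KSym V H R k m co)
include amb a we K

theorem sup_univ_le {ι : Type} {P : ι → Subgroup Y} : (⨆ p ∈ (Set.univ : Set ι), P p) ≤ ⨆ p, P p :=
  iSup₂_le fun p _ => le_iSup P p

/-- **`WJ` in coordinates** -/
theorem mem_WJ {w : V} : w ∈ WJ V U H R ↔ w ∈ WW V H R ∧ ∀ i x y, PI V H R co i x y → co w i x = co w i y := by
  constructor
  · rintro ⟨hw, h1⟩
    refine ⟨hw, fun i x y hp => ?_⟩
    obtain ⟨B, hB, hBR, c, hc, h2⟩ := exists_member amb a we K hp
    exact const_of_fix amb a we K h2 hw (h1 B hB hBR c hc)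
  · rintro ⟨hw, h1⟩
    refine ⟨hw, fun B hB hBR b hb => ?_⟩
    obtain ⟨τ, h2, h3⟩ := off_member amb a we K hB hBR hb
    obtain ⟨i₀, x₀, y₀, h0⟩ := ne_PI amb a we K
    obtain ⟨p₀, _⟩ := exists_ix h0
    have h4 : b ∈ ⨆ p ∈ (Set.univ : Set (Ix V H R co)), Pp V co a.RH p.1.1 p.1.2.1 p.1.2.2 := by
      refine mem_sup_of K (PI_uniq amb a we K) (Δ := Set.univ) ⟨p₀, Set.mem_univ p₀⟩ _ (hBR hb) h2 rfl fun i x hne => ?_
      obtain ⟨c, hc, h5⟩ := h3 i x hne
      obtain ⟨p, hp1, hp2⟩ := exists_ix (co := co) ⟨Ne.symm hne, c, hBR hc, h5⟩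
      exact ⟨p, Set.mem_univ p, hp1, hp2⟩
    have h5 : (⨆ p ∈ (Set.univ : Set (Ix V H R co)), Pp V co a.RH p.1.1 p.1.2.1 p.1.2.2) ≤
        MulAction.stabilizer Y w := by
      refine iSup₂_le fun p _ r hr => ?_
      exact fix_Pp K amb.two p.2.1.ne hr hw (h1 _ _ _ p.2.2)
    exact h5 h4

/-- the elements of `R` fixing `WJ` act by disjoint transpositions of `R` -/
theorem tau_of_fix {r : Y} (hr : r ∈ R) (h : ∀ x ∈ WJ V U H R, r • x = x) :
    ∃ τ, ActS V H R co r 1 τ ∧ ∀ i x, τ i x ≠ x → PI V H R co i x (τ i x) := by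
  obtain ⟨σ, τ, h1⟩ := K.perm r (a.RH hr)
  have h2 : ∀ i x y, PI V H R co i x y → σ i = i ∧ (τ i x = x ∨ τ i x = y) := by
    intro i x y hp
    obtain ⟨v, hv, hco⟩ := exists_dl K i x y
    have h3 : v ∈ WJ V U H R := by
      refine (mem_WJ amb a we K).2 ⟨hv, fun j c d hcd => ?_⟩
      rw [hco]
      exact dl_const (PI_uniq amb a we K) hp hcd
    have h4 := h1 v hv i x
    rw [h v h3, hco, dl_apply, dl_apply, if_pos rfl, if_pos rfl, if_neg hp.1, add_zero] at h4
    by_cases h5 : σ i = i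
    · refine ⟨h5, ?_⟩
      rw [if_pos h5] at h4
      by_contra h6
      rw [not_or] at h6
      rw [if_neg h6.1, if_neg h6.2, add_zero] at h4
      exact zero_ne_one h4
    · rw [if_neg h5] at h4
      exact absurd h4 zero_ne_one
  have h10 : (1 : Fin (2 ^ m + 1)) ≠ 0 := by
    have h3 := five_le K
    intro h4
    have h5 := congrArg Fin.val h4
    have h6 : ((1 : Fin (2 ^ m + 1)) : ℕ) = 1 % (2 ^ m + 1) := rfl
    rw [h6, Nat.mod_eq_of_lt (by omega)] at h5
    exact one_ne_zero h5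
  have hσ : σ = 1 := by
    apply Equiv.ext
    intro i
    obtain ⟨y, hy⟩ := exists_PI' amb a we K i h10
    exact (h2 i _ y hy).1
  subst hσ
  refine ⟨τ, h1, fun i x hne => ?_⟩
  have hx : x ≠ 0 := by
    rintro rfl
    exact hne (K.fix0 r hr _ τ h1 i)
  obtain ⟨y, hy⟩ := exists_PI' amb a we K i hx
  rcases (h2 i x y hy).2 with h3 | h3
  · exact absurd h3 hne
  · rwa [h3]

/-- a vector is constant on all pairs if it is constant on the sorted pairs -/
theorem const_iff {y : Fin k → Fin (2 ^ m + 1) → ZMod 2}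
    (h : ∀ p : Ix V H R co, y p.1.1 p.1.2.1 = y p.1.1 p.1.2.2) {i : Fin k} {c d : Fin (2 ^ m + 1)}
    (hp : PI V H R co i c d) : y i c = y i d := by
  obtain ⟨p, rfl, h2⟩ := exists_ix hp
  rcases h2 with ⟨rfl, rfl⟩ | ⟨rfl, rfl⟩
  · exact h p
  · exact (h p).symm

theorem ix_ext {p q : Ix V H R co} (h1 : p.1.1 = q.1.1) (h2 : p.1.2.1 = q.1.2.1) : p = q := by
  have h3 : p.1.2.2 = q.1.2.2 := by
    have h4 := p.2.2
    rw [h1, h2] at h4
    exact PI_uniq amb a we K h4 q.2.2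
  exact Subtype.ext (Prod.ext h1 (Prod.ext h2 h3))

/-- a smaller letter is not a larger letter -/
theorem ix_ne (p q : Ix V H R co) (h1 : p.1.1 = q.1.1) : p.1.2.1 ≠ q.1.2.2 := by
  intro h2
  have h3 := p.2.2
  rw [h1, h2] at h3
  have h4 := PI_uniq amb a we K h3 q.2.2.symm
  have h5 := p.2.1
  rw [h2, h4] at h5
  exact absurd h5 (not_lt.2 q.2.1.le)

/-- the sum of the vectors `{a_p, 0}` over a set of pairs -/
theorem exists_half (f : Ix V H R co → Prop) : ∃ s ∈ WW V H R,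
    s ∈ (⨆ p : Ix V H R co, Ps K p.1.1 p.1.2.1 p.1.2.2) ∧ ∀ p : Ix V H R co,
      co s p.1.1 p.1.2.2 = 0 ∧ (f p → co s p.1.1 p.1.2.1 = 1) ∧ (¬ f p → co s p.1.1 p.1.2.1 = 0) := by
  classical
  have : Fintype (Ix V H R co) := Fintype.ofFinite _
  have h1 : ∀ p : Ix V H R co, ∃ v : WW V H R, coH K v = if f p then dl p.1.1 p.1.2.1 0 else 0 := by
    intro p
    by_cases hp : f p
    · obtain ⟨v, hv, hco⟩ := exists_dl K p.1.1 p.1.2.1 0
      exact ⟨⟨v, hv⟩, by rw [if_pos hp]; exact hco⟩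
    · exact ⟨0, by rw [map_zero, if_neg hp]⟩
  choose v hv using h1
  have h0 : ∀ p : Ix V H R co, p.1.2.1 ≠ 0 := fun p => p.2.2.ne0 K
  have h0' : ∀ p : Ix V H R co, p.1.2.2 ≠ 0 := fun p => p.2.2.symm.ne0 K
  -- values
  have val1 : ∀ p q : Ix V H R co, p ≠ q → coH K (v p) q.1.1 q.1.2.1 = 0 := by
    intro p q hpq
    rw [hv]
    by_cases hp : f p
    · rw [if_pos hp, dl_apply]
      by_cases h2 : q.1.1 = p.1.1
      · rw [if_pos h2, if_neg (fun h3 => hpq (ix_ext amb a we K h2.symm h3.symm)), if_neg (h0 q), add_zero]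
      · rw [if_neg h2]
    · rw [if_neg hp]; rfl
  have val2 : ∀ p q : Ix V H R co, coH K (v p) q.1.1 q.1.2.2 = 0 := by
    intro p q
    rw [hv]
    by_cases hp : f p
    · rw [if_pos hp, dl_apply]
      by_cases h2 : q.1.1 = p.1.1
      · rw [if_pos h2, if_neg (fun h3 => ix_ne amb a we K p q h2.symm h3.symm), if_neg (h0' q), add_zero]
      · rw [if_neg h2]
    · rw [if_neg hp]; rfl
  have val3 : ∀ p : Ix V H R co, coH K (v p) p.1.1 p.1.2.1 = if f p then 1 else 0 := by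
    intro p
    rw [hv]
    by_cases hp : f p
    · rw [if_pos hp, if_pos hp, dl_apply, if_pos rfl, if_pos rfl, if_neg (h0 p), add_zero]
    · rw [if_neg hp, if_neg hp]; rfl
  have hvP : ∀ p, ((v p : WW V H R) : V) ∈ Ps K p.1.1 p.1.2.1 p.1.2.2 := by
    intro p
    refine ⟨(v p).2, ?_⟩
    intro j c d hcd hne
    obtain ⟨q, rfl, h2⟩ := exists_ix hcd
    have hpq : p ≠ q := by
      rintro rfl
      apply hne
      refine ⟨rfl, ?_⟩
      rcases h2 with ⟨h2, _⟩ | ⟨_, h2⟩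
      · exact Or.inl h2.symm
      · exact Or.inr h2.symm
    have h3 := val1 p q hpq
    have h4 := val2 p q
    change co (v p) q.1.1 c = co (v p) q.1.1 d
    change co (v p) q.1.1 q.1.2.1 = 0 at h3
    change co (v p) q.1.1 q.1.2.2 = 0 at h4
    rcases h2 with ⟨h2, h5⟩ | ⟨h2, h5⟩
    · rw [← h2, ← h5, h3, h4]
    · rw [← h2, ← h5, h3, h4]
  refine ⟨((∑ p, v p : WW V H R) : V), (∑ p, v p : WW V H R).2, ?_, fun q => ?_⟩
  · rw [AddSubgroup.val_finsetSum]
    exact AddSubgroup.sum_mem _ fun p _ => (le_iSup (fun p : Ix V H R co => Ps K p.1.1 p.1.2.1 p.1.2.2) p) (hvP p)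
  · have e : co ((∑ p, v p : WW V H R) : V) = ∑ p, coH K (v p) := by
      change coH K (∑ p, v p) = _
      rw [map_sum]
    rw [e]
    simp only [Finset.sum_apply]
    refine ⟨Finset.sum_eq_zero fun p _ => val2 p q, fun hq => ?_, fun hq => ?_⟩
    · rw [Finset.sum_eq_single q (fun p _ hp => val1 p q hp) (fun h => absurd (Finset.mem_univ _) h), val3, if_pos hq]
    · rw [Finset.sum_eq_single q (fun p _ hp => val1 p q hp) (fun h => absurd (Finset.mem_univ _) h), val3, if_neg hq]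

/-- **the factors of `W`** -/
theorem lfac : LFac V U H R (fun p : Ix V H R co => Pp V co a.RH p.1.1 p.1.2.1 p.1.2.2)
    (fun p : Ix V H R co => Ps K p.1.1 p.1.2.1 p.1.2.2) where
  le := fun p r hr => hr.1
  fixJ := fun p r hr x hx => by
    obtain ⟨h1, h2⟩ := (mem_WJ amb a we K).1 hx
    exact fix_Pp K amb.two p.2.1.ne hr h1 (h2 _ _ _ p.2.2)
  ofJ := fun r hr h => by
    obtain ⟨τ, h1, h2⟩ := tau_of_fix amb a we K hr h
    obtain ⟨i₀, x₀, y₀, h0⟩ := ne_PI amb a we K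
    obtain ⟨p₀, _⟩ := exists_ix h0
    have h4 : r ∈ ⨆ p ∈ (Set.univ : Set (Ix V H R co)), Pp V co a.RH p.1.1 p.1.2.1 p.1.2.2 := by
      refine mem_sup_of K (PI_uniq amb a we K) (Δ := Set.univ) ⟨p₀, Set.mem_univ p₀⟩ _ hr h1 rfl fun i x hne => ?_
      obtain ⟨p, hp1, hp2⟩ := exists_ix (h2 i x hne)
      exact ⟨p, Set.mem_univ p, hp1, hp2⟩
    exact (iSup₂_le fun p _ => le_iSup (fun p : Ix V H R co => Pp V co a.RH p.1.1 p.1.2.1 p.1.2.2) p :
      (⨆ p ∈ (Set.univ : Set (Ix V H R co)), Pp V co a.RH p.1.1 p.1.2.1 p.1.2.2) ≤ _) h4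
  Ψle := fun p w hw => hw.1
  sup := fun w hw => by
    obtain ⟨s, hs, hsP, hval⟩ := exists_half amb a we K fun p : Ix V H R co => co w p.1.1 p.1.2.1 ≠ co w p.1.1 p.1.2.2
    have h1 : w + s ∈ WJ V U H R := by
      refine (mem_WJ amb a we K).2 ⟨add_mem hw hs, fun i x y hp => ?_⟩
      refine const_iff amb a we K ?_ hp
      intro p
      rw [K.add w hw s hs]
      simp only [Pi.add_apply]
      obtain ⟨h2, h3, h4⟩ := hval p
      by_cases h5 : co w p.1.1 p.1.2.1 = co w p.1.1 p.1.2.2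
      · rw [h2, h4 (fun h => h h5), h5]
      · rw [h2, h3 h5]
        generalize co w p.1.1 p.1.2.1 = z at h5
        generalize co w p.1.1 p.1.2.2 = z' at h5
        revert h5; revert z z'; decide
    have e : w = (w + s) + s := by rw [add_assoc, amb.two, add_zero]
    rw [e]
    exact add_mem ((le_sup_left : WJ V U H R ≤ _) h1) ((le_sup_right : (⨆ p : Ix V H R co,
      Ps K p.1.1 p.1.2.1 p.1.2.2) ≤ _) hsP)
  orth := fun p p' hpp r hr x hx => by
    apply fix_Pp K amb.two p.2.1.ne hr hx.1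
    apply hx.2 _ _ _ p.2.2
    rintro ⟨h1, h2 | h2⟩
    · exact hpp (ix_ext amb a we K h1 h2)
    · exact ix_ne amb a we K p p' h1 h2
  quad := fun p r hr x hx => by
    have hrx := smul_mem_WW (a.RH hr.1) hx.1
    refine (mem_WJ amb a we K).2 ⟨add_mem hrx hx.1, fun j c d hcd => ?_⟩
    rw [K.add _ hrx x hx.1]
    simp only [Pi.add_apply]
    rcases hr.2 with h1 | h1
    · rw [fix_of_one K (a.RH hr.1) h1 hx.1, CharTwo.add_self_eq_zero, CharTwo.add_self_eq_zero]
    · have h2 : ∀ c, co (r • x) j c = co x j (tp p.1.1 p.1.2.1 p.1.2.2 j c) := by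
        intro c
        have h3 := h1 x hx.1 j (tp p.1.1 p.1.2.1 p.1.2.2 j c)
        have e : tp p.1.1 p.1.2.1 p.1.2.2 j (tp p.1.1 p.1.2.1 p.1.2.2 j c) = c := by
          have := congrFun (tp_mul_self p.1.1 p.1.2.1 p.1.2.2) j
          rw [Pi.mul_apply] at this
          exact Equiv.ext_iff.1 this c
        rw [e] at h3
        exact h3
      rw [h2, h2]
      by_cases hj : j = p.1.1
      · subst hj
        rw [tp_self]
        have hu := @PI_uniq _ _ _ _ _ _ _ _ _ _ _ _ _ _ _ _ amb a we K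
        by_cases hc1 : c = p.1.2.1
        · have hd : d = p.1.2.2 := by rw [hc1] at hcd; exact hu hcd p.2.2
          rw [hc1, hd, Equiv.swap_apply_left, Equiv.swap_apply_right, add_comm]
        by_cases hc2 : c = p.1.2.2
        · have hd : d = p.1.2.1 := by rw [hc2] at hcd; exact hu hcd p.2.2.symm
          rw [hc2, hd, Equiv.swap_apply_left, Equiv.swap_apply_right, add_comm]
        have hd1 : d ≠ p.1.2.1 := by
          intro h3
          have h4 := hcd.symm
          rw [h3] at h4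
          exact hc2 (hu h4 p.2.2)
        have hd2 : d ≠ p.1.2.2 := by
          intro h3
          have h4 := hcd.symm
          rw [h3] at h4
          exact hc1 (hu h4 p.2.2.symm)
        rw [Equiv.swap_apply_of_ne_of_ne hc1 hc2, Equiv.swap_apply_of_ne_of_ne hd1 hd2, CharTwo.add_self_eq_zero,
          CharTwo.add_self_eq_zero]
      · rw [tp_of_ne hj]
        change co x j c + co x j c = co x j d + co x j d
        rw [CharTwo.add_self_eq_zero, CharTwo.add_self_eq_zero]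
  trans := fun p p' => by
    obtain ⟨r, hr, σ, τ, h1, h2, h3, h4⟩ := trans_PI' amb a we K p.2.2 p'.2.2
    have hi := actS_inv (a.RH hr) h1
    refine ⟨r, hr, ?_, ?_⟩
    · ext g
      rw [mem_conj]
      constructor
      · intro hg
        have h5 := map_Pp K (R.inv_mem hr) hi hg
        rw [← h2, ← h3, ← h4, papp', papp', papp', inv_inv] at h5
        exact h5
      · intro hg
        have h5 := map_Pp K hr h1 hg
        rw [h2, h3, h4] at h5
        have e : r * (r⁻¹ * g * r) * r⁻¹ = g := by group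
        rwa [e] at h5
    · ext w
      rw [mem_smul_as]
      constructor
      · intro hw
        have h5 := map_Ps K a.RH (R.inv_mem hr) hi hw
        rw [← h2, ← h3, ← h4, papp', papp', papp'] at h5
        exact h5
      · intro hw
        have h5 := map_Ps K a.RH hr h1 hw
        rw [h2, h3, h4, smul_inv_smul] at h5
        exact h5

end amal

end Cfsg.Agent.Omega.NO1.TH.K.SI

end
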