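import Cfsg.Agent.Mrg.Omega.NO1.TH.Fact

section


/-!
# N1, BETA, `S_n` type: (z) of bb OMEGA 20646 / 21203 / 21465 (5) (helper247, helper864, helper593)

`Pts V H R P` : `P ⊆ W = WW V H R` is the set of the point vectors `{q, ∞}` of the blocks: `W` is generated by `V₀` and
`P`, `R` permutes `P`, and `p₁ + p₂ = p₃ + p₄` in `P` only trivially.
`Pts.zD` : `W' ≤ E_D` for all members `D ≤ H`; `Pts.zK` : `W^g ≤ E_A` for `g ∈ H'`.
-/

set_option autoImplicit false
set_option linter.unusedSectionVars false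
set_option linter.dupNamespace false

namespace Cfsg.Agent.Omega.NO1.TH.K

open Subgroup Cfsg.Agent.Omega.NO1.AB
open scoped Pointwise

universe u

variable {Y : Type u} [Group Y] {V : Type u} [AddCommGroup V] [DistribMulAction Y V]

/-- the point vectors `{q, ∞}` of the blocks of `W` -/
structure Pts (V : Type u) [AddCommGroup V] [DistribMulAction Y V] (H R : Subgroup Y) (P : Set V) : Prop where
  le : ∀ p ∈ P, p ∈ WW V H R
  gen : WW V H R ≤ fx V R ⊔ AddSubgroup.closure P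
  smul : ∀ r ∈ R, ∀ p ∈ P, r • p ∈ P
  ind : ∀ p₁ ∈ P, ∀ p₂ ∈ P, ∀ p₃ ∈ P, ∀ p₄ ∈ P, p₁ + p₂ = p₃ + p₄ → p₁ = p₂ ∨ p₁ = p₃ ∨ p₁ = p₄

/-- the two commuting elements `b`, `s` of a member with `[v, b, s] = 0` on a point vector `v ∉ E` -/
theorem two_of_ind {D Rr : Subgroup Y} {P : Set V} (hsm : ∀ r ∈ Rr, ∀ p ∈ P, r • p ∈ P)
    (ind : ∀ p₁ ∈ P, ∀ p₂ ∈ P, ∀ p₃ ∈ P, ∀ p₄ ∈ P, p₁ + p₂ = p₃ + p₄ → p₁ = p₂ ∨ p₁ = p₃ ∨ p₁ = p₄)
    (two : ∀ v : V, v + v = 0) (hm : Mem D (Ee V D) (fx V D)) {v : V} (hv : v ∈ P) (hvE : v ∉ Ee V D)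
    {b s : Y} (hb : b ∈ D) (hbR : b ∈ Rr) (hs : s ∈ D) (hsR : s ∈ Rr) {x : V} (hbx : b • x = x)
    (hsx : s • v + v + x ∈ fx V D) (hb1 : b ≠ 1) : s = 1 ∨ s = b := by
  have h1 := hsx b hb
  rw [smul_add, smul_add, hbx] at h1
  have h2 : b • s • v + b • v = s • v + v := add_right_cancel h1
  have h3 := ind _ (hsm b hbR _ (hsm s hsR _ hv)) _ (hsm b hbR _ hv) _ (hsm s hsR _ hv) _ hv h2
  have key : ∀ c ∈ D, c • v = v → c = 1 := fun c hc hcv => hm.inj v hvE c hc (by
    rw [hcv, two]; exact zero_mem _)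
  rcases h3 with h3 | h3 | h3
  · -- `b s v = b v`
    left
    exact key s hs (smul_left_cancel b h3)
  · -- `b s v = s v`
    exfalso
    apply hb1
    apply key b hb
    rw [← mul_smul, hm.comm b hb s hs, mul_smul] at h3
    exact smul_left_cancel s h3
  · -- `b s v = v`
    right
    have h4 := key (b * s) (D.mul_mem hb hs) (by rw [mul_smul]; exact h3)
    have h5 := hm.sq b hb
    rw [← h5] at h4
    exact mul_left_cancel h4

theorem exists_pt {H R : Subgroup Y} {P : Set V} (hP : Pts V H R P) {E : AddSubgroup V} {g : Y}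
    (hV : ∀ v ∈ fx V R, g • v ∈ E) {w : V} (hw : w ∈ WW V H R) (hwE : g • w ∉ E) : ∃ p ∈ P, g • p ∉ E := by
  by_contra hcon
  push Not at hcon
  apply hwE
  have h1 := hP.gen hw
  rw [AddSubgroup.mem_sup] at h1
  obtain ⟨x, hx, y, hy, rfl⟩ := h1
  rw [smul_add]
  refine E.add_mem (hV x hx) ?_
  clear hw hwE
  induction hy using AddSubgroup.closure_induction with
  | mem v hv => exact hcon v hv
  | zero => rw [smul_zero]; exact zero_mem _
  | add a b _ _ h1 h2 => rw [smul_add]; exact add_mem h1 h2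
  | neg a _ h1 => rw [smul_neg]; exact neg_mem h1

/-- transport with `t` -/
theorem Pts.conj_t {U : Set (Subgroup Y)} {T : Sylow 2 Y} {M H R : Subgroup Y} {t : Y} {P : Set V}
    (a : Amal U T M H R t) (hP : Pts V H R P) : Pts V (MulAut.conj t • H) R (t • P) := by
  have hW : WW V (MulAut.conj t • H) R = t • WW V H R := WW_conj (fun v => a.smul_V0) fun v => a.smul_V0'
  refine ⟨?_, ?_, ?_, ?_⟩
  · rintro _ ⟨p, hp, rfl⟩
    rw [hW]
    exact smul_mem_smul_as (hP.le p hp)
  · rw [hW]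
    intro v hv
    rw [mem_smul_as] at hv
    have h1 := hP.gen hv
    rw [AddSubgroup.mem_sup] at h1
    obtain ⟨x, hx, y, hy, hxy⟩ := h1
    have e : v = t • x + t • y := by rw [← smul_add, hxy, smul_inv_smul]
    rw [e]
    refine add_mem ((le_sup_left : fx V R ≤ _) (a.smul_V0 hx)) ?_
    apply (le_sup_right : AddSubgroup.closure (t • P) ≤ fx V R ⊔ AddSubgroup.closure (t • P))
    clear hxy e
    induction hy using AddSubgroup.closure_induction with
    | mem v hv => exact AddSubgroup.subset_closure ⟨v, hv, rfl⟩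
    | zero => rw [smul_zero]; exact zero_mem _
    | add a b _ _ h1 h2 => rw [smul_add]; exact add_mem h1 h2
    | neg a _ h1 => rw [smul_neg]; exact neg_mem h1
  · rintro r hr _ ⟨p, hp, rfl⟩
    refine ⟨(t⁻¹ * r * t) • p, hP.smul _ (a.symm_smul hr) _ hp, ?_⟩
    simp only
    rw [← mul_smul, ← mul_smul]
    congr 1
    group
  · rintro _ ⟨p₁, h₁, rfl⟩ _ ⟨p₂, h₂, rfl⟩ _ ⟨p₃, h₃, rfl⟩ _ ⟨p₄, h₄, rfl⟩ h
    simp only [← smul_add, smul_left_cancel_iff] at h ⊢
    exact hP.ind _ h₁ _ h₂ _ h₃ _ h₄ h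

section

variable [Finite Y] [Finite V] {U : Set (Subgroup Y)} {T : Sylow 2 Y} {M H H' R : Subgroup Y} {t : Y}

/-- (a) for all members `D ≤ H` from (a) for the members `D ≤ R` -/
theorem pre_of_R (amb : Amb V U T M) (a : Amal U T M H R t)
    (pre : ∀ D ∈ U, D ≤ R → ∀ w, w ∉ Ee V D → ∀ s ∈ D, s • w + w ∈ WW V H R ⊔ fx V D → s ∈ QQ H R) :
    ∀ D ∈ U, D ≤ H → ∀ w, w ∉ Ee V D → ∀ s ∈ D, s • w + w ∈ WW V H R ⊔ fx V D → s ∈ QQ H R := by
  intro D hD hDH w hw s hs hsw
  obtain ⟨x, hx, hxU, hxR⟩ := Amal.exists_conj a amb hD hDH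
  have h1 := pre _ hxU hxR (x • w) (fun h1 => hw (by
    rw [Ee_conj, mem_smul_as, inv_smul_smul] at h1; exact h1)) (x * s * x⁻¹) (conj_mem_conj hs) (by
      have e : (x * s * x⁻¹) • x • w + x • w = x • (s • w + w) := by
        rw [smul_add, ← mul_smul, ← mul_smul]
        congr 2
        group
      rw [e]
      rw [AddSubgroup.mem_sup] at hsw
      obtain ⟨y, hy, z, hz, hyz⟩ := hsw
      rw [← hyz, smul_add]
      refine add_mem ((le_sup_left : WW V H R ≤ _) (smul_mem_WW hx hy)) ?_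
      apply (le_sup_right : fx V (MulAut.conj x • D) ≤ WW V H R ⊔ fx V (MulAut.conj x • D))
      rw [fx_conj]
      exact smul_mem_smul_as hz)
  have h2 := conj_mem_QQ (H.inv_mem hx) h1
  have e : x⁻¹ * (x * s * x⁻¹) * x⁻¹⁻¹ = s := by group
  rwa [e] at h2

/-- a vector of `W` moved by the member `D ≤ H`, `D ≰ Q` -/
theorem exists_W_notin (amb : Amb V U T M) (a : Amal U T M H R t) {D : Subgroup Y} (hD : D ∈ U) (hDH : D ≤ H)
    (hDQ : ¬ D ≤ QQ H R) : ∃ x ∈ WW V H R, x ∉ fx V D := by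
  by_contra hcon
  push Not at hcon
  apply hDQ
  have h1 := Amal.inf_CW' a amb hD hDH
  intro d hd
  have h2 : d ∈ D ⊓ CW V H R := ⟨hd, fun w hw => hcon w hw d hd⟩
  rw [h1] at h2
  exact h2.2

/-- (z), the group `K`: `W^g ≤ E_A` for `g ∈ H'` -/
theorem Pts.zK (amb : Amb V U T M) (a : Amal U T M H R t) (a' : Amal U T M H' R t) (we : WE V U H R) {P : Set V}
    (hP : Pts V H R P) {A : Subgroup Y} (hA : A ∈ U) (hAH : A ≤ H) (hAM : ¬ A ≤ M)
    (hW' : WW V H' R ≤ Ee V A)
    (preX : ∀ w, w ∉ Ee V A → ∀ s ∈ A, s • w + w ∈ WW V H R ⊔ WW V H' R ⊔ fx V A → s ∈ QQ H R ∧ s ∈ QQ H' R)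
    (star : ∃ b ∈ A ⊓ QQ H R, b ∉ QQ H' R) :
    ∀ g ∈ H', ∀ w ∈ WW V H R, g • w ∈ Ee V A := by
  intro g hg w hw
  by_contra hcon
  have hm := amb.cls.mem A hA
  have hWE := Amal.WW_le_Ee a amb we hA hAH
  obtain ⟨p, hp, hpE⟩ := exists_pt hP (E := Ee V A) (g := g) (fun v hv => hW' (smul_mem_WW hg (fx_le_WW hv))) hw hcon
  -- `s_x`
  have hs : ∀ x ∈ WW V H R ⊔ WW V H' R, ∃ s ∈ A, s ∈ QQ H R ∧ s ∈ QQ H' R ∧ s • g • p + g • p + x ∈ fx V A := by
    intro x hx
    obtain ⟨s, hs, h1⟩ := hm.surj (g • p) hpE x (sup_le hWE hW' hx)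
    have h2 : s • g • p + g • p ∈ WW V H R ⊔ WW V H' R ⊔ fx V A := by
      have e : s • g • p + g • p = x + (s • g • p + g • p + x) := by
        have : x + (s • g • p + g • p + x) = s • g • p + g • p + (x + x) := by abel
        rw [this, amb.two, add_zero]
      rw [e]
      exact add_mem ((le_sup_left : WW V H R ⊔ WW V H' R ≤ _) hx)
        ((le_sup_right : fx V A ≤ WW V H R ⊔ WW V H' R ⊔ fx V A) h1)
    have h3 := preX _ hpE s hs h2
    exact ⟨s, hs, h3.1, h3.2, h1⟩
  -- the fixed vectors of `K`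
  have hfix : ∀ b ∈ QQ H R, b ∈ QQ H' R → ∀ x ∈ WW V H R ⊔ WW V H' R, b • x = x := by
    intro b hb hb' x hx
    rw [AddSubgroup.mem_sup] at hx
    obtain ⟨y, hy, z, hz, rfl⟩ := hx
    rw [smul_add, Amal.QQ_fix a amb hb hy, Amal.QQ_fix a' amb hb' hz]
  -- two elements of `W`, `W'`
  obtain ⟨b₀, ⟨hb₀A, hb₀Q⟩, hb₀'⟩ := star
  obtain ⟨x, hx, hxF⟩ := exists_W_notin amb a hA hAH (fun h => hAM (h.trans (QQ_le.trans (a.RT.trans amb.TM))))
  obtain ⟨y, hy, hyb⟩ : ∃ y ∈ WW V H' R, b₀ • y ≠ y := by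
    by_contra h1
    push Not at h1
    exact hb₀' ((Amal.mem_QQ_iff a' amb (QQ_le hb₀Q)).2 h1)
  obtain ⟨s, hsA, hsQ, hsQ', hsx⟩ := hs x ((le_sup_left : WW V H R ≤ _) hx)
  obtain ⟨b, hbA, hbQ, hbQ', hby⟩ := hs y ((le_sup_right : WW V H' R ≤ WW V H R ⊔ WW V H' R) hy)
  have hb1 : b ≠ 1 := by
    rintro rfl
    rw [one_smul, amb.two, zero_add] at hby
    exact hyb (hby b₀ hb₀A)
  have hs1 : s ≠ 1 := by
    rintro rfl
    rw [one_smul, amb.two, zero_add] at hsx
    exact hxF hsx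
  -- `R^g`, `P^g`
  have h1 := two_of_ind (D := A) (Rr := MulAut.conj g • R) (P := (fun v => g • v) '' P) (by
      rintro r hr _ ⟨q, hq, rfl⟩
      rw [mem_conj] at hr
      refine ⟨(g⁻¹ * r * g) • q, hP.smul _ hr _ hq, ?_⟩
      simp only
      rw [← mul_smul, ← mul_smul]
      congr 1
      group) (by
      rintro _ ⟨p₁, h₁, rfl⟩ _ ⟨p₂, h₂, rfl⟩ _ ⟨p₃, h₃, rfl⟩ _ ⟨p₄, h₄, rfl⟩ h
      simp only [← smul_add, smul_left_cancel_iff] at h ⊢
      exact hP.ind _ h₁ _ h₂ _ h₃ _ h₄ h) amb.two hm (v := g • p) ⟨p, hp, rfl⟩ hpE hbA (by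
      rw [mem_conj]
      have := QQ_le (conj_mem_QQ (H'.inv_mem hg) hbQ')
      rwa [inv_inv] at this) hsA (by
      rw [mem_conj]
      have := QQ_le (conj_mem_QQ (H'.inv_mem hg) hsQ')
      rwa [inv_inv] at this) (hfix b hbQ hbQ' x ((le_sup_left : WW V H R ≤ _) hx)) hsx hb1
  rcases h1 with h1 | h1
  · exact hs1 h1
  · subst h1
    -- `x + y ∈ F_A`
    have h2 : x + y ∈ fx V A := by
      have h3 := (fx V A).add_mem hsx hby
      have e : s • g • p + g • p + x + (s • g • p + g • p + y) = (s • g • p + g • p) + (s • g • p + g • p) + (x + y) := by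
        abel
      rwa [e, amb.two, zero_add] at h3
    apply hyb
    have h3 := h2 b₀ hb₀A
    rw [smul_add, Amal.QQ_fix a amb hb₀Q hx] at h3
    exact add_left_cancel h3

/-- the order of a member: `|D| ≤ 4` if `|D ∩ Q| ≤ 2` and `|W : W ∩ F_D| ≤ 2` -/
theorem card_le_four (amb : Amb V U T M) (a : Amal U T M H R t) (we : WE V U H R) {D : Subgroup Y} (hD : D ∈ U)
    (hDH : D ≤ H) (h1 : Nat.card ↥(D ⊓ QQ H R) ≤ 2) (h2 : Nat.card ↥(WW V H R) ≤ 2 * Nat.card ↥(WW V H R ⊓ fx V D)) :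
    Nat.card D ≤ 4 := by
  have h3 := Amal.exact' a amb we hD hDH
  have h4 : 0 < Nat.card ↥(WW V H R ⊓ fx V D) := Nat.card_pos
  apply Nat.le_of_mul_le_mul_right _ h4
  rw [← h3]
  calc Nat.card ↥(WW V H R) * Nat.card ↥(D ⊓ QQ H R) ≤ 2 * Nat.card ↥(WW V H R ⊓ fx V D) * 2 :=
        Nat.mul_le_mul h2 h1
    _ = 4 * Nat.card ↥(WW V H R ⊓ fx V D) := by ring

/-- (z), the group `D ∩ Q`: `W' ≤ E_D` for the members `D ≤ H` -/
theorem Pts.zD (amb : Amb V U T M) (a : Amal U T M H R t) (we : WE V U H R) (hH' : H' = MulAut.conj t • H)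
    {P : Set V} (hP : Pts V H' R P) {D : Subgroup Y} (hD : D ∈ U) (hDH : D ≤ H)
    (pre : ∀ w, w ∉ Ee V D → ∀ s ∈ D, s • w + w ∈ WW V H R ⊔ fx V D → s ∈ QQ H R) (h4 : 4 < Nat.card D) :
    WW V H' R ≤ Ee V D := by
  classical
  intro w hw
  by_contra hcon
  have hm := amb.cls.mem D hD
  have hWE := Amal.WW_le_Ee a amb we hD hDH
  have hWc : WW V H' R = t • WW V H R := by
    rw [hH']
    exact WW_conj (fun v => a.smul_V0) fun v => a.smul_V0'
  have hDQ : ¬ D ≤ QQ H R := by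
    intro h1
    apply hcon
    rw [hWc] at hw
    exact Amal.tW_le_Ee a amb we hD (h1.trans QQ_le) hw
  obtain ⟨v, hv, hvE⟩ := exists_pt hP (E := Ee V D) (g := 1) (fun v hv => by
    rw [one_smul]; exact hWE (fx_le_WW hv)) hw (by rwa [one_smul])
  rw [one_smul] at hvE
  have hs : ∀ x ∈ WW V H R, ∃ s ∈ D, s ∈ QQ H R ∧ s • v + v + x ∈ fx V D := by
    intro x hx
    obtain ⟨s, hs, h1⟩ := hm.surj v hvE x (hWE hx)
    have h2 : s • v + v ∈ WW V H R ⊔ fx V D := by
      have e : s • v + v = x + (s • v + v + x) := by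
        have : x + (s • v + v + x) = s • v + v + (x + x) := by abel
        rw [this, amb.two, add_zero]
      rw [e]
      exact add_mem ((le_sup_left : WW V H R ≤ _) hx) ((le_sup_right : fx V D ≤ WW V H R ⊔ fx V D) h1)
    exact ⟨s, hs, pre _ hvE s hs h2, h1⟩
  have key : ∀ b ∈ D ⊓ QQ H R, b ≠ 1 → ∀ x ∈ WW V H R, ∀ s ∈ D, s ∈ QQ H R → s • v + v + x ∈ fx V D →
      s = 1 ∨ s = b := by
    intro b hb hb1 x hx s hs hsQ hsx
    exact two_of_ind (Rr := R) hP.smul hP.ind amb.two hm hv hvE hb.1 (QQ_le hb.2) hs (QQ_le hsQ)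
      (Amal.QQ_fix a amb hb.2 hx) hsx hb1
  obtain ⟨x₀, hx₀, hx₀F⟩ := exists_W_notin amb a hD hDH hDQ
  obtain ⟨s₀, hs₀, hs₀Q, hs₀x⟩ := hs x₀ hx₀
  have hs₀1 : s₀ ≠ 1 := by
    rintro rfl
    rw [one_smul, amb.two, zero_add] at hs₀x
    exact hx₀F hs₀x
  -- `D ∩ Q = {1, s₀}`
  have hB : ∀ b ∈ D ⊓ QQ H R, b = 1 ∨ b = s₀ := by
    intro b hb
    by_cases hb1 : b = 1
    · exact Or.inl hb1
    · rcases key b hb hb1 x₀ hx₀ s₀ hs₀ hs₀Q hs₀x with h1 | h1
      · exact absurd h1 hs₀1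
      · exact Or.inr h1.symm
  -- `|W : W ∩ F_D| ≤ 2`
  have hW2 : ∀ x ∈ WW V H R, x ∈ fx V D ∨ x + x₀ ∈ fx V D := by
    intro x hx
    obtain ⟨s, hs', hsQ, hsx⟩ := hs x hx
    rcases hB s ⟨hs', hsQ⟩ with h1 | h1
    · subst h1
      rw [one_smul, amb.two, zero_add] at hsx
      exact Or.inl hsx
    · subst h1
      right
      have h3 := (fx V D).add_mem hsx hs₀x
      have e : s • v + v + x + (s • v + v + x₀) = (s • v + v) + (s • v + v) + (x + x₀) := by abel
      rwa [e, amb.two, zero_add] at h3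
  have h5 := card_le_four amb a we hD hDH (by
    have h6 : Nat.card ↥(D ⊓ QQ H R) ≤ Nat.card ({1, s₀} : Set Y) := by
      apply Nat.card_mono (Set.toFinite _)
      intro b hb
      rcases hB b hb with h1 | h1
      · exact Or.inl h1
      · exact Or.inr h1
    refine h6.trans ?_
    rw [Nat.card_coe_set_eq]
    exact (Set.ncard_insert_le _ _).trans (by rw [Set.ncard_singleton])) (by
    let f : ↥(WW V H R) → Bool × ↥(WW V H R ⊓ fx V D) := fun x =>
      if h : (x : V) ∈ fx V D then (true, ⟨x, x.2, h⟩) else (false, ⟨x + x₀, add_mem x.2 hx₀, (hW2 x x.2).resolve_left h⟩)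
    have hf : Function.Injective f := by
      intro x y hxy
      by_cases h6 : (x : V) ∈ fx V D
      · by_cases h7 : (y : V) ∈ fx V D
        · simp only [f, dif_pos h6, dif_pos h7, Prod.mk.injEq, true_and] at hxy
          have h8 := congrArg (fun z : ↥(WW V H R ⊓ fx V D) => (z : V)) hxy
          exact Subtype.ext h8
        · simp only [f, dif_pos h6, dif_neg h7, Prod.mk.injEq] at hxy
          exact absurd hxy.1 (by decide)
      · by_cases h7 : (y : V) ∈ fx V D
        · simp only [f, dif_neg h6, dif_pos h7, Prod.mk.injEq] at hxy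
          exact absurd hxy.1 (by decide)
        · simp only [f, dif_neg h6, dif_neg h7, Prod.mk.injEq, true_and] at hxy
          have h8 := congrArg (fun z : ↥(WW V H R ⊓ fx V D) => (z : V)) hxy
          exact Subtype.ext (add_right_cancel h8)
    have h6 := Nat.card_le_card_of_injective f hf
    have h7 : Nat.card Bool = 2 := by rw [Nat.card_eq_fintype_card, Fintype.card_bool]
    rwa [Nat.card_prod, h7] at h6)
  omega

end

end Cfsg.Agent.Omega.NO1.TH.K

end

section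


/-!
# N1, BETA, `S_n` type: the point vectors (bb OMEGA 21203, 21465 (0), 21995)

`W = WW V H R`, `co` the coordinates of `W / D₀` (`KSym`).
For `l ∈ H` acting as the transposition `(p q)` of the block `j`, trivially on `D₀`: `fix_of_eq` : `l` fixes all
`u ∈ W` with `co u j p = co u j q`.  So there is a unique vector `f j p q` (`IsF`), and `W` is the sum of `V₀` and the
span of the `f j q 0`: `Pts`.  No splitting of `W` is used.
-/

set_option autoImplicit false
set_option linter.unusedSectionVars false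
set_option linter.dupNamespace false

namespace Cfsg.Agent.Omega.NO1.TH.K

open Subgroup Cfsg.Agent.Omega.NO1.AB
open scoped Pointwise

universe u

variable {Y : Type u} [Group Y] {V : Type u} [AddCommGroup V] [DistribMulAction Y V]

/-- `l` acts as `τ` (all blocks fixed) and trivially on `D₀` -/
def Lk (V : Type u) [AddCommGroup V] [DistribMulAction Y V] (H R : Subgroup Y) {k n : ℕ}
    (co : V → Fin k → Fin n → ZMod 2) (l : Y) (τ : Fin k → Equiv.Perm (Fin n)) : Prop :=
  l ∈ H ∧ ActS V H R co l 1 τ ∧ TrD V H R co l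

section

variable {H R : Subgroup Y} {k : ℕ}

theorem papp {α : Type*} (π : Equiv.Perm α) (x : α) : π (π⁻¹ x) = x := π.apply_symm_apply x

theorem ActS.mul {n : ℕ} {co : V → Fin k → Fin n → ZMod 2} {g h : Y} {σ σ' : Equiv.Perm (Fin k)} {τ τ' : Fin k → Equiv.Perm (Fin n)}
    (hh : h ∈ H) (h1 : ActS V H R co g σ τ) (h2 : ActS V H R co h σ' τ') :
    ActS V H R co (g * h) (σ * σ') (fun i => τ (σ' i) * τ' i) := by
  intro v hv i x
  rw [mul_smul]
  have h3 := h1 (h • v) (smul_mem_WW hh hv) (σ' i) (τ' i x)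
  rw [h2 v hv] at h3
  exact h3

theorem Lk.mul {n : ℕ} {co : V → Fin k → Fin n → ZMod 2} {g h : Y} {τ τ' : Fin k → Equiv.Perm (Fin n)} (h1 : Lk V H R co g τ) (h2 : Lk V H R co h τ') :
    Lk V H R co (g * h) (τ * τ') := by
  refine ⟨H.mul_mem h1.1 h2.1, ?_, fun d hd h0 => ?_⟩
  · have h3 := h1.2.1.mul h2.1 h2.2.1
    rw [mul_one] at h3
    exact h3
  · rw [mul_smul, h2.2.2 d hd h0, h1.2.2 d hd h0]

theorem Lk.inv {n : ℕ} {co : V → Fin k → Fin n → ZMod 2} {g : Y} {τ : Fin k → Equiv.Perm (Fin n)} (h1 : Lk V H R co g τ) :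
    Lk V H R co g⁻¹ τ⁻¹ := by
  refine ⟨H.inv_mem h1.1, fun v hv i x => ?_, fun d hd h0 => ?_⟩
  · have h3 := h1.2.1 (g⁻¹ • v) (smul_mem_WW (H.inv_mem h1.1) hv) i ((τ i)⁻¹ x)
    rw [smul_inv_smul, papp] at h3
    exact h3.symm
  · rw [inv_smul_eq_iff, h1.2.2 d hd h0]

/-- even vectors with equal coordinates at `p`, `q` in the block `j` are generated by pairs -/
theorem mem_of_pairs {k n : ℕ} (S : AddSubgroup (Fin k → Fin (n + 1) → ZMod 2)) (j : Fin k) (p q s : Fin (n + 1))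
    (hpq : p ≠ q) (hsp : s ≠ p) (hsq : s ≠ q)
    (h1 : ∀ (i : Fin k) (a b : Fin (n + 1)), a ≠ b → (i = j → a ≠ p ∧ a ≠ q ∧ b ≠ p ∧ b ≠ q) →
      (fun i' x => if i' = i ∧ (x = a ∨ x = b) then (1 : ZMod 2) else 0) ∈ S)
    (h2 : (fun i' x => if i' = j ∧ (x = p ∨ x = q) then (1 : ZMod 2) else 0) ∈ S)
    (y : Fin k → Fin (n + 1) → ZMod 2) (hy : ∀ i, ∑ x, y i x = 0) (hyj : y j p = y j q) : y ∈ S := by
  classical
  have hz2 : ∀ a : ZMod 2, a + a = 0 := by decide
  have h01 : ∀ a : ZMod 2, a = 0 ∨ a = 1 := by decide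
  let r : Fin k → Fin (n + 1) → Fin (n + 1) := fun i a => if i = j then (if a = p ∨ a = q then p else s) else 0
  let E : Fin k → Fin (n + 1) → Fin k → Fin (n + 1) → ZMod 2 := fun i a i' x =>
    (if i' = i ∧ x = a then 1 else 0) + (if i' = i ∧ x = r i a then 1 else 0)
  have hE : ∀ i a, E i a ∈ S := by
    intro i a
    by_cases hra : a = r i a
    · have e : E i a = 0 := by
        funext i' x
        simp only [E]
        rw [← hra]
        exact hz2 _
      rw [e]
      exact zero_mem _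
    · have e : E i a = fun i' x => if i' = i ∧ (x = a ∨ x = r i a) then (1 : ZMod 2) else 0 := by
        funext i' x
        simp only [E]
        by_cases h3 : i' = i
        · by_cases h4 : x = a
          · rw [if_pos ⟨h3, h4⟩, if_neg (fun h5 => hra (h4.symm.trans h5.2)), if_pos ⟨h3, Or.inl h4⟩, add_zero]
          · by_cases h5 : x = r i a
            · rw [if_neg (fun h6 => h4 h6.2), if_pos ⟨h3, h5⟩, if_pos ⟨h3, Or.inr h5⟩, zero_add]
            · rw [if_neg (fun h6 => h4 h6.2), if_neg (fun h6 => h5 h6.2), if_neg (by tauto), add_zero]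
        · rw [if_neg (fun h6 => h3 h6.1), if_neg (fun h6 => h3 h6.1), if_neg (fun h6 => h3 h6.1), add_zero]
      rw [e]
      by_cases hij : i = j
      · by_cases h3 : a = p ∨ a = q
        · have h4 : r i a = p := by simp only [r]; rw [if_pos hij, if_pos h3]
          rw [h4] at hra ⊢
          have h5 : a = q := h3.resolve_left hra
          subst h5
          rw [hij]
          have e : (fun i' x => if i' = j ∧ (x = a ∨ x = p) then (1 : ZMod 2) else 0) =
              fun i' x => if i' = j ∧ (x = p ∨ x = a) then (1 : ZMod 2) else 0 := by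
            funext i' x
            simp only [or_comm]
          rw [e]
          exact h2
        · have h4 : r i a = s := by simp only [r]; rw [if_pos hij, if_neg h3]
          rw [h4] at hra ⊢
          push Not at h3
          exact h1 i a s hra fun _ => ⟨h3.1, h3.2, hsp, hsq⟩
      · exact h1 i a _ hra fun h => absurd h hij
  have key : y = ∑ i, ∑ a, fun i' x => y i a * E i a i' x := by
    funext i' x
    rw [Finset.sum_apply, Finset.sum_apply]
    simp only [Finset.sum_apply]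
    have e1 : ∀ i : Fin k, (∑ a, y i a * E i a i' x) = if i' = i then y i' x else 0 := by
      intro i
      by_cases h3 : i' = i
      · subst h3
        rw [if_pos rfl]
        have e2 : ∀ a, y i' a * E i' a i' x = (if x = a then y i' a else 0) +
            (y i' a * if x = r i' a then 1 else 0) := by
          intro a
          simp only [E, true_and, mul_add]
          congr 1
          split_ifs <;> simp
        simp only [e2, Finset.sum_add_distrib, Finset.sum_ite_eq, Finset.mem_univ, if_true]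
        rw [add_eq_left]
        by_cases h4 : i' = j
        · subst h4
          have e3 : ∀ a, (y i' a * if x = r i' a then 1 else 0) = y i' a * (if x = s then 1 else 0) +
              ((if a = p then y i' a * ((if x = p then 1 else 0) + (if x = s then 1 else 0)) else 0) +
              (if a = q then y i' a * ((if x = p then 1 else 0) + (if x = s then 1 else 0)) else 0)) := by
            intro a
            simp only [r, if_true]
            generalize y i' a = c
            by_cases h5 : a = p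
            · subst h5
              rw [if_pos (Or.inl rfl), if_pos rfl, if_neg hpq]
              split_ifs <;> revert c <;> decide
            · by_cases h6 : a = q
              · subst h6
                rw [if_pos (Or.inr rfl), if_neg h5, if_pos rfl]
                split_ifs <;> revert c <;> decide
              · have h7 : ¬ (a = p ∨ a = q) := by tauto
                rw [if_neg h5, if_neg h6, if_neg h7]
                split_ifs <;> revert c <;> decide
          simp only [e3, Finset.sum_add_distrib, ← Finset.sum_mul, hy, zero_mul, zero_add, Finset.sum_ite_eq',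
            Finset.mem_univ, if_true]
          rw [hyj]
          exact hz2 _
        · simp only [r, if_neg h4]
          rw [← Finset.sum_mul, hy, zero_mul]
      · rw [if_neg h3]
        apply Finset.sum_eq_zero
        intro a _
        simp only [E]
        rw [if_neg (fun h6 => h3 h6.1), if_neg (fun h6 => h3 h6.1), add_zero, mul_zero]
    simp only [e1, Finset.sum_ite_eq, Finset.mem_univ, if_true]
  rw [key]
  apply AddSubgroup.sum_mem
  intro i _
  apply AddSubgroup.sum_mem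
  intro a _
  rcases h01 (y i a) with h3 | h3
  · rw [h3]
    have e : (fun i' x => (0 : ZMod 2) * E i a i' x) = 0 := by
      funext i' x
      exact zero_mul _
    rw [e]
    exact zero_mem _
  · rw [h3]
    simp only [one_mul]
    exact hE i a

namespace KSym

variable {m : ℕ} {co : V → Fin k → Fin (2 ^ m + 1) → ZMod 2} (s : KSym V H R k m co)
include s

theorem co_zero : co 0 = 0 := by
  have h1 := s.add 0 (zero_mem _) 0 (zero_mem _)
  rw [add_zero] at h1
  exact left_eq_add.1 h1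

theorem one : Lk V H R co 1 1 :=
  ⟨H.one_mem, fun v _ i x => by rw [one_smul]; rfl, fun d _ _ => one_smul _ _⟩

theorem co_inj {g : Y} (hg : g ∈ H) {u v : V} (hu : u ∈ WW V H R) (hv : v ∈ WW V H R)
    (h : co (g • u) = co (g • v)) : co u = co v := by
  obtain ⟨σ, τ, hs⟩ := s.perm g hg
  funext i x
  rw [← hs u hu, ← hs v hv, h]

theorem eq_on {x y : Y} (hx : x ∈ H) (hy : y ∈ H) (h : ∀ w ∈ WW V H R, co (x • w) = co (y • w)) :
    ∀ w ∈ WW V H R, x • w = y • w := by
  intro w hw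
  have h1 := s.trivH (y⁻¹ * x) (H.mul_mem (H.inv_mem hy) hx) (fun w hw => by
    apply s.co_inj hy (smul_mem_WW (H.mul_mem (H.inv_mem hy) hx) hw) hw
    rw [mul_smul, smul_inv_smul]
    exact h w hw) w hw
  rw [mul_smul, inv_smul_eq_iff] at h1
  exact h1

theorem co_lk {l : Y} {τ : Fin k → Equiv.Perm (Fin (2 ^ m + 1))} (h : Lk V H R co l τ) {w : V} (hw : w ∈ WW V H R)
    (i : Fin k) (x : Fin (2 ^ m + 1)) : co (l • w) i x = co w i ((τ i)⁻¹ x) := by
  have h1 := h.2.1 w hw i ((τ i)⁻¹ x)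
  rw [papp] at h1
  exact h1

theorem lk_eq {l l' : Y} {τ : Fin k → Equiv.Perm (Fin (2 ^ m + 1))} (h : Lk V H R co l τ) (h' : Lk V H R co l' τ) :
    ∀ w ∈ WW V H R, l • w = l' • w :=
  s.eq_on h.1 h'.1 fun w hw => by
    funext i x
    rw [s.co_lk h hw, s.co_lk h' hw]

theorem exists_lk (τ : Fin k → Equiv.Perm (Fin (2 ^ m + 1))) : ∃ l, Lk V H R co l τ := by
  obtain ⟨g, hg, h1, h2⟩ := s.lift τ
  exact ⟨g, hg, h1, h2⟩

/-- conjugation -/
theorem lk_conj {g l : Y} (hg : g ∈ H) {σ : Equiv.Perm (Fin k)} {τ : Fin k → Equiv.Perm (Fin (2 ^ m + 1))}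
    (hgs : ActS V H R co g σ τ) {j : Fin k} {p q : Fin (2 ^ m + 1)}
    (h : Lk V H R co l (Pi.mulSingle j (Equiv.swap p q))) :
    Lk V H R co (g * l * g⁻¹) (Pi.mulSingle (σ j) (Equiv.swap (τ j p) (τ j q))) := by
  have hi : ∀ v ∈ WW V H R, g⁻¹ • v ∈ WW V H R := fun v hv => smul_mem_WW (H.inv_mem hg) hv
  refine ⟨H.mul_mem (H.mul_mem hg h.1) (H.inv_mem hg), fun v hv i x => ?_, fun d hd h0 => ?_⟩
  · obtain ⟨i, rfl⟩ := σ.surjective i
    obtain ⟨x, rfl⟩ := (τ i).surjective x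
    have h1 := hgs (l • g⁻¹ • v) (smul_mem_WW h.1 (hi v hv)) i (Pi.mulSingle (M := fun _ => Equiv.Perm (Fin (2 ^ m + 1)))
      j (Equiv.swap p q) i x)
    have h2 := h.2.1 (g⁻¹ • v) (hi v hv) i x
    rw [Equiv.Perm.one_apply] at h2
    have h3 := hgs (g⁻¹ • v) (hi v hv) i x
    rw [smul_inv_smul] at h3
    rw [h2, ← h3] at h1
    rw [mul_smul, mul_smul, Equiv.Perm.one_apply]
    rw [← h1]
    congr 1
    by_cases hij : i = j
    · subst hij
      rw [Pi.mulSingle_eq_same, Pi.mulSingle_eq_same, Equiv.swap_apply_apply]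
      simp [Equiv.Perm.mul_apply]
    · rw [Pi.mulSingle_eq_of_ne hij, Pi.mulSingle_eq_of_ne (fun h => hij (σ.injective h))]
      rfl
  · have h1 : co (g⁻¹ • d) = 0 := by
      rw [← s.co_zero]
      apply s.co_inj hg (hi d hd) (zero_mem _)
      rw [smul_inv_smul, smul_zero, h0, s.co_zero]
    rw [mul_smul, mul_smul, h.2.2 _ (hi d hd) h1, smul_inv_smul]

omit s in
theorem inv_mulSingle_swap (j : Fin k) (p q : Fin (2 ^ m + 1)) (i : Fin k) (x : Fin (2 ^ m + 1)) :
    (Pi.mulSingle (M := fun _ => Equiv.Perm (Fin (2 ^ m + 1))) j (Equiv.swap p q) i)⁻¹ x =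
      if i = j then Equiv.swap p q x else x := by
  by_cases hij : i = j
  · subst hij
    rw [Pi.mulSingle_eq_same, if_pos rfl, Equiv.swap_inv]
  · rw [Pi.mulSingle_eq_of_ne hij, if_neg hij, inv_one, Equiv.Perm.one_apply]

theorem co_swap {l : Y} {j : Fin k} {p q : Fin (2 ^ m + 1)} (h : Lk V H R co l (Pi.mulSingle j (Equiv.swap p q))) {w : V}
    (hw : w ∈ WW V H R) (i : Fin k) (x : Fin (2 ^ m + 1)) :
    co (l • w) i x = co w i (if i = j then Equiv.swap p q x else x) := by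
  rw [s.co_lk h hw, inv_mulSingle_swap]

/-- equal coordinates: `l w + w ∈ D₀` -/
theorem co_swap_eq {l : Y} {j : Fin k} {p q : Fin (2 ^ m + 1)} (h : Lk V H R co l (Pi.mulSingle j (Equiv.swap p q)))
    {w : V} (hw : w ∈ WW V H R) (he : co w j p = co w j q) : co (l • w) = co w := by
  funext i x
  rw [s.co_swap h hw]
  by_cases hij : i = j
  · subst hij
    rw [if_pos rfl]
    by_cases h1 : x = p
    · subst h1
      rw [Equiv.swap_apply_left, he]
    · by_cases h2 : x = q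
      · subst h2
        rw [Equiv.swap_apply_right, he]
      · rw [Equiv.swap_apply_of_ne_of_ne h1 h2]
  · rw [if_neg hij]

omit s in
theorem zmod2 {a b : ZMod 2} (h : a ≠ b) : a + b = 1 := by
  revert a b
  decide

/-- different coordinates: `co (l w + w) = {p, q}` -/
theorem co_swap_ne {l : Y} {j : Fin k} {p q : Fin (2 ^ m + 1)} (h : Lk V H R co l (Pi.mulSingle j (Equiv.swap p q)))
    {w : V} (hw : w ∈ WW V H R) (he : co w j p ≠ co w j q) (i : Fin k) (x : Fin (2 ^ m + 1)) :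
    co (l • w + w) i x = if i = j ∧ (x = p ∨ x = q) then 1 else 0 := by
  have hz : ∀ a : ZMod 2, a + a = 0 := by decide
  rw [s.add _ (smul_mem_WW h.1 hw) _ hw, Pi.add_apply, Pi.add_apply, s.co_swap h hw]
  by_cases hij : i = j
  · subst hij
    rw [if_pos rfl]
    by_cases h1 : x = p
    · subst h1
      rw [Equiv.swap_apply_left, if_pos ⟨rfl, Or.inl rfl⟩]
      exact zmod2 (Ne.symm he)
    · by_cases h2 : x = q
      · subst h2
        rw [Equiv.swap_apply_right, if_pos ⟨rfl, Or.inr rfl⟩]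
        exact zmod2 he
      · rw [Equiv.swap_apply_of_ne_of_ne h1 h2, if_neg (by tauto), hz]
  · rw [if_neg hij, if_neg (by tauto), hz]

/-- the pairs -/
theorem exists_pair (i : Fin k) {a b : Fin (2 ^ m + 1)} (hab : a ≠ b) :
    ∃ z ∈ WW V H R, ∀ i' x, co z i' x = if i' = i ∧ (x = a ∨ x = b) then 1 else 0 := by
  obtain ⟨z, hz, hzy⟩ := s.surj (fun i' x => if i' = i ∧ (x = a ∨ x = b) then 1 else 0) (by
    intro i'
    by_cases hi : i' = i
    · subst hi
      simp only [true_and]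
      have e : ∀ x : Fin (2 ^ m + 1), (if x = a ∨ x = b then (1 : ZMod 2) else 0) =
          (if x = a then 1 else 0) + if x = b then 1 else 0 := by
        intro x
        by_cases h1 : x = a
        · subst h1
          rw [if_pos (Or.inl rfl), if_pos rfl, if_neg hab, add_zero]
        · by_cases h2 : x = b
          · subst h2
            rw [if_pos (Or.inr rfl), if_neg h1, if_pos rfl, zero_add]
          · rw [if_neg (by tauto), if_neg h1, if_neg h2, add_zero]
      simp only [e, Finset.sum_add_distrib, Finset.sum_ite_eq', Finset.mem_univ, if_true]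
      decide
    · simp [hi])
  exact ⟨z, hz, fun i' x => by rw [hzy]⟩

/-- an element commuting with `l` on `W` -/
theorem fix_add (h2v : ∀ v : V, v + v = 0) {l c : Y} {j : Fin k} {p q : Fin (2 ^ m + 1)} (h : Lk V H R co l (Pi.mulSingle j (Equiv.swap p q)))
    {τ : Fin k → Equiv.Perm (Fin (2 ^ m + 1))} (hc : Lk V H R co c τ)
    (hcomm : Pi.mulSingle j (Equiv.swap p q) * τ = τ * Pi.mulSingle j (Equiv.swap p q))
    {z : V} (hz : z ∈ WW V H R) (he : co z j p = co z j q) : l • (c • z + z) = c • z + z := by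
  have h1 : l • c • z = c • l • z := by
    have h2 := h.mul hc
    rw [hcomm] at h2
    have h3 := s.lk_eq h2 (hc.mul h) z hz
    rwa [mul_smul, mul_smul] at h3
  have h2 : co (l • z + z) = 0 := by
    rw [s.add _ (smul_mem_WW h.1 hz) _ hz, s.co_swap_eq h hz he]
    funext i x
    exact (by decide : ∀ a : ZMod 2, a + a = 0) _
  have h3 := hc.2.2 _ (add_mem (smul_mem_WW h.1 hz) hz) h2
  -- `c l z = l z + z + c z`
  have h4 : c • l • z = l • z + z + c • z := by
    rw [smul_add] at h3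
    have e : c • l • z = c • l • z + c • z + c • z := by rw [add_assoc, h2v, add_zero]
    rw [e, h3]
  rw [smul_add, h1, h4]
  have e : l • z + z + c • z + l • z = (l • z + l • z) + (c • z + z) := by abel
  rw [e, h2v, zero_add]

theorem exists_ne (t : Finset (Fin (2 ^ m + 1))) (ht : t.card ≤ 4) : ∃ a, a ∉ t := by
  by_contra h
  push Not at h
  have h1 : t = Finset.univ := Finset.eq_univ_iff_forall.2 h
  rw [h1, Finset.card_univ, Fintype.card_fin] at ht
  have h2 : 2 ^ 2 ≤ 2 ^ m := Nat.pow_le_pow_right (by norm_num) s.two_le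
  omega

/-- **`fix_of_eq`** -/
theorem fix_of_eq (h2v : ∀ v : V, v + v = 0) {l : Y} {j : Fin k} {p q : Fin (2 ^ m + 1)} (h : Lk V H R co l (Pi.mulSingle j (Equiv.swap p q)))
    {w : V} (hw : w ∈ WW V H R) (he : co w j p = co w j q) : l • w = w := by
  classical
  by_cases hpq : p = q
  · subst hpq
    rw [Equiv.swap_self] at h
    have e : (Pi.mulSingle j (Equiv.refl (Fin (2 ^ m + 1))) : Fin k → Equiv.Perm (Fin (2 ^ m + 1))) = 1 := by
      have := Pi.mulSingle_one (M := fun _ : Fin k => Equiv.Perm (Fin (2 ^ m + 1))) j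
      exact this
    rw [e] at h
    have h1 := s.lk_eq h s.one w hw
    rwa [one_smul] at h1
  have hz2 : ∀ a : ZMod 2, a + a = 0 := by decide
  -- the coordinates of the fixed vectors of `l`
  let S : AddSubgroup (Fin k → Fin (2 ^ m + 1) → ZMod 2) :=
    { carrier := {y | ∃ w ∈ WW V H R, l • w = w ∧ co w = y}
      add_mem' := by
        rintro _ _ ⟨w, hw, h1, rfl⟩ ⟨w', hw', h1', rfl⟩
        exact ⟨w + w', add_mem hw hw', by rw [smul_add, h1, h1'], s.add _ hw _ hw'⟩
      zero_mem' := ⟨0, zero_mem _, smul_zero _, s.co_zero⟩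
      neg_mem' := by
        rintro _ ⟨w, hw, h1, rfl⟩
        refine ⟨w, hw, h1, ?_⟩
        funext i x
        exact (by decide : ∀ a : ZMod 2, a = -a) _ }
  have hS : ∀ y, y ∈ S ↔ ∃ w ∈ WW V H R, l • w = w ∧ co w = y := fun y => Iff.rfl
  -- the pairs commuting with `l`
  have hpair : ∀ (i : Fin k) (a b : Fin (2 ^ m + 1)), a ≠ b → (i = j → a ≠ p ∧ a ≠ q ∧ b ≠ p ∧ b ≠ q) →
      (fun i' x => if i' = i ∧ (x = a ∨ x = b) then (1 : ZMod 2) else 0) ∈ S := by
    intro i a b hab hij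
    obtain ⟨c, hc⟩ := s.exists_ne {a, b, p, q} (Finset.card_le_four)
    simp only [Finset.mem_insert, Finset.mem_singleton, not_or] at hc
    obtain ⟨hca, hcb, hcp, hcq⟩ := hc
    obtain ⟨z, hz, hzc⟩ := s.exists_pair i (a := a) (b := c) (Ne.symm hca)
    obtain ⟨g, hg⟩ := s.exists_lk (Pi.mulSingle i (Equiv.swap a b))
    refine ⟨g • z + z, add_mem (smul_mem_WW hg.1 hz) hz, ?_, ?_⟩
    · refine s.fix_add h2v h hg ?_ hz ?_
      · by_cases h1 : i = j
        · obtain ⟨h2, h3, h4, h5⟩ := hij h1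
          subst h1
          have h6 : Equiv.swap p q * Equiv.swap a b = Equiv.swap a b * Equiv.swap p q := by
            apply Equiv.Perm.Disjoint.commute
            rw [Equiv.Perm.disjoint_iff_disjoint_support, Equiv.Perm.support_swap hpq,
              Equiv.Perm.support_swap hab]
            rw [Finset.disjoint_left]
            intro x hx
            simp only [Finset.mem_insert, Finset.mem_singleton] at hx ⊢
            rcases hx with rfl | rfl
            · rintro (rfl | rfl)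
              · exact h2 rfl
              · exact h4 rfl
            · rintro (rfl | rfl)
              · exact h3 rfl
              · exact h5 rfl
          have e := Pi.mulSingle_mul (f := fun _ : Fin k => Equiv.Perm (Fin (2 ^ m + 1))) i (Equiv.swap p q) (Equiv.swap a b)
          have e' := Pi.mulSingle_mul (f := fun _ : Fin k => Equiv.Perm (Fin (2 ^ m + 1))) i (Equiv.swap a b) (Equiv.swap p q)
          rw [← e, ← e', h6]
        · exact (Pi.mulSingle_commute (f := fun _ : Fin k => Equiv.Perm (Fin (2 ^ m + 1))) (Ne.symm h1)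
            (Equiv.swap p q) (Equiv.swap a b)).eq
      · rw [hzc, hzc]
        by_cases h1 : i = j
        · obtain ⟨h2, h3, h4, h5⟩ := hij h1
          rw [if_neg, if_neg]
          · rintro ⟨-, h6 | h6⟩
            · exact h3 h6.symm
            · exact hcq h6.symm
          · rintro ⟨-, h6 | h6⟩
            · exact h2 h6.symm
            · exact hcp h6.symm
        · rw [if_neg (fun h6 => h1 h6.1.symm), if_neg (fun h6 => h1 h6.1.symm)]
    · funext i' x
      rw [s.co_swap_ne hg hz (by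
        rw [hzc, hzc, if_pos ⟨rfl, Or.inl rfl⟩, if_neg]
        · exact one_ne_zero
        · rintro ⟨-, h6 | h6⟩
          · exact hab h6.symm
          · exact hcb h6.symm)]
  have hpq' : (fun i' x => if i' = j ∧ (x = p ∨ x = q) then (1 : ZMod 2) else 0) ∈ S := by
    obtain ⟨c, hc⟩ := s.exists_ne {p, q} (Finset.card_le_two.trans (by norm_num))
    simp only [Finset.mem_insert, Finset.mem_singleton, not_or] at hc
    obtain ⟨z, hz, hzc⟩ := s.exists_pair j (a := p) (b := c) (Ne.symm hc.1)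
    have hne : co z j p ≠ co z j q := by
      rw [hzc, hzc, if_pos ⟨rfl, Or.inl rfl⟩, if_neg]
      · exact one_ne_zero
      · rintro ⟨-, h6 | h6⟩
        · exact hpq h6.symm
        · exact hc.2 h6.symm
    refine ⟨l • z + z, add_mem (smul_mem_WW h.1 hz) hz, ?_, ?_⟩
    · have h1 := h.mul h
      have e : (Pi.mulSingle j (Equiv.swap p q) * Pi.mulSingle j (Equiv.swap p q) :
          Fin k → Equiv.Perm (Fin (2 ^ m + 1))) = 1 := by
        rw [← Pi.mulSingle_mul (f := fun _ : Fin k => Equiv.Perm (Fin (2 ^ m + 1))), Equiv.swap_mul_self]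
        exact Pi.mulSingle_one (M := fun _ : Fin k => Equiv.Perm (Fin (2 ^ m + 1))) j
      rw [e] at h1
      have h2 := s.lk_eq h1 s.one z hz
      rw [mul_smul, one_smul] at h2
      rw [smul_add, h2, add_comm]
    · funext i' x
      rw [s.co_swap_ne h hz hne]
  obtain ⟨c, hc⟩ := s.exists_ne {p, q} (Finset.card_le_two.trans (by norm_num))
  simp only [Finset.mem_insert, Finset.mem_singleton, not_or] at hc
  obtain ⟨w', hw', h1, h2⟩ := mem_of_pairs S j p q c hpq hc.1 hc.2 hpair hpq' (co w) (s.even w hw) he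
  have h3 : co (w + w') = 0 := by
    rw [s.add _ hw _ hw', h2]
    funext i x
    exact hz2 _
  have h4 := h.2.2 _ (add_mem hw hw') h3
  rw [smul_add, h1] at h4
  exact add_right_cancel h4

/-! ### The canonical vectors -/

omit s in
variable (V H R co) in
/-- `v` is the canonical vector `{p, q}` of the block `j` -/
def _root_.Cfsg.Agent.Omega.NO1.TH.K.IsF (j : Fin k) (p q : Fin (2 ^ m + 1)) (v : V) : Prop :=
  ∃ l, Lk V H R co l (Pi.mulSingle j (Equiv.swap p q)) ∧ ∃ w ∈ WW V H R, co w j p ≠ co w j q ∧ v = l • w + w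

end KSym

end

namespace IsF

variable {H R : Subgroup Y} {k m : ℕ} {co : V → Fin k → Fin (2 ^ m + 1) → ZMod 2} {j : Fin k}
  {p q r : Fin (2 ^ m + 1)} {v u : V}

theorem mem (h : IsF V H R co j p q v) : v ∈ WW V H R := by
  obtain ⟨l, hl, w, hw, _, rfl⟩ := h
  exact add_mem (smul_mem_WW hl.1 hw) hw

theorem symm (h : IsF V H R co j p q v) : IsF V H R co j q p v := by
  obtain ⟨l, hl, w, hw, hne, rfl⟩ := h
  rw [Equiv.swap_comm] at hl
  exact ⟨l, hl, w, hw, hne.symm, rfl⟩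

theorem ne (h : IsF V H R co j p q v) : p ≠ q := by
  rintro rfl
  obtain ⟨l, hl, w, hw, hne, _⟩ := h
  exact hne rfl

end IsF

namespace KSym

variable {H R : Subgroup Y} {k m : ℕ} {co : V → Fin k → Fin (2 ^ m + 1) → ZMod 2} (s : KSym V H R k m co)
include s

theorem exists_isF (j : Fin k) {p q : Fin (2 ^ m + 1)} (hpq : p ≠ q) : ∃ v, IsF V H R co j p q v := by
  obtain ⟨l, hl⟩ := s.exists_lk (Pi.mulSingle j (Equiv.swap p q))
  obtain ⟨c, hc⟩ := s.exists_ne {p, q} (Finset.card_le_two.trans (by norm_num))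
  simp only [Finset.mem_insert, Finset.mem_singleton, not_or] at hc
  obtain ⟨z, hz, hzc⟩ := s.exists_pair j (a := p) (b := c) (Ne.symm hc.1)
  refine ⟨_, l, hl, z, hz, ?_, rfl⟩
  rw [hzc, hzc, if_pos ⟨rfl, Or.inl rfl⟩, if_neg]
  · exact one_ne_zero
  · rintro ⟨-, h6 | h6⟩
    · exact hpq h6.symm
    · exact hc.2 h6.symm

theorem co_isF {j : Fin k} {p q : Fin (2 ^ m + 1)} {v : V} (h : IsF V H R co j p q v) (i : Fin k)
    (x : Fin (2 ^ m + 1)) : co v i x = if i = j ∧ (x = p ∨ x = q) then 1 else 0 := by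
  obtain ⟨l, hl, w, hw, hne, rfl⟩ := h
  exact s.co_swap_ne hl hw hne i x

/-- uniqueness -/
theorem isF_eq (h2v : ∀ v : V, v + v = 0) {j : Fin k} {p q : Fin (2 ^ m + 1)} {v v' : V}
    (h : IsF V H R co j p q v) (h' : IsF V H R co j p q v') : v = v' := by
  obtain ⟨l, hl, w, hw, hne, rfl⟩ := h
  obtain ⟨l', hl', w', hw', hne', rfl⟩ := h'
  have h1 := s.lk_eq hl' hl w' hw'
  have h2 : co (w + w') j p = co (w + w') j q := by
    rw [s.add _ hw _ hw', Pi.add_apply, Pi.add_apply, Pi.add_apply]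
    exact (by decide : ∀ a b c d : ZMod 2, a ≠ b → c ≠ d → a + c = b + d) _ _ _ _ hne hne'
  have h3 := s.fix_of_eq h2v hl (add_mem hw hw') h2
  rw [h1]
  rw [smul_add] at h3
  -- `l w + l w' = w + w'`
  have h4 : l • w + w + (l • w' + w') = 0 := by
    have e : l • w + w + (l • w' + w') = (l • w + l • w') + (w + w') := by abel
    rw [e, h3, h2v]
  have e : l • w + w = l • w + w + (l • w' + w') + (l • w' + w') := by rw [add_assoc, h2v, add_zero]
  rw [e, h4, zero_add]

theorem add_eq (h2v : ∀ v : V, v + v = 0) {j : Fin k} {p q : Fin (2 ^ m + 1)} {l : Y}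
    (hl : Lk V H R co l (Pi.mulSingle j (Equiv.swap p q))) {w : V} (hw : w ∈ WW V H R) :
    l • w + w = 0 ∨ IsF V H R co j p q (l • w + w) := by
  by_cases h : co w j p = co w j q
  · left
    rw [s.fix_of_eq h2v hl hw h, h2v]
  · exact Or.inr ⟨l, hl, w, hw, h, rfl⟩

theorem smul_isF {g : Y} (hg : g ∈ H) {σ : Equiv.Perm (Fin k)} {τ : Fin k → Equiv.Perm (Fin (2 ^ m + 1))}
    (hgs : ActS V H R co g σ τ) {j : Fin k} {p q : Fin (2 ^ m + 1)} {v : V} (h : IsF V H R co j p q v) :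
    IsF V H R co (σ j) (τ j p) (τ j q) (g • v) := by
  obtain ⟨l, hl, w, hw, hne, rfl⟩ := h
  refine ⟨g * l * g⁻¹, s.lk_conj hg hgs hl, g • w, smul_mem_WW hg hw, ?_, ?_⟩
  · rw [hgs w hw, hgs w hw]
    exact hne
  · rw [smul_add, mul_smul, mul_smul, inv_smul_smul]

theorem add_isF (h2v : ∀ v : V, v + v = 0) {j : Fin k} {p q r : Fin (2 ^ m + 1)} {u v : V} (hpr : p ≠ r)
    (hu : IsF V H R co j p q u) (hv : IsF V H R co j q r v) : IsF V H R co j p r (u + v) := by
  have hpq := hu.ne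
  have hqr := hv.ne
  obtain ⟨l, hl, w, hw, hne, hu'⟩ := id hu
  have h1 : IsF V H R co j p q (l • v + v) := by
    refine ⟨l, hl, v, hv.mem, ?_, rfl⟩
    rw [s.co_isF hv, s.co_isF hv, if_neg, if_pos ⟨rfl, Or.inl rfl⟩]
    · exact zero_ne_one
    · rintro ⟨-, h6 | h6⟩
      · exact hpq h6
      · exact hpr h6
  have h2 := s.isF_eq h2v hu h1
  have h3 := s.smul_isF hl.1 hl.2.1 hv
  rw [Pi.mulSingle_eq_same, Equiv.swap_apply_right, Equiv.swap_apply_of_ne_of_ne hpr.symm hqr.symm,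
    Equiv.Perm.one_apply] at h3
  rw [h2, add_assoc, h2v, add_zero]
  exact h3

omit s in
variable (V H R co) in
/-- the point vectors -/
def PtS : Set V := {v | ∃ j, ∃ q, q ≠ 0 ∧ IsF V H R co j q 0 v}

theorem isF_mem (h2v : ∀ v : V, v + v = 0) {j : Fin k} {p q : Fin (2 ^ m + 1)} {v : V}
    (h : IsF V H R co j p q v) : v ∈ AddSubgroup.closure (PtS V H R co) := by
  by_cases hq : q = 0
  · subst hq
    exact AddSubgroup.subset_closure ⟨j, p, h.ne, h⟩
  by_cases hp : p = 0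
  · subst hp
    exact AddSubgroup.subset_closure ⟨j, q, h.ne.symm, h.symm⟩
  obtain ⟨a, ha⟩ := s.exists_isF j hp
  obtain ⟨b, hb⟩ := s.exists_isF j hq
  have h1 := s.isF_eq h2v h (s.add_isF h2v h.ne ha hb.symm)
  rw [h1]
  exact add_mem (AddSubgroup.subset_closure ⟨j, p, hp, ha⟩) (AddSubgroup.subset_closure ⟨j, q, hq, hb⟩)

/-- `h w + w` lies in the span of the point vectors, for `h` acting as `τ` and trivially on `D₀` -/
theorem lk_add_mem (h2v : ∀ v : V, v + v = 0) (τ : Fin k → Equiv.Perm (Fin (2 ^ m + 1))) {h : Y}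
    (hh : Lk V H R co h τ) {w : V} (hw : w ∈ WW V H R) : h • w + w ∈ AddSubgroup.closure (PtS V H R co) := by
  classical
  let Z := AddSubgroup.closure (PtS V H R co)
  let G0 : Subgroup (Fin k → Equiv.Perm (Fin (2 ^ m + 1))) :=
    { carrier := {τ | ∀ h, Lk V H R co h τ → ∀ w ∈ WW V H R, h • w + w ∈ Z}
      mul_mem' := by
        intro τ τ' h1 h2 h hh w hw
        obtain ⟨g, hg⟩ := s.exists_lk τ
        obtain ⟨g', hg'⟩ := s.exists_lk τ'
        rw [s.lk_eq hh (hg.mul hg') w hw, mul_smul]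
        have e : g • g' • w + w = (g • g' • w + g' • w) + (g' • w + w) := by
          have e1 : (g • g' • w + g' • w) + (g' • w + w) = g • g' • w + (g' • w + g' • w) + w := by abel
          rw [e1, h2v, add_zero]
        rw [e]
        exact add_mem (h1 g hg _ (smul_mem_WW hg'.1 hw)) (h2 g' hg' w hw)
      one_mem' := by
        intro h hh w hw
        rw [s.lk_eq hh s.one w hw, one_smul, h2v]
        exact zero_mem _
      inv_mem' := by
        intro τ h1 h hh w hw
        have h2 := h1 h⁻¹ (by have := hh.inv; rwa [inv_inv] at this) (h • w) (smul_mem_WW hh.1 hw)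
        rw [inv_smul_smul, add_comm] at h2
        exact h2 }
  have hG0 : ∀ τ, τ ∈ G0 ↔ ∀ h, Lk V H R co h τ → ∀ w ∈ WW V H R, h • w + w ∈ Z := fun τ => Iff.rfl
  have h1 : ∀ j (π : Equiv.Perm (Fin (2 ^ m + 1))), (Pi.mulSingle j π : Fin k → Equiv.Perm (Fin (2 ^ m + 1))) ∈ G0 := by
    intro j
    have h2 : (⊤ : Subgroup (Equiv.Perm (Fin (2 ^ m + 1)))) ≤
        G0.comap (MonoidHom.mulSingle (fun _ : Fin k => Equiv.Perm (Fin (2 ^ m + 1))) j) := by
      rw [← Equiv.Perm.closure_isSwap, closure_le]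
      rintro π ⟨a, b, hab, rfl⟩
      rw [SetLike.mem_coe, mem_comap, hG0]
      intro h hh w hw
      rcases s.add_eq h2v (p := a) (q := b) (j := j) hh hw with h3 | h3
      · rw [h3]; exact zero_mem _
      · exact s.isF_mem h2v h3
    intro π
    exact h2 (mem_top π)
  have h2 : τ ∈ G0 := Subgroup.pi_mem_of_mulSingle_mem τ fun j => h1 j (τ j)
  exact (hG0 τ).1 h2 h hh w hw

theorem co_zero_fix0 {r : Y} (hr : r ∈ R) (hRH : R ≤ H) : ∃ σ τ, ActS V H R co r σ τ ∧ ∀ i, τ i 0 = 0 := by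
  obtain ⟨σ, τ, h⟩ := s.perm r (hRH hr)
  exact ⟨σ, τ, h, s.fix0 r hr σ τ h⟩

/-- `R` permutes the point vectors -/
theorem smul_pt (hRH : R ≤ H) {r : Y} (hr : r ∈ R) {v : V} (hv : v ∈ PtS V H R co) : r • v ∈ PtS V H R co := by
  obtain ⟨j, q, hq, h⟩ := hv
  obtain ⟨σ, τ, h1, h0⟩ := s.co_zero_fix0 hr hRH
  have h2 := s.smul_isF (hRH hr) h1 h
  rw [h0] at h2
  refine ⟨σ j, τ j q, fun h3 => hq ?_, h2⟩
  rw [← h0 j] at h3
  exact (τ j).injective h3

/-- **`W = V₀ + ⟨points⟩`** -/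
theorem WW_le_pts (h2v : ∀ v : V, v + v = 0) (hRH : R ≤ H) :
    WW V H R ≤ fx V R ⊔ AddSubgroup.closure (PtS V H R co) := by
  set Z := AddSubgroup.closure (PtS V H R co) with hZ
  have hZW : Z ≤ WW V H R := by
    rw [hZ, AddSubgroup.closure_le]
    rintro v ⟨j, q, _, h⟩
    exact h.mem
  have hNW : fx V R ⊔ Z ≤ WW V H R := sup_le fx_le_WW hZW
  have hZR : ∀ r ∈ R, ∀ v ∈ Z, r • v ∈ Z := by
    intro r hr v hv
    rw [hZ] at hv
    induction hv using AddSubgroup.closure_induction with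
    | mem v hv => exact AddSubgroup.subset_closure (s.smul_pt hRH hr hv)
    | zero => rw [smul_zero]; exact zero_mem _
    | add a b _ _ h1 h2 => rw [smul_add]; exact add_mem h1 h2
    | neg a _ h1 => rw [smul_neg]; exact neg_mem h1
  have hNR : ∀ r ∈ R, ∀ v ∈ fx V R ⊔ Z, r • v ∈ fx V R ⊔ Z := by
    intro r hr v hv
    rw [AddSubgroup.mem_sup] at hv
    obtain ⟨x, hx, z, hz, rfl⟩ := hv
    rw [smul_add, hx r hr]
    exact add_mem ((le_sup_left : fx V R ≤ _) hx) ((le_sup_right : Z ≤ fx V R ⊔ Z) (hZR r hr z hz))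
  have hNL : ∀ h, ∀ τ, Lk V H R co h τ → ∀ v ∈ fx V R ⊔ Z, h • v ∈ fx V R ⊔ Z := by
    intro h τ hh v hv
    have h1 := s.lk_add_mem h2v τ hh (hNW hv)
    have e : h • v = v + (h • v + v) := by
      rw [add_comm (h • v) v, ← add_assoc, h2v, zero_add]
    rw [e]
    exact add_mem hv ((le_sup_right : Z ≤ fx V R ⊔ Z) h1)
  let K : Subgroup Y :=
    { carrier := {x | x ∈ H ∧ ∀ v ∈ fx V R ⊔ Z, x • v ∈ fx V R ⊔ Z ∧ x⁻¹ • v ∈ fx V R ⊔ Z}
      one_mem' := ⟨H.one_mem, fun v hv => by rw [inv_one, one_smul]; exact ⟨hv, hv⟩⟩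
      mul_mem' := fun {x y} hx hy => ⟨H.mul_mem hx.1 hy.1, fun v hv => by
        rw [mul_inv_rev, mul_smul, mul_smul]
        exact ⟨(hx.2 _ (hy.2 v hv).1).1, (hy.2 _ (hx.2 v hv).2).2⟩⟩
      inv_mem' := fun {x} hx => ⟨H.inv_mem hx.1, fun v hv => by
        rw [inv_inv]
        exact ⟨(hx.2 v hv).2, (hx.2 v hv).1⟩⟩ }
  have hK : ∀ x, x ∈ K ↔ x ∈ H ∧ ∀ v ∈ fx V R ⊔ Z, x • v ∈ fx V R ⊔ Z ∧ x⁻¹ • v ∈ fx V R ⊔ Z := fun x => Iff.rfl
  have h1 : K = H := by
    apply s.gen
    · intro r hr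
      exact ⟨hRH hr, fun v hv => ⟨hNR r hr v hv, hNR _ (R.inv_mem hr) v hv⟩⟩
    · exact fun x hx => hx.1
    · intro h hh τ h1 h2
      exact ⟨hh, fun v hv => ⟨hNL h τ ⟨hh, h1, h2⟩ v hv, hNL _ τ⁻¹ (Lk.inv ⟨hh, h1, h2⟩) v hv⟩⟩
  apply WW_le
  intro x hx w hw
  rw [← h1] at hx
  exact (hx.2 w ((le_sup_left : fx V R ≤ fx V R ⊔ Z) hw)).1

theorem pts (h2v : ∀ v : V, v + v = 0) (hRH : R ≤ H) : Pts V H R (PtS V H R co) where
  le := by
    rintro v ⟨j, q, _, h⟩
    exact h.mem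
  gen := s.WW_le_pts h2v hRH
  smul := fun r hr p hp => s.smul_pt hRH hr hp
  ind := by
    rintro p₁ ⟨j₁, q₁, hq₁, h₁⟩ p₂ ⟨j₂, q₂, hq₂, h₂⟩ p₃ ⟨j₃, q₃, hq₃, h₃⟩ p₄ ⟨j₄, q₄, hq₄, h₄⟩ h
    have h5 : co (p₁ + p₂) j₁ q₁ = co (p₃ + p₄) j₁ q₁ := by rw [h]
    rw [s.add _ h₁.mem _ h₂.mem, s.add _ h₃.mem _ h₄.mem, Pi.add_apply, Pi.add_apply, Pi.add_apply, Pi.add_apply,
      s.co_isF h₁, s.co_isF h₂, s.co_isF h₃, s.co_isF h₄, if_pos ⟨rfl, Or.inl rfl⟩] at h5
    have key : ∀ {j : Fin k} {q : Fin (2 ^ m + 1)} {v : V}, IsF V H R co j q 0 v →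
        (j₁ = j ∧ (q₁ = q ∨ q₁ = 0)) → p₁ = v := by
      rintro j q v hv ⟨rfl, h7 | h7⟩
      · subst h7
        exact s.isF_eq h2v h₁ hv
      · exact absurd h7 hq₁
    by_cases c₂ : j₁ = j₂ ∧ (q₁ = q₂ ∨ q₁ = 0)
    · exact Or.inl (key h₂ c₂)
    by_cases c₃ : j₁ = j₃ ∧ (q₁ = q₃ ∨ q₁ = 0)
    · exact Or.inr (Or.inl (key h₃ c₃))
    by_cases c₄ : j₁ = j₄ ∧ (q₁ = q₄ ∨ q₁ = 0)
    · exact Or.inr (Or.inr (key h₄ c₄))
    rw [if_neg c₂, if_neg c₃, if_neg c₄, add_zero, add_zero] at h5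
    exact absurd h5 one_ne_zero

end KSym

end Cfsg.Agent.Omega.NO1.TH.K

end
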