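import Cfsg.Agent.Mrg.Omega.NO1.TH.K.SDTwoB
import Cfsg.Agent.Mrg.Omega.NO1.TH.K.SD
import Cfsg.Agent.Mrg.Omega.NO1.TH.K.SPrs
import Cfsg.Agent.Mrg.Omega.NO1.TH.K.SZ
import Cfsg.Agent.Mrg.Omega.NO1.AB.Beta
import Cfsg.Agent.Mrg.Omega.NO1.TH.K.EOne
import Cfsg.Agent.Mrg.Omega.NO1.TH.NoOvV
import Cfsg.Agent.Mrg.Omega.NO1.TH.K.SPI

section


/-!
# N1, `S_n` type: case (d) is impossible (bb OMEGA 21465 (3), 21636)

`TwoS.false_of_D` : in a world, an opposite member `D ≤ H` has `W' ≤ E_D`.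
-/

set_option autoImplicit false
set_option linter.unusedSectionVars false
set_option linter.dupNamespace false

namespace Cfsg.Agent.Omega.NO1.TH.K

open Subgroup Cfsg.Agent.Omega.NO1.AB Cfsg.Agent.Omega.FFBr
open scoped Pointwise

universe u

variable {Y : Type u} [Group Y] {V : Type u} [AddCommGroup V] [DistribMulAction Y V] {U : Set (Subgroup Y)}
  {T : Sylow 2 Y} {M H H' R : Subgroup Y} {k m : ℕ} {co co' : V → Fin k → Fin (2 ^ m + 1) → ZMod 2} {t : Y}
  [Finite Y] [Finite V]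

/-- all members have the same order -/
theorem Amb.card_eq (h : Amb V U T M) {A B : Subgroup Y} (hA : A ∈ U) (hB : B ∈ U) : Nat.card A = Nat.card B := by
  obtain ⟨y, hy⟩ := h.cls.eq A hA B hB
  rw [hy, conj_card]

namespace TwoS

variable (h : TwoS V U T M H H' R k m co co' t)
include h

/-- the pair of a member outside `M` contains a letter `0` -/
theorem zero_letter {D : Subgroup Y} (hDH : D ≤ H) (hDM : ¬ D ≤ M) {b u : Y} {i : Fin k}
    {x y : Fin (2 ^ m + 1)} {f : V} (p : Pk V H R co D b u i x y f) : x = 0 ∨ y = 0 := by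
  by_contra hcon
  push Not at hcon
  apply hDM
  have h1 := h.sw_mem_M (hDH p.uD) hcon.1 hcon.2 p.sw.act
  have h2 : b ∈ M := h.amb.TM (h.a.RT (QQ_le p.bQ))
  intro d hd
  rcases p.all d hd with rfl | rfl | rfl | rfl
  · exact one_mem _
  · exact h2
  · exact h1
  · exact M.mul_mem h2 h1

/-- members of order 4 outside `M` are opposite -/
theorem oppS_of_four {D : Subgroup Y} (hD : D ∈ U) (hDH : D ≤ H) (hDM : ¬ D ≤ M) (c4 : Nat.card D = 4) :
    OppS V M H R co D := by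
  have two := h.amb.two
  obtain ⟨b, u, i, x, y, f, p⟩ := h.exists_pk hD hDH c4 (h.not_Q hDM)
  have hE := Amal.WW_le_Ee h.a h.amb h.we hD hDH
  have key : ∀ v ∈ brk (WW V H R) D, v = 0 ∨ v = f := by
    intro v hv
    induction hv using AddSubgroup.closure_induction with
    | mem v hv =>
      obtain ⟨w, hw, d, hd, rfl⟩ := hv
      rcases p.EE d hd w (hE hw) with h1 | h1
      · left; rw [h1, two]
      · right; exact h1
    | zero => exact Or.inl rfl
    | add a b _ _ h1 h2 =>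
      rcases h1 with rfl | rfl <;> rcases h2 with rfl | rfl
      · left; rw [add_zero]
      · right; rw [zero_add]
      · right; rw [add_zero]
      · left; rw [two]
    | neg a _ h1 =>
      have e : -a = a := neg_eq_of_add_eq_zero_left (two a)
      rw [e]; exact h1
  refine ⟨hDM, fun v hv hc => ?_⟩
  rcases key v hv with rfl | rfl
  · exact h.K.zeroD
  · exfalso
    -- the letter `x ≠ 0` of the pair `{x, 0}` has a partner
    have kk : ∀ {x : Fin (2 ^ m + 1)}, x ≠ 0 → co v = indi i x 0 → False := by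
      intro x hx0 hco
      obtain ⟨z, hz⟩ := h.prs.partner i x hx0
      have h2 := hc i x z hz
      rw [hco] at h2
      unfold indi at h2
      rw [if_pos ⟨rfl, Or.inl rfl⟩] at h2
      have hz0 : z ≠ 0 := by
        obtain ⟨hxz, r, hr, hra, _⟩ := hz
        intro hz0
        subst hz0
        have h3 := h.K.fix0 r hr _ _ hra i
        rw [Function.update_self, Equiv.swap_apply_right] at h3
        exact hx0 h3
      rw [if_neg (fun h3 => h3.2.elim (fun h4 => hz.1 h4.symm) hz0)] at h2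
      exact one_ne_zero h2
    rcases h.zero_letter hDH hDM p with h1 | h1
    · subst h1
      exact kk p.sw.ne.symm (by rw [p.co_f, indi_comm])
    · subst h1
      exact kk p.sw.ne p.co_f

/-- **(d)** for all members of `H` outside `M` -/
theorem d_side (c4 : ∀ D ∈ U, Nat.card D = 4) (ind : ∀ D ∈ U, (Ee V D).index = 2) {D : Subgroup Y} (hD : D ∈ U)
    (hDH : D ≤ H) (hDM : ¬ D ≤ M) :
    ¬ WW V H' R ≤ Ee V D ∧ ∃ b ∈ D, b ∈ QQ H R ∧ ∃ i x y, Sw V H' R co' b i x y := by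
  have hO := h.oppS_of_four hD hDH hDM (c4 D hD)
  have hE : ¬ WW V H' R ≤ Ee V D := by
    intro h1
    have h2 := (h.e_card h.prs hD hDH hO h1).2.2
    have h3 := c4 D hD
    omega
  refine ⟨hE, ?_⟩
  have hp := h.K'.pts h.amb.two h.a'.RH
  obtain ⟨b, hb, _, _, _, _, _, h1⟩ := h.d hD hDH (h.not_Q hDM) hE (h.gg_d hD hDH hO) hp.le hp.gen hp.smul hp.ind
  obtain ⟨_, i, x, y, hxy, hact, _⟩ := h1 (ind D hD)
  exact ⟨b, hb.1, hb.2, i, x, y, hxy, hact⟩

/-- **(d) is impossible** -/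
theorem false_of_D {a : ℕ} (w : World V U T M a) {D : Subgroup Y} (hD : D ∈ U) (hDH : D ≤ H)
    (hO : OppS V M H R co D) (hE : ¬ WW V H' R ≤ Ee V D) : False := by
  have hp := h.K'.pts h.amb.two h.a'.RH
  obtain ⟨_, _, _, _, _, h4, _, _⟩ :=
    h.d hD hDH (h.not_Q hO.1) hE (h.gg_d hD hDH hO) hp.le hp.gen hp.smul hp.ind
  have c4 : ∀ B ∈ U, Nat.card B = 4 := fun B hB => by
    rw [← Amb.card_eq h.amb hD hB, h4]
  have ha : a = 2 := by
    have h1 := w.pf D hD
    rw [h4] at h1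
    have h2 := w.two_le
    have h3 : a ≤ 2 := by
      by_contra h5
      push Not at h5
      nlinarith
    omega
  have ind : ∀ B ∈ U, (Ee V B).index = 2 := fun B hB => by rw [w.ind B hB, ha]
  refine S4.false (V := V) (U := U) (T := T) (M := M) (H := H) (H' := H') (R := R) (co := co) (co' := co') (t := t)
    { s := h
      c4 := c4
      ind := ind
      noff := w.noff
      d := fun B hB hBH hBM => h.d_side c4 ind hB hBH hBM
      d' := fun B hB hBH hBM => h.swap.d_side c4 ind hB hBH hBM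
      ex := ⟨D, hD, hDH, hO.1⟩
      ex' := ⟨MulAut.conj t • D, h.amb.cls.conj D hD t, ?_, ?_⟩ }
  · rw [h.H'_eq]
    exact conj_le_conj t hDH
  · intro h1
    apply hO.1
    have htM : t ∈ M := h.amb.TM h.a.t_T
    intro d hd
    have h2 := M.mul_mem (M.mul_mem (M.inv_mem htM) (h1 (conj_mem_conj (g := t) hd))) htM
    have e : t⁻¹ * (t * d * t⁻¹) * t = d := by group
    rwa [e] at h2

/-- `W' ≤ E_D` for the opposite members -/
theorem le_of_opp {a : ℕ} (w : World V U T M a) {D : Subgroup Y} (hD : D ∈ U) (hDH : D ≤ H)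
    (hO : OppS V M H R co D) : WW V H' R ≤ Ee V D := by
  by_contra hE
  exact h.false_of_D w hD hDH hO hE

end TwoS

end Cfsg.Agent.Omega.NO1.TH.K

end

section


/-!
# N1, BETA, `S_n` type: (z) over `TwoS` (bb OMEGA 20646 / 21203 / 21465 (5))

`TwoS.z_D` : `W' ≤ E_D` for all members `D ≤ H`; `TwoS.z_le₁`, `TwoS.z_le₂` : the fields `le₁`, `le₂` of `LIn`
(bb OMEGA 21659).  Hypotheses: (a) for the members `≤ H`, case (e) `W' ≤ E_A` for one `A`, and `S_X ≤ K` for this `A`.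
-/

set_option autoImplicit false
set_option linter.unusedSectionVars false
set_option linter.dupNamespace false

namespace Cfsg.Agent.Omega.NO1.TH.K

open Subgroup Cfsg.Agent.Omega.NO1.AB
open scoped Pointwise

universe u

variable {Y : Type u} [Group Y] {V : Type u} [AddCommGroup V] [DistribMulAction Y V] [Finite Y] [Finite V]
  {U : Set (Subgroup Y)} {T : Sylow 2 Y} {M H H' R : Subgroup Y} {k m : ℕ}
  {co co' : V → Fin k → Fin (2 ^ m + 1) → ZMod 2} {t : Y}

namespace TwoS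

variable (h : TwoS V U T M H H' R k m co co' t)
include h

theorem star' {A : Subgroup Y} (hA : A ∈ U) (hAH : A ≤ H) (hAM : ¬ A ≤ M) : ∃ b ∈ A ⊓ QQ H R, b ∉ QQ H' R := by
  have h1 := h.a.star h.amb h.we hA hAH hAM
  rwa [← QQ_conj h.a.t_norm (fun r hr => h.a.symm_smul hr), ← h.H'_eq] at h1

theorem not_le_Q {A : Subgroup Y} (hAM : ¬ A ≤ M) : ¬ A ≤ QQ H R := fun h1 =>
  hAM (h1.trans (QQ_le.trans (h.a.RT.trans h.amb.TM)))

/-- all members have order `≥ 16` in case (e) -/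
theorem card_ge {A : Subgroup Y} (hA : A ∈ U) (hAH : A ≤ H) (hAM : ¬ A ≤ M) (hW' : WW V H' R ≤ Ee V A)
    (hSK : ∀ w, w ∉ Ee V A → ∀ s ∈ A, s • w + w ∈ WW V H R ⊔ WW V H' R ⊔ fx V A → s ∈ QQ H R ∧ s ∈ QQ H' R)
    {D : Subgroup Y} (hD : D ∈ U) : 16 ≤ Nat.card D := by
  obtain ⟨w, hw⟩ := (h.amb.cls.mem A hA).ne
  obtain ⟨b, hb, hb'⟩ := h.star' hA hAH hAM
  have h1 := (Amal.e_card h.a h.a' h.amb h.we h.we' hA hAH hW' hw (h.not_le_Q hAM) (fun h2 => hb' (h2 hb))
    (hSK w hw)).2.2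
  obtain ⟨y, rfl⟩ := h.amb.cls.eq A hA D hD
  rwa [conj_card]

/-- **(z), members**: `W' ≤ E_D` for all members `D ≤ H` -/
theorem z_D (hpre : ∀ D ∈ U, D ≤ H → ∀ w, w ∉ Ee V D → ∀ s ∈ D, s • w + w ∈ WW V H R ⊔ fx V D → s ∈ QQ H R)
    {A : Subgroup Y} (hA : A ∈ U) (hAH : A ≤ H) (hAM : ¬ A ≤ M) (hW' : WW V H' R ≤ Ee V A)
    (hSK : ∀ w, w ∉ Ee V A → ∀ s ∈ A, s • w + w ∈ WW V H R ⊔ WW V H' R ⊔ fx V A → s ∈ QQ H R ∧ s ∈ QQ H' R)
    {D : Subgroup Y} (hD : D ∈ U) (hDH : D ≤ H) : WW V H' R ≤ Ee V D := by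
  have h1 := h.card_ge hA hAH hAM hW' hSK hD
  exact Pts.zD h.amb h.a h.we h.H'_eq (h.K'.pts h.amb.two h.a'.RH) hD hDH (hpre D hD hDH) (by omega)

/-- **(z), `le₁`** : `⟨W'^H⟩ ≤ E_D` for all members `D ≤ H` -/
theorem z_le₁ (hpre : ∀ D ∈ U, D ≤ H → ∀ w, w ∉ Ee V D → ∀ s ∈ D, s • w + w ∈ WW V H R ⊔ fx V D → s ∈ QQ H R)
    {A : Subgroup Y} (hA : A ∈ U) (hAH : A ≤ H) (hAM : ¬ A ≤ M) (hW' : WW V H' R ≤ Ee V A)
    (hSK : ∀ w, w ∉ Ee V A → ∀ s ∈ A, s • w + w ∈ WW V H R ⊔ WW V H' R ⊔ fx V A → s ∈ QQ H R ∧ s ∈ QQ H' R)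
    {D : Subgroup Y} (hD : D ∈ U) (hDH : D ≤ H) : ∀ x ∈ H, ∀ w ∈ WW V H' R, x • w ∈ Ee V D := by
  intro x hx w hw
  have hD' : MulAut.conj x⁻¹ • D ≤ H := by
    intro y hy
    rw [mem_conj, inv_inv] at hy
    have h1 := H.mul_mem (H.mul_mem (H.inv_mem hx) (hDH hy)) hx
    have e : x⁻¹ * (x * y * x⁻¹) * x = y := by group
    rwa [e] at h1
  have h1 := h.z_D hpre hA hAH hAM hW' hSK (h.amb.cls.conj D hD x⁻¹) hD' hw
  rw [Ee_conj, mem_smul_as, inv_inv] at h1
  exact h1

/-- **(z), `le₂`** : `⟨W^H'⟩ ≤ E_A` -/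
theorem z_le₂ {A : Subgroup Y} (hA : A ∈ U) (hAH : A ≤ H) (hAM : ¬ A ≤ M) (hW' : WW V H' R ≤ Ee V A)
    (hSK : ∀ w, w ∉ Ee V A → ∀ s ∈ A, s • w + w ∈ WW V H R ⊔ WW V H' R ⊔ fx V A → s ∈ QQ H R ∧ s ∈ QQ H' R) :
    ∀ x ∈ H', ∀ w ∈ WW V H R, x • w ∈ Ee V A :=
  Pts.zK h.amb h.a h.a' h.we (h.K.pts h.amb.two h.a.RH) hA hAH hAM hW' hSK (h.star' hA hAH hAM)

end TwoS

end Cfsg.Agent.Omega.NO1.TH.K

end

section


/-!
# N1, BETA, `S_n` type: (L1) (bb OMEGA 21480): `LIn` for an opposite member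

`TwoS.lIn` : the input of (L1); `TwoS.not_WE'` : `W' ≰ E_A` for every opposite member `A ≤ H`.
-/

set_option autoImplicit false
set_option linter.unusedSectionVars false
set_option linter.dupNamespace false

namespace Cfsg.Agent.Omega.NO1.TH.K

open Subgroup Cfsg.Agent.Omega.NO1.AB
open scoped Pointwise

universe u

variable {Y : Type u} [Group Y] {V : Type u} [AddCommGroup V] [DistribMulAction Y V]

namespace SI

section basic

variable {H R : Subgroup Y} {k m : ℕ} {co : V → Fin k → Fin (2 ^ m + 1) → ZMod 2}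

theorem dl_comm {k n : ℕ} (i : Fin k) (a b : Fin n) : dl i a b = dl i b a := by
  unfold dl
  rw [add_comm]

theorem zmod_cases (z : ZMod 2) : z = 0 ∨ z = 1 := by revert z; decide

/-- the coordinates of `[Ψ p, P p]` -/
theorem co_brk (K : KSym V H R k m co) (two : ∀ v : V, v + v = 0) {hRH : R ≤ H} {i : Fin k}
    {a b : Fin (2 ^ m + 1)} (hab : a ≠ b) {x : V} (hx : x ∈ brk (Ps K i a b) (Pp V co hRH i a b)) :
    x ∈ WW V H R ∧ (co x = 0 ∨ co x = dl i a b) := by
  have hdd : dl i a b + dl i a b = 0 := by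
    funext j y
    exact CharTwo.add_self_eq_zero _
  induction hx using AddSubgroup.closure_induction with
  | mem v hv =>
    obtain ⟨w, hw, r, hr, rfl⟩ := hv
    have hrw := smul_mem_WW (hRH hr.1) hw.1
    refine ⟨add_mem hrw hw.1, ?_⟩
    rcases hr.2 with h1 | h1
    · left
      rw [fix_of_one K (hRH hr.1) h1 hw.1, two, co_zero K]
    · have h2 : ∀ j c, co (r • w) j c = co w j (tp i a b j c) := by
        intro j c
        have h3 := h1 w hw.1 j (tp i a b j c)
        have e : tp i a b j (tp i a b j c) = c := by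
          have := congrFun (tp_mul_self i a b) j
          rw [Pi.mul_apply] at this
          exact Equiv.ext_iff.1 this c
        rw [e] at h3
        exact h3
      have h4 : ∀ j c, co (r • w + w) j c = (co w i a + co w i b) * dl i a b j c := by
        intro j c
        rw [K.add _ hrw w hw.1, Pi.add_apply, Pi.add_apply, h2, dl_apply]
        by_cases hj : j = i
        · subst hj
          rw [if_pos rfl, tp_self]
          by_cases hc1 : c = a
          · subst hc1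
            rw [Equiv.swap_apply_left, if_pos rfl, if_neg hab, add_zero, mul_one, add_comm]
          by_cases hc2 : c = b
          · subst hc2
            rw [Equiv.swap_apply_right, if_neg hab.symm, if_pos rfl, zero_add, mul_one]
          rw [Equiv.swap_apply_of_ne_of_ne hc1 hc2, if_neg hc1, if_neg hc2, add_zero, mul_zero,
            CharTwo.add_self_eq_zero]
        · rw [if_neg hj, tp_of_ne hj, mul_zero]
          exact CharTwo.add_self_eq_zero _
      rcases zmod_cases (co w i a + co w i b) with h5 | h5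
      · left
        funext j c
        rw [h4, h5, zero_mul]; rfl
      · right
        funext j c
        rw [h4, h5, one_mul]
  | zero => exact ⟨zero_mem _, Or.inl (co_zero K)⟩
  | add y z _ _ h1 h2 =>
    refine ⟨add_mem h1.1 h2.1, ?_⟩
    rw [K.add y h1.1 z h2.1]
    rcases h1.2 with h3 | h3 <;> rcases h2.2 with h4 | h4
    · left; rw [h3, h4, add_zero]
    · right; rw [h3, h4, zero_add]
    · right; rw [h3, h4, add_zero]
    · left; rw [h3, h4, hdd]
  | neg y _ h1 =>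
    have e : -y = y := neg_eq_of_add_eq_zero_left (two y)
    rw [e]
    exact h1

/-- **the support of an exact offender** -/
theorem exact_of [Finite Y] [Finite V] {U : Set (Subgroup Y)} {T : Sylow 2 Y} {M : Subgroup Y} {t : Y}
    (amb : Amb V U T M) (a : Amal U T M H R t) (we : WE V U H R) (K : KSym V H R k m co) {B : Subgroup Y}
    (hBR : B ≤ R) (hBQ : ¬ B ≤ QQ H R)
    (hoff : ∀ b ∈ B, ∃ τ : Fin k → Equiv.Perm (Fin (2 ^ m + 1)), ActS V H R co b 1 τ ∧
      ∀ i x, τ i x ≠ x → ∃ b' ∈ B, ActS V H R co b' 1 (tp i x (τ i x))) :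
    ∃ Δ : Set (Ix V H R co), Δ.Nonempty ∧ (∀ b ∈ B, b ∈ ⨆ p ∈ Δ, Pp V co a.RH p.1.1 p.1.2.1 p.1.2.2) ∧
      ∀ p ∈ Δ, ∀ r ∈ Pp V co a.RH p.1.1 p.1.2.1 p.1.2.2, ∃ b ∈ B, b⁻¹ * r ∈ QQ H R := by
  have hQ : ∀ r ∈ R, ActS V H R co r 1 1 → r ∈ QQ H R := by
    intro r hr h1
    rw [a.mem_QQ_iff amb hr]
    exact fun w hw => fix_of_one K (a.RH hr) h1 hw
  let Δ : Set (Ix V H R co) := {p | ∃ b ∈ B, ActS V H R co b 1 (tp p.1.1 p.1.2.1 p.1.2.2)}
  have hΔ : ∀ i x y, x ≠ y → (∃ b ∈ B, ActS V H R co b 1 (tp i x y)) →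
      ∃ p ∈ Δ, p.1.1 = i ∧ ((p.1.2.1 = x ∧ p.1.2.2 = y) ∨ (p.1.2.1 = y ∧ p.1.2.2 = x)) := by
    rintro i x y hxy ⟨b, hb, h1⟩
    obtain ⟨p, h2, h3⟩ := exists_ix (co := co) ⟨hxy, b, hBR hb, h1⟩
    refine ⟨p, ⟨b, hb, ?_⟩, h2, h3⟩
    rcases h3 with ⟨h3, h4⟩ | ⟨h3, h4⟩
    · rw [h2, h3, h4]; exact h1
    · rw [h2, h3, h4, tp_comm]; exact h1
  have hne : Δ.Nonempty := by
    obtain ⟨b, hb, hbQ⟩ := SetLike.not_le_iff_exists.1 hBQ
    obtain ⟨τ, h1, h2⟩ := hoff b hb
    by_contra hcon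
    apply hbQ
    apply hQ b (hBR hb)
    have h3 : τ = 1 := by
      funext i
      apply Equiv.ext
      intro x
      by_contra h4
      obtain ⟨p, hp, _⟩ := hΔ i x (τ i x) (Ne.symm h4) (h2 i x h4)
      exact hcon ⟨p, hp⟩
    rw [h3] at h1
    exact h1
  refine ⟨Δ, hne, fun b hb => ?_, ?_⟩
  · obtain ⟨τ, h1, h2⟩ := hoff b hb
    exact mem_sup_of K (PI_uniq amb a we K) hne _ (hBR hb) h1 rfl fun i x h3 =>
      hΔ i x (τ i x) (Ne.symm h3) (h2 i x h3)
  · rintro p ⟨b, hb, h1⟩ r ⟨hr, h2⟩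
    rcases h2 with h2 | h2
    · refine ⟨1, B.one_mem, ?_⟩
      rw [inv_one, one_mul]
      exact hQ r hr h2
    · refine ⟨b, hb, hQ _ (R.mul_mem (R.inv_mem (hBR hb)) hr) ?_⟩
      have h3 := actS_mul1 (a.RH hr) (actS_inv1 (a.RH (hBR hb)) h1) h2
      rwa [inv_mul_cancel] at h3

end basic

end SI

open SI

namespace TwoS

variable [Finite Y] [Finite V] {U : Set (Subgroup Y)} {T : Sylow 2 Y} {M H H' R : Subgroup Y} {t : Y} {k m : ℕ}
  {co co' : V → Fin k → Fin (2 ^ m + 1) → ZMod 2}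

/-- **the input of (L1)** -/
theorem lIn (h : TwoS V U T M H (MulAut.conj t • H) R k m co co' t) {A : Subgroup Y} (hA : A ∈ U) (hAH : A ≤ H)
    (hO : OppS V M H R co A) (hE : WW V (MulAut.conj t • H) R ≤ Ee V A) :
    LIn V U M H R t (fun p : Ix V H R co => Pp V co h.a.RH p.1.1 p.1.2.1 p.1.2.2)
      (fun p : Ix V H R co => Ps h.K p.1.1 p.1.2.1 p.1.2.2)
      (fun p : Ix V (MulAut.conj t • H) R co' => Pp V co' h.a'.RH p.1.1 p.1.2.1 p.1.2.2)
      (fun p : Ix V (MulAut.conj t • H) R co' => Ps h.K' p.1.1 p.1.2.1 p.1.2.2) A := by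
  have hS := h.e_SK h.prs hA hAH hO hE
  obtain ⟨Δ, h1, h2, h3⟩ := SI.exact_of h.amb h.a' h.we' h.K' (B := A ⊓ QQ H R) (inf_le_right.trans QQ_le)
    (h.star hA hAH hO.1) (fun b hb => by
      obtain ⟨τ, h4, h5⟩ := (h.e_exact hA hAH hO.1 hE).2 b hb
      exact ⟨τ, h4, fun i x hx => (h5 i x hx).2⟩)
  refine
    { fac := lfac h.amb h.a h.we h.K
      fac' := lfac h.amb h.a' h.we' h.K'
      mA := hA
      AH := hAH
      AM := hO.1
      AQ := h.not_Q hO.1
      WE := h.a.WW_le_Ee h.amb h.we hA hAH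
      pre := h.pre hA hAH
      faith := fun u hu h4 => h.faith_of hA hAH hu h4
      CB := fun v hv => by
        rw [← h.a.fx_eq h.amb h.we hA hAH]
        exact fun b hb => hv b hb.1 hb.2
      CK := fun v hv => by
        rw [← h.e_CK h.prs hA hAH hO hE]
        exact fun b hb => hv b hb.1.1 hb.1.2 hb.2
      le₁ := h.z_le₁ (fun D hD hDH w hw s hs h4 => h.pre hD hDH w hw s hs h4) hA hAH hO.1 hE hS hA hAH
      le₂ := h.z_le₂ hA hAH hO.1 hE hS
      exact := ⟨Δ, h1, fun b hb hbQ => h2 b ⟨hb, hbQ⟩, fun p hp r hr => ?_⟩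
      mov := ?_ }
  · obtain ⟨b, hb, hbr⟩ := h3 p hp r hr
    exact ⟨b, hb.1, hb.2, hbr⟩
  · obtain ⟨i, x, y, hp, h4⟩ := h.exists_mov hA hAH hO
    obtain ⟨p, h5, h6⟩ := exists_ix ((PI_iff h.K h.a.RH).1 hp)
    refine ⟨p, fun z hz hzA => ?_⟩
    obtain ⟨hzW, hz0⟩ := co_brk h.K h.amb.two p.2.1.ne hz
    rcases hz0 with hz0 | hz0
    · exact (SI.mem_D0 h.amb h.a h.we h.K).2 ⟨hzW, hz0⟩
    · refine absurd hzA (h4 z hzW ?_)
      rw [hz0, h5]
      rcases h6 with ⟨h6, h7⟩ | ⟨h6, h7⟩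
      · rw [h6, h7]
      · rw [h6, h7, dl_comm]

/-- **(L1), `S_n` type**: `W' ≰ E_A` for every opposite member -/
theorem not_WE' (h : TwoS V U T M H H' R k m co co' t) {A : Subgroup Y} (hA : A ∈ U) (hAH : A ≤ H)
    (hO : OppS V M H R co A) : ¬ WW V H' R ≤ Ee V A := by
  intro hE
  obtain rfl := h.H'_eq
  exact h.a.lOne h.amb (h.lIn hA hAH hO hE)

end TwoS

end Cfsg.Agent.Omega.NO1.TH.K

end

section


/-!
# N1, `S_n` type: opposite members exist (bb OMEGA 21465 (1), helper593's shift)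

In every block the matching of `R` is `x ↦ -x` on `ZMod (2 ^ m + 1)` in suitable coordinates; the member `B` is
conjugated with `x ↦ x + 1`. The coordinates are chosen with `-1 = x₀`, a letter moved by `B` in one block, so that the
conjugate contains a transposition `(0 z)` of this block and is not in `M`.
-/

set_option autoImplicit false
set_option linter.unusedSectionVars false
set_option linter.dupNamespace false

namespace Cfsg.Agent.Omega.NO1.TH.K

open Subgroup Cfsg.Agent.Omega.NO1.AB Cfsg.Agent.Omega.FFBr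
open scoped Pointwise

universe u

section comb

open Equiv
/-- an involution of `Fin n` with one fixed point is conjugate to `neg` on `ZMod n` -/
theorem opp_exists_conj {n : ℕ} [NeZero n] (hn : Odd n) (π : Perm (ZMod n)) (h2 : π * π = 1)
    (hfix : ∃ a, ∀ x, π x = x ↔ x = a) : ∃ e : Perm (ZMod n), ∀ x, e (π x) = - e x := by
  classical
  have key : ∀ σ : Perm (ZMod n), σ * σ = 1 → (∃ a, ∀ x, σ x = x ↔ x = a) →
      σ.cycleType = Multiset.replicate ((n - 1) / 2) 2 := by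
    rintro σ hσ ⟨a, ha⟩
    have : Fact (Nat.Prime 2) := ⟨Nat.prime_two⟩
    have h1 : ∀ c ∈ σ.cycleType, c = 2 := (Perm.pow_prime_eq_one_iff (p := 2)).1 (by rw [pow_two, hσ])
    have h3 : σ.cycleType = Multiset.replicate (Multiset.card σ.cycleType) 2 := Multiset.eq_replicate_card.2 h1
    have h4 : σ.support = {a}ᶜ := by
      ext x
      rw [Perm.mem_support, Finset.mem_compl, Finset.mem_singleton, Ne, ha]
    have h5 := Perm.sum_cycleType σ
    rw [h3, Multiset.sum_replicate, h4, Finset.card_compl, Finset.card_singleton, ZMod.card, smul_eq_mul] at h5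
    rw [h3]
    congr 1
    omega
  have hneg : ∃ a : ZMod n, ∀ x, (Equiv.neg (ZMod n)) x = x ↔ x = a := by
    refine ⟨0, fun x => ?_⟩
    rw [Equiv.neg_apply]
    constructor
    · intro h
      have h3 : (2 : ZMod n) * x = 0 := by
        rw [two_mul]
        nth_rewrite 1 [← h]
        exact neg_add_cancel x
      have h4 : IsUnit (2 : ZMod n) := by
        have := (ZMod.unitOfCoprime 2 (Nat.Coprime.symm (Nat.coprime_two_right.2 hn))).isUnit
        simpa using this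
      exact (h4.mul_right_eq_zero).1 h3
    · rintro rfl
      exact neg_zero
  have h3 : IsConj π (Equiv.neg (ZMod n)) := by
    rw [Perm.isConj_iff_cycleType_eq, key π h2 hfix, key _ (by ext x; simp) hneg]
  obtain ⟨c, hc⟩ := isConj_iff.1 h3
  refine ⟨c, fun x => ?_⟩
  have h4 := congrArg (fun σ : Perm (ZMod n) => σ (c x)) hc
  simpa using h4

theorem opp_comb {n : ℕ} [NeZero n] (hn : Odd n) (π : Perm (ZMod n)) (h2 : π * π = 1)
    (hfix : ∀ x, π x = x ↔ x = 0) {x₀ : ZMod n} (hx₀ : x₀ ≠ 0) :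
    ∃ ρ : Perm (ZMod n), ρ x₀ = 0 ∧ ∀ f : ZMod n → ZMod 2, (∀ x, f (π x) = f x) →
      (∀ x, f (ρ (π x)) = f (ρ x)) → f (ρ 0) = 0 → f = 0 := by
  classical
  obtain ⟨c, hc⟩ := opp_exists_conj hn π h2 ⟨0, hfix⟩
  have h2u : IsUnit (2 : ZMod n) := by
    have := (ZMod.unitOfCoprime 2 (Nat.Coprime.symm (Nat.coprime_two_right.2 hn))).isUnit
    simpa using this
  have hne : ∀ x : ZMod n, x = -x → x = 0 := by
    intro x h
    have h3 : (2 : ZMod n) * x = 0 := by
      rw [two_mul]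
      nth_rewrite 1 [h]
      exact neg_add_cancel x
    exact (h2u.mul_right_eq_zero).1 h3
  have hc0 : c 0 = 0 := hne _ (by rw [← hc, (hfix 0).2 rfl])
  have hcx : c x₀ ≠ 0 := fun h => hx₀ (c.injective (h.trans hc0.symm))
  -- adjust
  obtain ⟨e, he, hex⟩ : ∃ e : Perm (ZMod n), (∀ x, e (π x) = - e x) ∧ e x₀ = -1 := by
    by_cases h1 : c x₀ = -1
    · exact ⟨c, hc, h1⟩
    by_cases h1' : c x₀ = 1
    · refine ⟨(Equiv.neg (ZMod n)) * c, fun x => ?_, ?_⟩
      · simp [hc]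
      · simp [h1']
    have h3 : (1 : ZMod n) ≠ -1 := fun h => by
      have h4 := hne _ h
      apply hcx
      have : c x₀ = c x₀ * 1 := (mul_one _).symm
      rw [this, h4, mul_zero]
    have h4 : c x₀ ≠ -c x₀ := fun h => hcx (hne _ h)
    set a := c x₀ with ha
    let s : Perm (ZMod n) := swap a (-1) * swap (-a) 1
    have hs : ∀ z, s (-z) = - s z := by
      intro z
      change swap a (-1) (swap (-a) 1 (-z)) = - (swap a (-1) (swap (-a) 1 z))
      by_cases e1 : z = a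
      · subst e1
        rw [swap_apply_left, swap_apply_of_ne_of_ne h4 h1', swap_apply_left,
          swap_apply_of_ne_of_ne (Ne.symm h1') h3, neg_neg]
      by_cases e2 : z = -a
      · subst e2
        rw [neg_neg, swap_apply_of_ne_of_ne h4 h1', swap_apply_left, swap_apply_left,
          swap_apply_of_ne_of_ne (Ne.symm h1') h3]
      by_cases e3 : z = 1
      · subst e3
        rw [swap_apply_right, swap_apply_of_ne_of_ne (a := -a) (fun h => h1' (neg_injective h).symm) (Ne.symm h3),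
          swap_apply_right, swap_apply_of_ne_of_ne (Ne.symm h4) (fun h => h1' (neg_injective h)), neg_neg]
      by_cases e4 : z = -1
      · subst e4
        rw [neg_neg, swap_apply_right, swap_apply_of_ne_of_ne (a := -a) (fun h => h1' (neg_injective h).symm)
          (Ne.symm h3), swap_apply_right, swap_apply_of_ne_of_ne (Ne.symm h4) (fun h => h1' (neg_injective h))]
      have f1 : -z ≠ a := fun h => e2 (by rw [← h, neg_neg])
      have f2 : -z ≠ -a := fun h => e1 (neg_injective h)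
      have f3 : -z ≠ 1 := fun h => e4 (by rw [← h, neg_neg])
      have f4 : -z ≠ -1 := fun h => e3 (neg_injective h)
      rw [swap_apply_of_ne_of_ne f2 f3, swap_apply_of_ne_of_ne f1 f4, swap_apply_of_ne_of_ne e2 e3,
        swap_apply_of_ne_of_ne e1 e4]
    refine ⟨s * c, fun x => ?_, ?_⟩
    · rw [Perm.mul_apply, Perm.mul_apply, hc]
      exact hs (c x)
    · rw [Perm.mul_apply, ← ha]
      change swap a (-1) (swap (-a) 1 a) = -1
      rw [swap_apply_of_ne_of_ne h4 h1', swap_apply_left]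
  have he0 : e 0 = 0 := hne _ (by rw [← he, (hfix 0).2 rfl])
  have hes0 : e.symm 0 = 0 := by rw [Equiv.symm_apply_eq, he0]
  refine ⟨(e.trans (Equiv.addRight 1)).trans e.symm, ?_, fun f h3 h4 h5 => ?_⟩
  · simp [hex, hes0]
  · have hf1 : ∀ z, f (e.symm (-z)) = f (e.symm z) := by
      intro z
      rw [← h3 (e.symm z)]
      congr 1
      rw [Equiv.symm_apply_eq, he, Equiv.apply_symm_apply]
    have hf2 : ∀ z, f (e.symm (-z + 1)) = f (e.symm (z + 1)) := by
      intro z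
      have h6 := h4 (e.symm z)
      simpa [he] using h6
    have hf3 : f (e.symm 1) = 0 := by simpa [he0] using h5
    have hf4 : ∀ j : ℕ, f (e.symm (1 + 2 * j)) = 0 := by
      intro j
      induction j with
      | zero => simpa using hf3
      | succ j ih =>
        have e1 : (1 + 2 * ((j + 1 : ℕ) : ZMod n)) = (1 + (1 + 2 * (j : ZMod n))) + 1 := by push_cast; ring
        rw [e1, ← hf2]
        have e2 : (-(1 + (1 + 2 * (j : ZMod n))) + 1) = -(1 + 2 * j) := by ring
        rw [e2, hf1, ih]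
    funext x
    obtain ⟨u, hu⟩ := h2u
    have h6 := hf4 ((↑u⁻¹ * (e x - 1) : ZMod n)).val
    rw [ZMod.natCast_val, ZMod.cast_id', id, ← hu, ← mul_assoc, Units.mul_inv, one_mul] at h6
    simpa using h6

theorem opp_combF {m : ℕ} (hm : 2 ≤ m) (π : Perm (Fin (2 ^ m + 1))) (h2 : π * π = 1)
    (hfix : ∀ x, π x = x ↔ x = 0) {x₀ : Fin (2 ^ m + 1)} (hx₀ : x₀ ≠ 0) :
    ∃ ρ : Perm (Fin (2 ^ m + 1)), ρ x₀ = 0 ∧ ∀ f : Fin (2 ^ m + 1) → ZMod 2, (∀ x, f (π x) = f x) →
      (∀ x, f (ρ (π x)) = f (ρ x)) → f (ρ 0) = 0 → f = 0 :=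
  opp_comb (n := 2 ^ m + 1) (Even.add_one ((Nat.even_pow' (by omega)).2 even_two)) π h2 hfix hx₀

end comb

variable {Y : Type u} [Group Y] {V : Type u} [AddCommGroup V] [DistribMulAction Y V]

section

variable {H R : Subgroup Y} {k m : ℕ} {co : V → Fin k → Fin (2 ^ m + 1) → ZMod 2}

theorem PI.ne_zero (K : KSym V H R k m co) {i : Fin k} {x y : Fin (2 ^ m + 1)} (h : PI V H R co i x y) : x ≠ 0 := by
  rintro rfl
  obtain ⟨h1, r, hr, h2, _⟩ := h
  have h3 := K.fix0 r hr _ _ h2 i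
  rw [Function.update_self, Equiv.swap_apply_left] at h3
  exact h1 h3.symm

/-- the matching of `R` -/
theorem exists_matching (K : KSym V H R k m co) (hP1 : ∀ i x, x ≠ 0 → ∃ y, PI V H R co i x y)
    (hP2 : ∀ i x y z, PI V H R co i x y → PI V H R co i x z → y = z) (i : Fin k) :
    ∃ π : Equiv.Perm (Fin (2 ^ m + 1)), π * π = 1 ∧ (∀ x, π x = x ↔ x = 0) ∧ (∀ x, x ≠ 0 → PI V H R co i x (π x)) := by
  classical
  choose! p hp using hP1 i
  let f : Fin (2 ^ m + 1) → Fin (2 ^ m + 1) := fun x => if x = 0 then 0 else p x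
  have f0 : f 0 = 0 := if_pos rfl
  have f1 : ∀ x, x ≠ 0 → PI V H R co i x (f x) := by
    intro x hx
    have : f x = p x := if_neg hx
    rw [this]
    exact hp x hx
  have finv : Function.Involutive f := by
    intro x
    by_cases hx : x = 0
    · rw [hx, f0, f0]
    · have h1 := f1 x hx
      have h2 := f1 (f x) (h1.symm.ne_zero K)
      exact hP2 i _ _ _ h2 h1.symm
  refine ⟨finv.toPerm f, ?_, fun x => ?_, fun x hx => f1 x hx⟩
  · ext x
    rw [Equiv.Perm.mul_apply, Function.Involutive.coe_toPerm, finv x]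
    rfl
  · rw [Function.Involutive.coe_toPerm]
    constructor
    · intro h1
      by_contra hx
      exact (f1 x hx).1 h1.symm
    · rintro rfl
      exact f0

/-- all permutations of the blocks are induced by `L`, if `L ≥ R` contains one transposition `(0 z)` -/
theorem lk_all (K : KSym V H R k m co) (hRH : R ≤ H)
    (hT : ∀ i x j y, x ≠ 0 → y ≠ 0 → ∃ r ∈ R, ∃ σ τ, ActS V H R co r σ τ ∧ σ i = j ∧ τ i x = y)
    {L : Subgroup Y} (hRL : R ≤ L) {g₀ : Y} (hg₀ : g₀ ∈ L) {i₀ : Fin k} {z₀ : Fin (2 ^ m + 1)} (hz₀ : z₀ ≠ 0)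
    (hL₀ : Lk V H R co g₀ (Pi.mulSingle i₀ (Equiv.swap 0 z₀))) (τ : Fin k → Equiv.Perm (Fin (2 ^ m + 1))) :
    ∃ g ∈ L, Lk V H R co g τ := by
  classical
  let S : Subgroup (Fin k → Equiv.Perm (Fin (2 ^ m + 1))) :=
    { carrier := {τ | ∃ g ∈ L, Lk V H R co g τ}
      one_mem' := ⟨1, L.one_mem, K.one⟩
      mul_mem' := by
        rintro τ τ' ⟨g, hg, h1⟩ ⟨g', hg', h2⟩
        exact ⟨g * g', L.mul_mem hg hg', h1.mul h2⟩
      inv_mem' := by
        rintro τ ⟨g, hg, h1⟩
        exact ⟨g⁻¹, L.inv_mem hg, h1.inv⟩ }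
  have h0 : ∀ (j : Fin k) (y : Fin (2 ^ m + 1)), Pi.mulSingle j (Equiv.swap 0 y) ∈ S := by
    intro j y
    by_cases hy : y = 0
    · rw [hy, Equiv.swap_self]
      have e : Pi.mulSingle (M := fun _ : Fin k => Equiv.Perm (Fin (2 ^ m + 1))) j (Equiv.refl (Fin (2 ^ m + 1))) = 1 :=
        Pi.mulSingle_one j
      rw [e]
      exact S.one_mem
    · obtain ⟨r, hr, σ, τ, h1, h2, h3⟩ := hT i₀ z₀ j y hz₀ hy
      have h4 := K.lk_conj (hRH hr) h1 hL₀
      rw [h2, h3, K.fix0 r hr σ τ h1] at h4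
      exact ⟨_, L.mul_mem (L.mul_mem (hRL hr) hg₀) (L.inv_mem (hRL hr)), h4⟩
  have h1 : ∀ (j : Fin k) (π : Equiv.Perm (Fin (2 ^ m + 1))), Pi.mulSingle j π ∈ S := by
    intro j π
    have h2 : (⊤ : Subgroup (Equiv.Perm (Fin (2 ^ m + 1)))) ≤
        S.comap (MonoidHom.mulSingle (fun _ => Equiv.Perm (Fin (2 ^ m + 1))) j) := by
      rw [← Equiv.Perm.closure_isSwap, closure_le]
      rintro _ ⟨x, y, hxy, rfl⟩
      change Pi.mulSingle j (Equiv.swap x y) ∈ S
      by_cases hx : x = 0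
      · subst hx
        exact h0 j y
      by_cases hy : y = 0
      · subst hy
        rw [Equiv.swap_comm]
        exact h0 j x
      have e : Equiv.swap x y = Equiv.swap 0 x * Equiv.swap 0 y * Equiv.swap 0 x := by
        rw [Equiv.swap_comm 0 x, Equiv.swap_comm 0 y, Equiv.swap_comm x y]
        rw [Equiv.swap_comm y 0, Equiv.swap_comm y x]
        have := Equiv.swap_mul_swap_mul_swap (x := y) (y := 0) (z := x) hy (Ne.symm hxy)
        rw [Equiv.swap_comm 0 x, Equiv.swap_comm y 0] at this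
        rw [this]
      rw [e, Pi.mulSingle_mul, Pi.mulSingle_mul]
      exact S.mul_mem (S.mul_mem (h0 j x) (h0 j y)) (h0 j x)
    exact h2 (mem_top π)
  exact Subgroup.pi_mem_of_mulSingle_mem (H := S) τ fun j => h1 j (τ j)

end

section members

variable [Finite Y] [Finite V] {U : Set (Subgroup Y)} {T : Sylow 2 Y} {M H R : Subgroup Y} {t : Y}
  {k m : ℕ} {co : V → Fin k → Fin (2 ^ m + 1) → ZMod 2}

/-- a subgroup of `H` which contains an element acting as a transposition `(0 z)` of one block is not in `M` -/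
theorem not_le_of_swap (K : KSym V H R k m co) (amb : Amb V U T M) (a : Amal U T M H R t)
    (hT : ∀ i x j y, x ≠ 0 → y ≠ 0 → ∃ r ∈ R, ∃ σ τ, ActS V H R co r σ τ ∧ σ i = j ∧ τ i x = y)
    {g₀ : Y} {i₀ : Fin k} {z₀ : Fin (2 ^ m + 1)} (hz₀ : z₀ ≠ 0)
    (hL₀ : Lk V H R co g₀ (Pi.mulSingle i₀ (Equiv.swap 0 z₀))) : g₀ ∉ M := by
  intro hgM
  have hRM : R ≤ M := a.RT.trans amb.TM
  have h1 := K.gen (M ⊓ H) (le_inf hRM a.RH) inf_le_right fun h hh τ h2 h3 => by
    obtain ⟨g, hg, h4⟩ := lk_all K a.RH hT (L := M ⊓ H) (le_inf hRM a.RH) (g₀ := g₀) ⟨hgM, hL₀.1⟩ hz₀ hL₀ τ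
    have h5 : ∀ w ∈ WW V H R, (g⁻¹ * h) • w = w := by
      intro w hw
      rw [mul_smul, inv_smul_eq_iff]
      exact K.lk_eq (τ := τ) ⟨hh, h2, h3⟩ h4 w hw
    have h6 : zpowers (g⁻¹ * h) ≤ M := Amal.ker_le_M a amb (by
      intro x hx v hv
      have h7 : zpowers (g⁻¹ * h) ≤ MulAction.stabilizer Y v := by
        rw [zpowers_le, MulAction.mem_stabilizer_iff]
        exact h5 v (fx_le_WW hv)
      exact h7 hx)
    have h7 := M.mul_mem hg.1 (h6 (mem_zpowers _))
    rw [mul_inv_cancel_left] at h7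
    exact ⟨h7, hh⟩
  apply Amal.H_not_le a amb
  rw [← h1]
  exact inf_le_left

/-- **opposite members exist** -/
theorem exists_oppS_aux (K : KSym V H R k m co) (amb : Amb V U T M) (a : Amal U T M H R t) (we : WE V U H R)
    (hP1 : ∀ i x, x ≠ 0 → ∃ y, PI V H R co i x y)
    (hP2 : ∀ i x y z, PI V H R co i x y → PI V H R co i x z → y = z)
    (hT : ∀ i x j y, x ≠ 0 → y ≠ 0 → ∃ r ∈ R, ∃ σ τ, ActS V H R co r σ τ ∧ σ i = j ∧ τ i x = y)
    {B : Subgroup Y} (hB : B ∈ U) (hBR : B ≤ R) (hBQ : ¬ B ≤ QQ H R) :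
    ∃ x ∈ H, OppS V M H R co (MulAut.conj x • B) := by
  classical
  have hBH : B ≤ H := hBR.trans a.RH
  obtain ⟨hTr, hoff⟩ := K.off B hBR (Mem.elAb (amb.cls.mem B hB)) hBQ (by
    rw [mul_comm, a.exact' amb we hB hBH, inf_comm])
  -- a letter moved by `B`
  obtain ⟨i₀, x₀, y₀, b₀, hb₀, hb₀s, hxy⟩ : ∃ i₀ x₀ y₀, ∃ b₀ ∈ B,
      ActS V H R co b₀ 1 (Function.update 1 i₀ (Equiv.swap x₀ y₀)) ∧ x₀ ≠ y₀ := by
    by_contra hcon
    push Not at hcon
    apply hBQ
    intro b hb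
    obtain ⟨τ, h1, h2⟩ := hoff b hb
    apply K.triv b (hBR hb)
    intro w hw
    rw [K.add _ (smul_mem_WW (hBH hb) hw) _ hw]
    funext i x
    have h3 : τ i x = x := by
      by_contra h3
      obtain ⟨_, b', hb', h4⟩ := h2 i x h3
      exact h3 (hcon i x _ b' hb' h4).symm
    have h4 := h1 w hw i x
    rw [h3, Equiv.Perm.one_apply] at h4
    rw [Pi.add_apply, Pi.add_apply, h4]
    have : ∀ c : ZMod 2, c + c = 0 := by decide
    exact this _
  have hPI₀ : PI V H R co i₀ x₀ y₀ := ⟨hxy, b₀, hBR hb₀, hb₀s, hTr b₀ hb₀⟩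
  have hx₀ : x₀ ≠ 0 := hPI₀.ne_zero K
  choose π hπ2 hπf hπP using exists_matching K hP1 hP2
  choose ρ hρ0 hρ using fun i => opp_combF K.two_le (π i) (hπ2 i) (hπf i) hx₀
  obtain ⟨h, hh⟩ := K.exists_lk ρ
  refine ⟨h, hh.1, ?_, ?_⟩
  · intro hle
    have h1 : Lk V H R co b₀ (Pi.mulSingle i₀ (Equiv.swap x₀ y₀)) := ⟨hBH hb₀, hb₀s, hTr b₀ hb₀⟩
    have h2 := K.lk_conj hh.1 hh.2.1 h1
    rw [Equiv.Perm.one_apply, hρ0] at h2
    have hz : ρ i₀ y₀ ≠ 0 := by
      rw [← hρ0 i₀]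
      exact fun h3 => hxy ((ρ i₀).injective h3).symm
    exact not_le_of_swap K amb a hT hz h2 (hle (conj_mem_conj hb₀))
  · intro v hv hvP
    have hz2 : ∀ c : ZMod 2, c + c = 0 := by decide
    have key : v ∈ WW V H R ∧ ∀ i, (∀ x, co v i (ρ i (π i x)) = co v i (ρ i x)) ∧ co v i (ρ i 0) = 0 := by
      clear hvP
      unfold brk at hv
      induction hv using AddSubgroup.closure_induction with
      | mem v hv =>
        obtain ⟨w, hw, p, hp, rfl⟩ := hv
        rw [mem_conj] at hp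
        set b := h⁻¹ * p * h with hb
        have hpH : p ∈ H := by
          have h1 := H.mul_mem (H.mul_mem hh.1 (hBH hp)) (H.inv_mem hh.1)
          have e : h * b * h⁻¹ = p := by rw [hb]; group
          rwa [e] at h1
        have hu : h⁻¹ • w ∈ WW V H R := smul_mem_WW (H.inv_mem hh.1) hw
        have hbu : b • h⁻¹ • w ∈ WW V H R := smul_mem_WW (hBH hp) hu
        have e : p • w + w = h • (b • h⁻¹ • w + h⁻¹ • w) := by
          rw [smul_add, smul_inv_smul, ← mul_smul, ← mul_smul]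
          congr 2
          rw [hb]
          group
        have hz : b • h⁻¹ • w + h⁻¹ • w ∈ WW V H R := add_mem hbu hu
        refine ⟨add_mem (smul_mem_WW hpH hw) hw, fun i => ?_⟩
        have h1 : ∀ x, co (p • w + w) i (ρ i x) = co (b • h⁻¹ • w + h⁻¹ • w) i x := by
          intro x
          rw [e]
          exact hh.2.1 _ hz i x
        obtain ⟨τ, h2, h3⟩ := hoff b hp
        have h2' : ∀ x, co (b • h⁻¹ • w) i (τ i x) = co (h⁻¹ • w) i x := fun x => h2 _ hu i x
        have h4 : ∀ x, co (b • h⁻¹ • w + h⁻¹ • w) i x = co (b • h⁻¹ • w) i x + co (h⁻¹ • w) i x := by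
          intro x
          rw [K.add _ hbu _ hu]
          rfl
        have hτP : ∀ x, τ i x ≠ x → PI V H R co i x (τ i x) := by
          intro x hx
          obtain ⟨_, b', hb', h5⟩ := h3 i x hx
          exact ⟨Ne.symm hx, b', hBR hb', h5, hTr b' hb'⟩
        refine ⟨fun x => ?_, ?_⟩
        · rw [h1, h1, h4, h4]
          by_cases hx : x = 0
          · rw [hx, (hπf i 0).2 rfl]
          by_cases hτ : τ i x = x
          · have h5 : τ i (π i x) = π i x := by
              by_contra h5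
              have h6 := hP2 i _ _ _ (hτP _ h5) (hπP i x hx).symm
              have h7 := (h3 i _ h5).1
              rw [h6, hτ] at h7
              exact (hπP i x hx).1 h7
            have h6 := h2' (π i x)
            rw [h5] at h6
            have h7 := h2' x
            rw [hτ] at h7
            rw [h6, h7, hz2, hz2]
          · have h5 : τ i x = π i x := hP2 i _ _ _ (hτP x hτ) (hπP i x hx)
            have h6 := h2' x
            have h7 := h2' (τ i x)
            rw [(h3 i x hτ).1] at h7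
            rw [← h5, h6, h7, add_comm]
        · rw [h1, h4]
          have h5 := h2' 0
          rw [K.fix0 b (hBR hp) _ _ h2] at h5
          rw [h5, hz2]
      | zero =>
        refine ⟨zero_mem _, fun i => ⟨fun x => ?_, ?_⟩⟩
        · rw [K.co_zero]; rfl
        · rw [K.co_zero]; rfl
      | add v w _ _ h1 h2 =>
        refine ⟨add_mem h1.1 h2.1, fun i => ?_⟩
        rw [K.add _ h1.1 _ h2.1]
        refine ⟨fun x => ?_, ?_⟩
        · change co v i _ + co w i _ = co v i _ + co w i _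
          rw [(h1.2 i).1, (h2.2 i).1]
        · change co v i _ + co w i _ = 0
          rw [(h1.2 i).2, (h2.2 i).2, add_zero]
      | neg v _ h1 =>
        have e : -v = v := neg_eq_of_add_eq_zero_left (amb.two v)
        rw [e]
        exact h1
    funext i
    exact hρ i (co v i) (fun x => by
      by_cases hx : x = 0
      · rw [hx, (hπf i 0).2 rfl]
      · exact (hvP i x _ (hπP i x hx)).symm) (key.2 i).1 (key.2 i).2

end members

end Cfsg.Agent.Omega.NO1.TH.K

end

section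


/-!
# N1, `S_n` type: opposite members exist (bb OMEGA 21465 (1), 22346, 22689)

`KSym.exists_oppS`, `KSym.exists_opp`, `TwoS.exists_oppS` : opposite members exist.
-/

set_option autoImplicit false
set_option linter.unusedSectionVars false
set_option linter.dupNamespace false

namespace Cfsg.Agent.Omega.NO1.TH.K

open Subgroup Cfsg.Agent.Omega.NO1.AB
open scoped Pointwise

universe u

variable {Y : Type u} [Group Y] {V : Type u} [AddCommGroup V] [DistribMulAction Y V]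
variable [Finite Y] [Finite V] {U : Set (Subgroup Y)} {T : Sylow 2 Y} {M H R : Subgroup Y} {t : Y} {k m : ℕ}
  {co : V → Fin k → Fin (2 ^ m + 1) → ZMod 2}

/-- **opposite conjugates exist** -/
theorem KSym.exists_oppS (K : KSym V H R k m co) (amb : Amb V U T M) (a : Amal U T M H R t) (we : WE V U H R)
    {B : Subgroup Y} (hB : B ∈ U) (hBR : B ≤ R) (hBQ : ¬ B ≤ QQ H R) :
    ∃ x ∈ H, OppS V M H R co (MulAut.conj x • B) := by
  have p := prs_of amb a we K
  exact exists_oppS_aux K amb a we p.partner p.uniq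
    (fun i x j y hx hy => SI.trans_pt K a.RH a.exists_syl hx hy) hB hBR hBQ

/-- **opposite members exist** -/
theorem KSym.exists_opp (K : KSym V H R k m co) (amb : Amb V U T M) (a : Amal U T M H R t) (we : WE V U H R) :
    ∃ A ∈ U, A ≤ H ∧ OppS V M H R co A := by
  obtain ⟨B, hB, hBR, hBQ⟩ := a.exists_not_QQ amb
  obtain ⟨x, hx, h1⟩ := K.exists_oppS amb a we hB hBR hBQ
  refine ⟨_, amb.cls.conj B hB x, ?_, h1⟩
  intro y hy
  rw [mem_conj] at hy
  have h3 := H.mul_mem (H.mul_mem hx (a.RH (hBR hy))) (H.inv_mem hx)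
  have e : x * (x⁻¹ * y * x) * x⁻¹ = y := by group
  rwa [e] at h3

variable {H' : Subgroup Y} {co' : V → Fin k → Fin (2 ^ m + 1) → ZMod 2}

/-- **opposite members exist** -/
theorem TwoS.exists_oppS (h : TwoS V U T M H H' R k m co co' t) : ∃ A ∈ U, A ≤ H ∧ OppS V M H R co A :=
  h.K.exists_opp h.amb h.a h.we

end Cfsg.Agent.Omega.NO1.TH.K

end
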