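import Cfsg.Agent.Mrg.Omega.NO1.TH.K.LIn
import Cfsg.Agent.Mrg.Omega.NO1.TH.K.Root
import Cfsg.Agent.Mrg.Omega.NO1.TH.K.Base
import Cfsg.Agent.Mrg.Omega.NO1.TH.NoOvV
import Cfsg.Agent.Mrg.Omega.NO1.TH.K.EOne
import Cfsg.Agent.Mrg.Omega.NO1.TH.KOneB
import Cfsg.Agent.Mrg.Omega.NO1.AB.Beta

section


/-!
# N1, natural type with `k` factors: (z) of bb OMEGA 20646

* `KNat.zcore` : the common argument for both halves of (z) (over helper29's `KNat.card_le'`);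
* `TwoN.z_one` : `⟨W'^H⟩ ≤ E_A`; `TwoN.z_two` : `⟨W^H'⟩ ≤ E_A`, for an opposite member `A` with `W' ≤ E_A`.
-/

set_option autoImplicit false
set_option linter.unusedSectionVars false
set_option linter.dupNamespace false

namespace Cfsg.Agent.Omega.NO1.TH.K

open Subgroup Cfsg.Agent.Omega.NO1.AB Cfsg.Agent.Omega.FFBr Cfsg.Agent.Lib.SL2Mat
open scoped Pointwise

universe u

variable {Y : Type u} [Group Y] {V : Type u} [AddCommGroup V] [DistribMulAction Y V] [Finite Y] [Finite V]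

/-- the common core of (z) -/
theorem KNat.zcore {H R : Subgroup Y} {F : Type} [Field F] [Finite F] [CharP F 2] {k : ℕ}
    {co : V → Fin k → Fin 2 → F} (K : KNat V H R F k co) (two : ∀ v : V, v + v = 0) (hRH : R ≤ H)
    {A : Subgroup Y} (hm : Mem A (Ee V A) (fx V A)) {g : Y} {N : Subgroup Y} (hNA : N ≤ A)
    (hNR : MulAut.conj g⁻¹ • N ≤ R) {X : AddSubgroup V} (hX : ∀ n ∈ N, ∀ v ∈ X, n • v = v)
    (hS : ∀ w, w ∉ Ee V A → ∀ s ∈ A, s • w + w ∈ X → s ∈ N)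
    (hcard : ∀ w, w ∉ Ee V A → Nat.card F ≤ Nat.card {s : Y // s ∈ A ∧ s • w + w ∈ X})
    (hfx : ∀ v ∈ fx V R, g • v ∈ Ee V A) (hW : ¬ ∀ v ∈ WW V H R, g • v ∈ Ee V A) :
    Nat.card N ≤ Nat.card F := by
  obtain ⟨j, v₀, hv₀, hE, hline⟩ := K.exists_off two hRH (g⁻¹ • Ee V A)
    (fun v hv => by rw [mem_smul_as, inv_inv]; exact hfx v hv)
    (fun h1 => hW fun v hv => by
      have h3 := h1 hv
      rwa [mem_smul_as, inv_inv] at h3)
  rw [mem_smul_as, inv_inv] at hE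
  set w := g • v₀ with hw
  have hgs : ∀ s : Y, (g * s * g⁻¹) • w = g • s • v₀ := fun s => by
    rw [hw, mul_smul, mul_smul, inv_smul_smul]
  have hmem : ∀ {b : Y}, b ∈ MulAut.conj g⁻¹ • N ↔ g * b * g⁻¹ ∈ N := by
    intro b
    rw [mem_conj, inv_inv]
  rw [← conj_card g⁻¹ N]
  refine K.card_le' hRH (A := MulAut.conj g⁻¹ • N) hNR (((Mem.elAb hm).mono hNA).conj g⁻¹)
    (S := {s | g * s * g⁻¹ ∈ A ∧ (g * s * g⁻¹) • w + w ∈ X}) (fun s hs => hmem.2 (hS w hE _ hs.1 hs.2)) ?_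
    (PP_le_WW j hv₀) (fun i hi => K.pp_supp hv₀ hi) hline ?_ ?_
  · refine (hcard w hE).trans ?_
    have hback : ∀ s : Y, g * (g⁻¹ * s * g) * g⁻¹ = s := fun s => by group
    refine Nat.card_le_card_of_injective (fun s : {s : Y // s ∈ A ∧ s • w + w ∈ X} =>
      (⟨g⁻¹ * s * g, by
        rw [Set.mem_ofPred_eq, hback]
        exact s.2⟩ : {s | g * s * g⁻¹ ∈ A ∧ (g * s * g⁻¹) • w + w ∈ X})) ?_
    intro s s' h1
    have h3 : g⁻¹ * (s : Y) * g = g⁻¹ * s' * g := congrArg Subtype.val h1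
    exact Subtype.ext (mul_left_cancel (mul_right_cancel h3))
  · intro a ha haj
    have h1 := K.pp_fix two (hRH (hNR ha)) haj hv₀
    have h3 : g * a * g⁻¹ = 1 := by
      apply hm.inj w hE _ (hNA (hmem.1 ha))
      rw [hgs, h1, ← hw, two]
      exact zero_mem _
    have h4 : a = g⁻¹ * (g * a * g⁻¹) * g := by group
    rw [h4, h3]
    group
  · intro b hb s hs
    have h1 := hX _ (hmem.1 hb) _ hs.2
    have hc := hm.comm _ (hNA (hmem.1 hb)) _ hs.1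
    rw [smul_add, ← mul_smul, hc, mul_smul, hgs, hgs] at h1
    -- `s' b' w + b' w = s' w + w`
    have e : (g * s * g⁻¹) • g • b • v₀ = g • s • b • v₀ := by
      rw [mul_smul, mul_smul, inv_smul_smul]
    rw [e, hw, ← smul_add, ← smul_add, smul_left_cancel_iff] at h1
    rw [smul_add]
    have h3 : s • b • v₀ = s • v₀ + v₀ + b • v₀ := by
      rw [← h1, add_assoc, two, add_zero]
    rw [h3]
    have e2 : s • v₀ + v₀ + b • v₀ + s • v₀ = (s • v₀ + s • v₀) + (b • v₀ + v₀) := by abel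
    rw [e2, two, zero_add]

namespace TwoN

variable {U : Set (Subgroup Y)} {T : Sylow 2 Y} {M H H' R : Subgroup Y} {F : Type} [Field F] [Finite F] [CharP F 2]
  {k : ℕ} {co co' : V → Fin k → Fin 2 → F} {t : Y} (h : TwoN V U T M H H' R F k co co' t)
include h

variable {A : Subgroup Y} (hA : A ∈ U) (hAH : A ≤ H) {I : Set (Fin k)} (hI : I.Nonempty) (hO : Opp V H R co A I)
  (hE : WW V H' R ≤ Ee V A)
include hA hAH hI hO hE

/-- **(z), second half** : `⟨W^H'⟩ ≤ E_A` -/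
theorem z_two : ∀ x ∈ H', ∀ v ∈ WW V H R, x • v ∈ Ee V A := by
  intro g hg
  by_contra hW
  have hAM := hO.not_le h.K h.amb h.a hAH hI
  have hm := h.amb.cls.mem A hA
  have hb : ∀ v ∈ WW V H R, v ∈ WW V H' R → ∀ i, co v i 1 = 0 := fun v hv hv' i => h.inf_le hv hv' i
  obtain ⟨w, hw⟩ := hm.ne
  have hSK := fun w hw => h.e_SK hb hA hAH hAM hO hE (w := w) hw
  have hcd := fun w hw => (h.e_card hb hA hAH hAM hO hE (w := w) hw hI).1
  have hc2 : 2 ≤ Nat.card F := Finite.one_lt_card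
  have h1 := h.K.zcore h.amb.two h.a.RH hm (g := g) (N := A ⊓ QQ H R ⊓ QQ H' R)
    (X := WW V H R ⊔ WW V H' R ⊔ fx V A) (inf_le_left.trans inf_le_left) (by
      intro x hx
      rw [mem_conj, inv_inv] at hx
      have h3 := conj_mem_QQ (H'.inv_mem hg) hx.2
      have e : g⁻¹ * (g * x * g⁻¹) * g⁻¹⁻¹ = x := by group
      rw [e] at h3
      exact QQ_le h3) (by
      intro n hn v hv
      obtain ⟨z, hz, f, hf, rfl⟩ := AddSubgroup.mem_sup.1 hv
      obtain ⟨x, hx, y, hy, rfl⟩ := AddSubgroup.mem_sup.1 hz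
      rw [smul_add, smul_add, Amal.QQ_fix h.a h.amb hn.1.2 hx, Amal.QQ_fix h.a' h.amb hn.2 hy, hf n hn.1.1])
    (fun w hw s hs h1 => ⟨⟨hs, (hSK w hw s hs h1).1⟩, (hSK w hw s hs h1).2⟩)
    (fun w hw => by
      refine le_trans ?_ (hcd w hw)
      nlinarith)
    (fun v hv => hE (smul_mem_WW hg (fx_le_WW hv))) hW
  have h3 : Nat.card {s : Y // s ∈ A ∧ s • w + w ∈ WW V H R ⊔ WW V H' R ⊔ fx V A} ≤
      Nat.card ↥(A ⊓ QQ H R ⊓ QQ H' R) := by
    apply Nat.card_le_card_of_injective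
      (fun s : {s : Y // s ∈ A ∧ s • w + w ∈ WW V H R ⊔ WW V H' R ⊔ fx V A} =>
        (⟨s, ⟨s.2.1, (hSK w hw s s.2.1 s.2.2).1⟩, (hSK w hw s s.2.1 s.2.2).2⟩ : ↥(A ⊓ QQ H R ⊓ QQ H' R)))
    intro s r hsr
    exact Subtype.ext (congrArg (fun z : ↥(A ⊓ QQ H R ⊓ QQ H' R) => (z : Y)) hsr)
  have h4 := hcd w hw
  nlinarith

/-- **(z), first half** : `⟨W'^H⟩ ≤ E_A` -/
theorem z_one : ∀ x ∈ H, ∀ v ∈ WW V H' R, x • v ∈ Ee V A := by
  intro g hg
  by_contra hW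
  have hAM := hO.not_le h.K h.amb h.a hAH hI
  have hm := h.amb.cls.mem A hA
  have hWE : WW V H R ≤ Ee V A := h.a.WW_le_Ee h.amb h.we hA hAH
  have hb : ∀ v ∈ WW V H R, v ∈ WW V H' R → ∀ i, co v i 1 = 0 := fun v hv hv' i => h.inf_le hv hv' i
  obtain ⟨w, hw⟩ := hm.ne
  have hc2 : 2 ≤ Nat.card F := Finite.one_lt_card
  have hcA := (h.e_card hb hA hAH hAM hO hE hw hI).2
  have hS : ∀ w, w ∉ Ee V A → ∀ s ∈ A, s • w + w ∈ WW V H R ⊔ fx V A → s ∈ A ⊓ QQ H R := by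
    intro w hw s hs h1
    obtain ⟨x, hx, f, hf, hxf⟩ := AddSubgroup.mem_sup.1 h1
    refine ⟨hs, mem_Q_of_shift h.K h.amb h.a h.we hA hAH hw hx hs ?_⟩
    rw [← hxf]
    have e : x + f + x = (x + x) + f := by abel
    rw [e, h.amb.two, zero_add]
    exact hf
  -- `|S_W| |A ⊓ Q| = |A|`
  have hcS : ∀ w, w ∉ Ee V A →
      Nat.card {s : Y // s ∈ A ∧ s • w + w ∈ WW V H R ⊔ fx V A} * Nat.card ↥(A ⊓ QQ H R) = Nat.card A := by
    intro w hw
    have h1 := card_SX h.amb.two hm hw (X := WW V H R ⊔ fx V A) le_sup_right (sup_le hWE hm.FE)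
    have h3 := card_sup_as (WW V H R) (fx V A)
    have h4 := h.a.exact' h.amb h.we hA hAH
    rw [h1] at h3
    have h5 : 0 < Nat.card ↥(fx V A) := Nat.card_pos
    have h6 : 0 < Nat.card ↥(WW V H R ⊓ fx V A) := Nat.card_pos
    apply Nat.eq_of_mul_eq_mul_right (Nat.mul_pos h5 h6)
    calc _ = Nat.card ↥(fx V A) * Nat.card {s : Y // s ∈ A ∧ s • w + w ∈ WW V H R ⊔ fx V A} *
          Nat.card ↥(WW V H R ⊓ fx V A) * Nat.card ↥(A ⊓ QQ H R) := by ring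
      _ = Nat.card ↥(WW V H R) * Nat.card ↥(A ⊓ QQ H R) * Nat.card ↥(fx V A) := by rw [h3]; ring
      _ = _ := by rw [h4]; ring
  have hcF : ∀ w, w ∉ Ee V A → Nat.card F ≤ Nat.card {s : Y // s ∈ A ∧ s • w + w ∈ WW V H R ⊔ fx V A} := by
    intro w hw
    have h1 := hcS w hw
    have h3 := h.opp_card hA hAH hO
    have h4 := card_le_fun (F := F) hI
    have h5 : 0 < Nat.card ↥(A ⊓ QQ H R) := Nat.card_pos
    apply Nat.le_of_mul_le_mul_right _ h5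
    rw [h1]
    refine le_trans ?_ h3
    rw [mul_comm]
    exact Nat.mul_le_mul_left _ h4
  have h1 := h.K'.zcore h.amb.two h.a'.RH hm (g := g) (N := A ⊓ QQ H R)
    (X := WW V H R ⊔ fx V A) inf_le_left (by
      intro x hx
      rw [mem_conj, inv_inv] at hx
      have h3 := conj_mem_QQ (H.inv_mem hg) hx.2
      have e : g⁻¹ * (g * x * g⁻¹) * g⁻¹⁻¹ = x := by group
      rw [e] at h3
      exact QQ_le h3) (by
      intro n hn v hv
      obtain ⟨y, hy, f, hf, rfl⟩ := AddSubgroup.mem_sup.1 hv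
      rw [smul_add, Amal.QQ_fix h.a h.amb hn.2 hy, hf n hn.1]) hS hcF
    (fun v hv => hWE (smul_mem_WW hg (fx_le_WW hv))) hW
  have h3 : Nat.card {s : Y // s ∈ A ∧ s • w + w ∈ WW V H R ⊔ fx V A} ≤ Nat.card ↥(A ⊓ QQ H R) := by
    apply Nat.card_le_card_of_injective
      (fun s : {s : Y // s ∈ A ∧ s • w + w ∈ WW V H R ⊔ fx V A} =>
        (⟨s, hS w hw s s.2.1 s.2.2⟩ : ↥(A ⊓ QQ H R)))
    intro s r hsr
    exact Subtype.ext (congrArg (fun z : ↥(A ⊓ QQ H R) => (z : Y)) hsr)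
  have h4 := hcS w hw
  have h5 : Nat.card A ≤ Nat.card F ^ 2 := by
    rw [← h4, pow_two]
    exact Nat.mul_le_mul (h3.trans h1) h1
  have h6 : Nat.card F ^ 2 < Nat.card F ^ 4 := Nat.pow_lt_pow_right hc2 (by norm_num)
  omega

end TwoN

end Cfsg.Agent.Omega.NO1.TH.K

end

section


/-!
# N1, natural type with `k` factors: (L1), the case `W' ≤ E_A` for an opposite member `A` (bb OMEGA 21480 / 20646)

* `TwoN.false_of` : impossible, given (e) `S_X ≤ K` and (z) `⟨W'^H⟩, ⟨W^H'⟩ ≤ E_A`;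
* `TwoN.not_le_Ee` : `W' ≰ E_A` for every opposite member `A`.
-/

set_option autoImplicit false
set_option linter.unusedSectionVars false
set_option linter.dupNamespace false

namespace Cfsg.Agent.Omega.NO1.TH.K

open Subgroup Cfsg.Agent.Omega.NO1.AB Cfsg.Agent.Omega.FFBr Cfsg.Agent.Lib.SL2Mat
open scoped Pointwise

universe u

variable {Y : Type u} [Group Y] {V : Type u} [AddCommGroup V] [DistribMulAction Y V] [Finite Y] [Finite V]
  {U : Set (Subgroup Y)} {T : Sylow 2 Y} {M H H' R : Subgroup Y} {t : Y} {F : Type} [Field F] [Finite F] {k : ℕ}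
  {co co' : V → Fin k → Fin 2 → F}

/-- **(L1), natural type** -/
theorem TwoN.false_of (h : TwoN V U T M H H' R F k co co' t) {A : Subgroup Y} (hA : A ∈ U) (hAH : A ≤ H)
    {I : Set (Fin k)} (hI : I.Nonempty) (hO : Opp V H R co A I)
    (hS : ∀ w, w ∉ Ee V A → ∀ s ∈ A, s • w + w ∈ WW V H R ⊔ WW V H' R ⊔ fx V A → s ∈ QQ H R ∧ s ∈ QQ H' R)
    (le₁ : ∀ x ∈ H, ∀ w ∈ WW V H' R, x • w ∈ Ee V A) (le₂ : ∀ x ∈ H', ∀ w ∈ WW V H R, x • w ∈ Ee V A) :
    False := by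
  obtain rfl := h.H'_eq
  have hAM := hO.not_le h.K h.amb h.a hAH hI
  obtain ⟨b, hb, hb'⟩ := h.star hA hAH hAM
  have hBQ : ¬ A ⊓ QQ H R ≤ QQ (MulAut.conj t • H) R := fun h1 => hb' (h1 hb)
  have hE : WW V (MulAut.conj t • H) R ≤ Ee V A := fun w hw => by
    have h1 := le₁ 1 H.one_mem w hw
    rwa [one_smul] at h1
  have e1 := (Amal.e_one h.a h.a' h.amb h.we h.we' hA hAH hE).1
  obtain ⟨i, hi⟩ := hI
  obtain ⟨Δ, hΔ, d1, d2⟩ := LF.exact_of h.amb h.a' h.K' (B₁ := A ⊓ QQ H R) (inf_le_right.trans QQ_le)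
    (ElAb.mono (Mem.elAb (h.amb.cls.mem A hA)) inf_le_left) hBQ e1.le
  exact Amal.lOne h.a h.amb (lIn_of h.a h.a' h.amb h.we h.we' (LF.lfac h.amb h.a h.we h.K)
    (LF.lfac h.amb h.a' h.we' h.K') hA hAH hAM hBQ hS (LF.faith h.amb h.a h.we h.K hA hAH) le₁ le₂
    ⟨Δ, hΔ, fun b hb hbQ => d1 b ⟨hb, hbQ⟩, fun p hp r hr => by
      obtain ⟨b, hb, h1⟩ := d2 p hp r hr
      exact ⟨b, hb.1, hb.2, h1⟩⟩
    ⟨i, LF.mov_opp h.amb h.a h.we h.K hO hi⟩)

/-- **(L1), natural type: `W' ≰ E_A` for every opposite member `A`** -/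
theorem TwoN.not_le_Ee [CharP F 2] (h : TwoN V U T M H H' R F k co co' t) {A : Subgroup Y} (hA : A ∈ U) (hAH : A ≤ H)
    {I : Set (Fin k)} (hI : I.Nonempty) (hO : Opp V H R co A I) : ¬ WW V H' R ≤ Ee V A := by
  intro hE
  have hAM := hO.not_le h.K h.amb h.a hAH hI
  exact h.false_of hA hAH hI hO
    (fun w hw => h.e_SK (fun v hv hv' i => h.inf_le hv hv' i) hA hAH hAM hO hE hw)
    (h.z_one hA hAH hI hO hE) (h.z_two hA hAH hI hO hE)

end Cfsg.Agent.Omega.NO1.TH.K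

end

section


/-!
# N1, natural type, `k ≥ 2`, case (d) of bb OMEGA 20646: (L2) (bb OMEGA 20937, helper476; 20981, helper411), part A

All members have order `|F|²` and `|V : E| = |F|`.
* `card_S`, `S_mem_Q`, `supp_one`, `card_Q`, `S_eq` : `|I(U)| = 1`, `|U ∩ Q| = |F|`, `S_W = U ∩ Q`;
* `exists_eq` : `u e + e = r x + x`, `x ∈ W - F` (PF equality);
* `TwoN.g_fix'` : (g) of #20646;
* `TwoN.not_le`, `TwoN.inf_le_fx`, `TwoN.supp'` : the outputs of (d) for every opposite member.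
-/

set_option autoImplicit false
set_option linter.unusedSectionVars false
set_option linter.dupNamespace false

namespace Cfsg.Agent.Omega.NO1.TH.K

open Subgroup Cfsg.Agent.Omega.NO1.AB Cfsg.Agent.Omega.FFBr Cfsg.Agent.Lib.SL2Mat
open Cfsg.Agent.Omega.NatPair (ap)
open scoped Pointwise

universe u

variable {Y : Type u} [Group Y] {V : Type u} [AddCommGroup V] [DistribMulAction Y V]

section one

variable [Finite Y] [Finite V] {U : Set (Subgroup Y)} {T : Sylow 2 Y} {M H R : Subgroup Y} {t : Y} {F : Type} [Field F]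
  {k : ℕ} {co : V → Fin k → Fin 2 → F}

/-- `|S_W| |A ∩ Q| = |A|` -/
theorem card_S (amb : Amb V U T M) (a : Amal U T M H R t) (we : WE V U H R) {A : Subgroup Y} (hA : A ∈ U)
    (hAH : A ≤ H) {w : V} (hw : w ∉ Ee V A) :
    Nat.card {s : Y // s ∈ A ∧ s • w + w ∈ WW V H R ⊔ fx V A} * Nat.card ↥(A ⊓ QQ H R) = Nat.card A := by
  have hm := amb.cls.mem A hA
  have h1 := card_SX amb.two hm hw (X := WW V H R ⊔ fx V A) le_sup_right
    (sup_le (Amal.WW_le_Ee a amb we hA hAH) hm.FE)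
  have h2 := card_sup_as (WW V H R) (fx V A)
  have h3 := a.exact' amb we hA hAH
  have h4 : 0 < Nat.card ↥(fx V A) := Nat.card_pos
  have h5 : 0 < Nat.card ↥(WW V H R ⊓ fx V A) := Nat.card_pos
  set S := Nat.card {s : Y // s ∈ A ∧ s • w + w ∈ WW V H R ⊔ fx V A} with hS
  have h6 : S * Nat.card ↥(WW V H R ⊓ fx V A) = Nat.card ↥(WW V H R) := by
    apply Nat.eq_of_mul_eq_mul_left h4
    calc Nat.card ↥(fx V A) * (S * Nat.card ↥(WW V H R ⊓ fx V A))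
        = (Nat.card ↥(fx V A) * S) * Nat.card ↥(WW V H R ⊓ fx V A) := by ring
      _ = Nat.card ↥(WW V H R) * Nat.card ↥(fx V A) := by rw [← h1, h2]
      _ = _ := by ring
  apply Nat.eq_of_mul_eq_mul_right h5
  calc S * Nat.card ↥(A ⊓ QQ H R) * Nat.card ↥(WW V H R ⊓ fx V A)
      = S * Nat.card ↥(WW V H R ⊓ fx V A) * Nat.card ↥(A ⊓ QQ H R) := by ring
    _ = _ := by rw [h6, h3]

theorem exists_x_of_sup (two : ∀ v : V, v + v = 0) {A : Subgroup Y} {W : AddSubgroup V} {w : V} {s : Y}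
    (hs : s • w + w ∈ W ⊔ fx V A) : ∃ x ∈ W, s • w + w + x ∈ fx V A := by
  rw [AddSubgroup.mem_sup] at hs
  obtain ⟨x, hx, f, hf, hxf⟩ := hs
  refine ⟨x, hx, ?_⟩
  rw [← hxf]
  have e : x + f + x = x + x + f := by abel
  rw [e, two, zero_add]
  exact hf

/-- `S_W ≤ Q` -/
theorem S_mem_Q (K : KNat V H R F k co) (amb : Amb V U T M) (a : Amal U T M H R t) (we : WE V U H R)
    {A : Subgroup Y} (hA : A ∈ U) (hAH : A ≤ H) {w : V} (hw : w ∉ Ee V A) {s : Y} (hs : s ∈ A)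
    (h : s • w + w ∈ WW V H R ⊔ fx V A) : s ∈ QQ H R := by
  obtain ⟨x, hx, h1⟩ := exists_x_of_sup amb.two h
  exact mem_Q_of_shift K amb a we hA hAH hw hx hs h1

theorem card_S_le (K : KNat V H R F k co) (amb : Amb V U T M) (a : Amal U T M H R t) (we : WE V U H R)
    {A : Subgroup Y} (hA : A ∈ U) (hAH : A ≤ H) {w : V} (hw : w ∉ Ee V A) :
    Nat.card {s : Y // s ∈ A ∧ s • w + w ∈ WW V H R ⊔ fx V A} ≤ Nat.card ↥(A ⊓ QQ H R) := by
  refine Nat.card_le_card_of_injective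
    (fun s => (⟨s.1, s.2.1, S_mem_Q K amb a we hA hAH hw s.2.1 s.2.2⟩ : ↥(A ⊓ QQ H R))) ?_
  intro s r hsr
  exact Subtype.ext (congrArg (fun z : ↥(A ⊓ QQ H R) => (z : Y)) hsr)

theorem card_Q_conj (x : Y) (hx : x ∈ H) (A : Subgroup Y) :
    Nat.card ↥(MulAut.conj x • A ⊓ QQ H R) = Nat.card ↥(A ⊓ QQ H R) := by
  have h1 : MulAut.conj x • QQ H R = QQ H R := conj_of_mem fun _ hq => conj_mem_QQ hx hq
  rw [← conj_card x (A ⊓ QQ H R), conj_inf, h1]

theorem conj_le_Q {x : Y} (hx : x ∈ H) {A : Subgroup Y} : MulAut.conj x • A ≤ QQ H R ↔ A ≤ QQ H R := by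
  have h1 : MulAut.conj x • QQ H R = QQ H R := conj_of_mem fun _ hq => conj_mem_QQ hx hq
  have h2 := conj_le_conj_iff (H := A) (K := QQ H R) x
  rwa [h1] at h2

/-- **`|I(U)| = 1`, `|U ∩ Q| = |F|`** for `U ≤ R` -/
theorem supp_one [Finite F] (K : KNat V H R F k co) (amb : Amb V U T M) (a : Amal U T M H R t) (we : WE V U H R)
    (hc : ∀ B ∈ U, Nat.card B = Nat.card F ^ 2) {B : Subgroup Y} (hB : B ∈ U) (hBR : B ≤ R)
    (hBQ : ¬ B ≤ QQ H R) : ∃ i, Supp V H R co B {i} ∧ Nat.card ↥(B ⊓ QQ H R) = Nat.card F := by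
  obtain ⟨I, ⟨i, hi⟩, hS⟩ := exists_supp K amb a we hB hBR hBQ
  have hBH := hBR.trans a.RH
  have h1 := member_card K amb a hBR hS
  obtain ⟨w, hw⟩ := (amb.cls.mem B hB).ne
  have h2 := card_S amb a we hB hBH hw
  have h3 := card_S_le K amb a we hB hBH hw
  set S := Nat.card {s : Y // s ∈ B ∧ s • w + w ∈ WW V H R ⊔ fx V B} with hS'
  have hq : 0 < Nat.card ↥(B ⊓ QQ H R) := Nat.card_pos
  have hf : 1 < Nat.card F := Finite.one_lt_card
  rw [hc B hB] at h1 h2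
  have h4 : S = Nat.card (I → F) := by
    apply Nat.eq_of_mul_eq_mul_right hq
    rw [h2, h1, mul_comm]
  -- `|I → F| = |F| ^ |I|`
  have h5 : Nat.card (I → F) = Nat.card F ^ Nat.card I := by
    rw [Nat.card_fun]
  have h6 : 1 ≤ Nat.card I := by
    have : Nonempty I := ⟨⟨i, hi⟩⟩
    exact Nat.card_pos
  have h7 : Nat.card F ≤ Nat.card (I → F) := by
    rw [h5]
    exact Nat.le_self_pow (by omega) _
  have h8 : Nat.card ↥(B ⊓ QQ H R) ≤ Nat.card F := by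
    by_contra hcon
    push Not at hcon
    have h9 : Nat.card F * Nat.card F < Nat.card ↥(B ⊓ QQ H R) * Nat.card (I → F) :=
      Nat.mul_lt_mul_of_lt_of_le hcon h7 (by omega)
    rw [← h1, pow_two] at h9
    exact lt_irrefl _ h9
  have h9 : Nat.card (I → F) = Nat.card F := by
    rw [← h4] at h7 ⊢
    exact le_antisymm (h3.trans h8) h7
  have h10 : Nat.card ↥(B ⊓ QQ H R) = Nat.card F := by
    rw [h9, pow_two] at h1
    exact (Nat.eq_of_mul_eq_mul_right (by omega) h1).symm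
  have h11 : Nat.card I = 1 := by
    rw [h5] at h9
    have h12 : Nat.card F ^ Nat.card I = Nat.card F ^ 1 := by rw [h9, pow_one]
    exact Nat.pow_right_injective hf h12
  have h12 : I = {i} := by
    rw [Nat.card_eq_one_iff_unique] at h11
    obtain ⟨hsub, _⟩ := h11
    ext j
    constructor
    · intro hj
      exact congrArg Subtype.val (Subsingleton.elim (⟨j, hj⟩ : I) ⟨i, hi⟩)
    · rintro rfl
      exact hi
  rw [h12] at hS
  exact ⟨i, hS, h10⟩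

theorem card_Q [Finite F] (K : KNat V H R F k co) (amb : Amb V U T M) (a : Amal U T M H R t) (we : WE V U H R)
    (hc : ∀ B ∈ U, Nat.card B = Nat.card F ^ 2) {A : Subgroup Y} (hA : A ∈ U) (hAH : A ≤ H)
    (hAQ : ¬ A ≤ QQ H R) : Nat.card ↥(A ⊓ QQ H R) = Nat.card F := by
  obtain ⟨x, hx, hxU, hxR⟩ := Amal.exists_conj a amb hA hAH
  obtain ⟨i, _, h1⟩ := supp_one K amb a we hc hxU hxR fun h => hAQ ((conj_le_Q hx).1 h)
  rwa [card_Q_conj x hx] at h1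

/-- **`S_W = A ∩ Q`** -/
theorem S_eq [Finite F] (K : KNat V H R F k co) (amb : Amb V U T M) (a : Amal U T M H R t) (we : WE V U H R)
    (hc : ∀ B ∈ U, Nat.card B = Nat.card F ^ 2) {A : Subgroup Y} (hA : A ∈ U) (hAH : A ≤ H)
    (hAQ : ¬ A ≤ QQ H R) {w : V} (hw : w ∉ Ee V A) {s : Y} (hs : s ∈ A) (hsQ : s ∈ QQ H R) :
    ∃ x ∈ WW V H R, s • w + w + x ∈ fx V A := by
  apply exists_x_of_sup amb.two
  have h1 := card_Q K amb a we hc hA hAH hAQ
  have h2 := card_S amb a we hA hAH hw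
  have hf : 0 < Nat.card F := Nat.card_pos
  have h3 : Nat.card {s : Y // s ∈ A ∧ s • w + w ∈ WW V H R ⊔ fx V A} = Nat.card ↥(A ⊓ QQ H R) := by
    rw [h1]
    rw [h1, hc A hA, pow_two] at h2
    exact Nat.eq_of_mul_eq_mul_right hf h2
  let f : {s : Y // s ∈ A ∧ s • w + w ∈ WW V H R ⊔ fx V A} → ↥(A ⊓ QQ H R) :=
    fun s => ⟨s.1, s.2.1, S_mem_Q K amb a we hA hAH hw s.2.1 s.2.2⟩
  have hf1 : Function.Injective f := by
    intro s r hsr
    exact Subtype.ext (congrArg (fun z : ↥(A ⊓ QQ H R) => (z : Y)) hsr)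
  have hf2 : Function.Bijective f := by
    rw [Nat.bijective_iff_injective_and_card]
    exact ⟨hf1, h3⟩
  obtain ⟨r, hr⟩ := hf2.2 ⟨s, hs, hsQ⟩
  have h4 : r.1 = s := congrArg Subtype.val hr
  rw [← h4]
  exact r.2.2

/-- PF equality: `[E, A] = [x, A]` for `x ∈ E - F` -/
theorem exists_eq (two : ∀ v : V, v + v = 0) {A : Subgroup Y} {E F₀ : AddSubgroup V} (hm : Mem A E F₀)
    (hc : Nat.card A = E.index ^ 2) {x : V} (hx : x ∈ E) (hxF : x ∉ F₀) {u : Y} (hu : u ∈ A) {e : V} (he : e ∈ E) :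
    ∃ r ∈ A, u • e + e = r • x + x := by
  obtain ⟨w, hw⟩ := hm.ne
  obtain ⟨s, hs, hsx⟩ := hm.surj w hw x hx
  have hs1 : s ≠ 1 := by
    rintro rfl
    rw [one_smul, two, zero_add] at hsx
    exact hxF hsx
  obtain ⟨e', he', h1⟩ := B0.pf_eq hm two hc hs hs1 hu he
  obtain ⟨r, hr, hre⟩ := hm.surj w hw e' he'
  refine ⟨r, hr, ?_⟩
  rw [h1]
  exact (s_symm two hm hs hr hsx hre).symm

/-- `[E, A] ≤ W` for active members -/
theorem comm_mem_W (amb : Amb V U T M) (a : Amal U T M H R t) (we : WE V U H R)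
    (hc : ∀ B ∈ U, Nat.card B = (Ee V B).index ^ 2) {A : Subgroup Y} (hA : A ∈ U) (hAH : A ≤ H)
    (hAQ : ¬ A ≤ QQ H R) {u : Y} (hu : u ∈ A) {e : V} (he : e ∈ Ee V A) : u • e + e ∈ WW V H R := by
  have hm := amb.cls.mem A hA
  have h1 : ∃ x ∈ WW V H R, x ∉ fx V A := by
    by_contra hcon
    push Not at hcon
    apply hAQ
    intro b hb
    have h2 : b ∈ A ⊓ CW V H R := ⟨hb, fun w hw => hcon w hw b hb⟩
    rw [Amal.inf_CW' a amb hA hAH] at h2
    exact h2.2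
  obtain ⟨x, hx, hxF⟩ := h1
  obtain ⟨r, hr, h2⟩ := exists_eq amb.two hm (hc A hA) (Amal.WW_le_Ee a amb we hA hAH hx) hxF hu he
  rw [h2]
  exact add_mem (smul_mem_WW (hAH hr) hx) hx

end one

end Cfsg.Agent.Omega.NO1.TH.K

end

section


/-!
# N1, natural type, `k` factors: (g) and (d) of bb OMEGA 20646 (helper247)

`A ≤ H` a fully opposite member, `W' = WW V H' R`, `Q = QQ H R`.
* `TwoN.g_fix'` : `S_W` centralises `W' ∩ E_A`;
* `TwoN.d_card` : `W' ≰ E_A` implies `|A ∩ Q| ≤ |F|`;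
* `TwoN.d_all` : then `|B| = |F|²`, `|V : E_B| = |F|` for all members;
* `TwoN.not_le`, `TwoN.inf_fx`, `TwoN.supp'`, `TwoN.d_top` : the outputs of (d) for all opposite members.
-/

set_option autoImplicit false
set_option linter.unusedSectionVars false
set_option linter.dupNamespace false

namespace Cfsg.Agent.Omega.NO1.TH.K

open Subgroup Cfsg.Agent.Omega.NO1.AB Cfsg.Agent.Omega.FFBr Cfsg.Agent.Lib.SL2Mat
open Cfsg.Agent.Omega.NatPair (ap)
open scoped Pointwise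

universe u

variable {Y : Type u} [Group Y] {V : Type u} [AddCommGroup V] [DistribMulAction Y V]

namespace TwoN

variable [Finite Y] [Finite V] {U : Set (Subgroup Y)} {T : Sylow 2 Y} {M H H' R : Subgroup Y} {F : Type} [Field F]
  [Finite F] {k : ℕ} {co co' : V → Fin k → Fin 2 → F} {t : Y} (h : TwoN V U T M H H' R F k co co' t)
include h

/-- **(g)** of #20646 -/
theorem g_fix' {A : Subgroup Y} (hA : A ∈ U) (hAH : A ≤ H) {I : Set (Fin k)} (hO : Opp V H R co A I) {w : V}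
    (hw : w ∉ Ee V A) {x : V} (hx : x ∈ WW V H R) {s : Y} (hs : s ∈ A) (hsx : s • w + w + x ∈ fx V A) {y : V}
    (hy : y ∈ WW V H' R) (hyE : y ∈ Ee V A) : s • y = y := by
  have hm := h.amb.cls.mem A hA
  obtain ⟨r, hr, hry⟩ := hm.surj w hw y hyE
  -- `[x', r] = [y, s_{x'}] ∈ W ∩ W' ∩ F_A` has coordinates `0`
  have key : ∀ x' ∈ WW V H R, ∀ s' ∈ A, s' • w + w + x' ∈ fx V A → co (r • x' + x') = 0 := by
    intro x' hx' s' hs' hsx'
    have h1 := s_symm h.two hm hs' hr hsx' hry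
    have hsQ := mem_Q_of_shift h.K h.amb h.a h.we hA hAH hw hx' hs' hsx'
    have hW : r • x' + x' ∈ WW V H R := add_mem (smul_mem_WW (hAH hr) hx') hx'
    have hW' : r • x' + x' ∈ WW V H' R := by
      rw [h1]
      exact add_mem (smul_mem_WW (h.a'.RH (QQ_le hsQ)) hy) hy
    have hF : r • x' + x' ∈ fx V A := by
      rw [h1]
      exact hm.EB s' hs' y hyE
    funext i
    by_cases hi : i ∈ I
    · exact hO.inf hW hF (fun j => h.inf_le hW hW' j) hi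
    · exact hO.comm h.K hAH h.two hx' hr hi
  have hrW : ∀ x' ∈ WW V H R, co (r • x') = co x' := by
    intro x' hx'
    obtain ⟨s', hs', hsx'⟩ := hm.surj w hw x' (Amal.WW_le_Ee h.a h.amb h.we hA hAH hx')
    exact h.K.co_eq_of_add h.two (smul_mem_WW (hAH hr) hx') hx' (key x' hx' s' hs' hsx')
  have h1 := h.K.trivH r (hAH hr) hrW x hx
  have h2 := s_symm h.two hm hs hr hsx hry
  rw [h1, h.two] at h2
  exact ((HE.add_eq_zero' h.two).1 h2.symm)

/-- an opposite member is active -/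
theorem opp_not_Q {A : Subgroup Y} (hAM : ¬ A ≤ M) : ¬ A ≤ QQ H R :=
  fun h1 => hAM (h1.trans (QQ_le.trans (h.a.RT.trans h.amb.TM)))

/-- `|S_W| ≥ |F|` for active members -/
theorem card_S_ge {A : Subgroup Y} (hA : A ∈ U) (hAH : A ≤ H) (hAQ : ¬ A ≤ QQ H R) {w : V} (hw : w ∉ Ee V A) :
    Nat.card F ≤ Nat.card {s : Y // s ∈ A ∧ s • w + w ∈ WW V H R ⊔ fx V A} := by
  obtain ⟨x, hx, hxU, hxR⟩ := Amal.exists_conj h.a h.amb hA hAH
  have hxQ : ¬ MulAut.conj x • A ≤ QQ H R := fun h1 => hAQ ((conj_le_Q hx).1 h1)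
  obtain ⟨I, ⟨i, hi⟩, hS⟩ := exists_supp h.K h.amb h.a h.we hxU hxR hxQ
  have h1 := member_card h.K h.amb h.a hxR hS
  rw [card_Q_conj x hx, conj_card] at h1
  have h2 := card_S h.amb h.a h.we hA hAH hw
  have hq : 0 < Nat.card ↥(A ⊓ QQ H R) := Nat.card_pos
  have h3 : Nat.card {s : Y // s ∈ A ∧ s • w + w ∈ WW V H R ⊔ fx V A} = Nat.card (I → F) := by
    apply Nat.eq_of_mul_eq_mul_right hq
    rw [h2, h1, mul_comm]
  rw [h3, Nat.card_fun]
  have h6 : 1 ≤ Nat.card I := by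
    have : Nonempty I := ⟨⟨i, hi⟩⟩
    exact Nat.card_pos
  exact Nat.le_self_pow (by omega) _

/-- **(d), first part**: `|A ∩ Q| ≤ |F|` -/
theorem d_card {A : Subgroup Y} (hA : A ∈ U) (hAH : A ≤ H) (hAM : ¬ A ≤ M) {I : Set (Fin k)}
    (hO : Opp V H R co A I) (hW : ¬ WW V H' R ≤ Ee V A) : Nat.card ↥(A ⊓ QQ H R) ≤ Nat.card F := by
  have hm := h.amb.cls.mem A hA
  have hI : ∃ i : Fin k, True := by
    by_contra hcon
    push Not at hcon
    apply h.opp_not_Q hAM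
    intro b hb
    have h2 : b ∈ A ⊓ CW V H R := ⟨hb, fun w hw => by
      apply h.K.trivH b (hAH hb) _ w hw
      intro w _
      funext i
      exact (hcon i).elim⟩
    rw [Amal.inf_CW' h.a h.amb hA hAH] at h2
    exact h2.2
  obtain ⟨i₀, _⟩ := hI
  have := h.K.charP h.two i₀
  have hfx : fx V R ≤ Ee V A := (fx_le_WW (H := H)).trans (Amal.WW_le_Ee h.a h.amb h.we hA hAH)
  obtain ⟨j, v₀, hv₀, hvE, hline⟩ := h.K'.exists_off h.two h.a'.RH (Ee V A) hfx hW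
  have hv₀W : v₀ ∈ WW V H' R := PP_le_WW j hv₀
  have hQR : A ⊓ QQ H R ≤ R := inf_le_right.trans QQ_le
  have hel : ElAb (A ⊓ QQ H R) := (Mem.elAb hm).mono inf_le_left
  refine h.K'.card_le' h.a'.RH hQR hel (S := {s | s ∈ A ∧ s • v₀ + v₀ ∈ WW V H R ⊔ fx V A}) ?_ ?_ hv₀W
    (fun i hij => h.K'.pp_supp hv₀ hij) hline ?_ ?_
  · rintro s ⟨hs, hs1⟩
    exact ⟨hs, S_mem_Q h.K h.amb h.a h.we hA hAH hvE hs hs1⟩
  · exact h.card_S_ge hA hAH (h.opp_not_Q hAM) hvE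
  · intro a ha hfix
    have h1 := h.K'.pp_fix h.two (h.a'.RH (hQR ha)) hfix hv₀
    apply hm.inj v₀ hvE a ha.1
    rw [h1, h.two]
    exact zero_mem _
  · rintro b hb s ⟨hs, hs1⟩
    obtain ⟨x, hx, hsx⟩ := exists_x_of_sup h.two hs1
    exact h.g_fix' hA hAH hO hvE hx hs hsx (add_mem (smul_mem_WW (h.a'.RH (hQR hb)) hv₀W) hv₀W) (hm.VB b hb.1 v₀)

/-- `|A ∩ Q| |W' ∩ E_A| ≤ |W'|` when `A ∩ Q` centralises `W' ∩ E_A` and `W' ≰ E_A` -/
theorem d_noOver {A : Subgroup Y} (hA : A ∈ U) (hW : ¬ WW V H' R ≤ Ee V A)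
    (hfix : ∀ y ∈ WW V H' R, y ∈ Ee V A → y ∈ fx V (A ⊓ QQ H R)) :
    A ⊓ QQ H R ⊓ QQ H' R = ⊥ ∧ WW V H' R ⊓ Ee V A ≤ fx V (A ⊓ QQ H R) ⊓ WW V H' R ∧
      Nat.card ↥(A ⊓ QQ H R) * Nat.card ↥(fx V (A ⊓ QQ H R) ⊓ WW V H' R) ≤ Nat.card ↥(WW V H' R) := by
  have hm := h.amb.cls.mem A hA
  have h1 : A ⊓ QQ H R ⊓ QQ H' R = ⊥ := by
    rw [eq_bot_iff]
    rintro b ⟨⟨hb, -⟩, hbQ'⟩
    rw [mem_bot]
    obtain ⟨v, hv, hvE⟩ := SetLike.not_le_iff_exists.1 hW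
    apply hm.inj v hvE b hb
    rw [Amal.QQ_fix h.a' h.amb hbQ' hv, h.two]
    exact zero_mem _
  refine ⟨h1, fun v hv => ⟨hfix v hv.1 hv.2, hv.1⟩, ?_⟩
  have h2 := h.K'.noOver (A ⊓ QQ H R) (inf_le_right.trans QQ_le) ((Mem.elAb hm).mono inf_le_left)
  rw [h1, card_bot, one_mul] at h2
  exact h2

/-- `|W'| ≤ |V : E| |W' ∩ E|` -/
theorem card_W'_le (A : Subgroup Y) :
    Nat.card ↥(WW V H' R) * Nat.card ↥(Ee V A) = Nat.card ↥(WW V H' R ⊔ Ee V A) * Nat.card ↥(WW V H' R ⊓ Ee V A) :=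
  (card_sup_as _ _).symm

/-- **(d)**: `|B| = |F|²`, `|V : E_B| = |F|` for all members -/
theorem d_all {A : Subgroup Y} (hA : A ∈ U) (hAH : A ≤ H) (hAM : ¬ A ≤ M) {I : Set (Fin k)}
    (hO : Opp V H R co A I) (hW : ¬ WW V H' R ≤ Ee V A) :
    ∀ B ∈ U, Nat.card B = Nat.card F ^ 2 ∧ (Ee V B).index = Nat.card F := by
  have hm := h.amb.cls.mem A hA
  obtain ⟨v, hv, hvE⟩ := SetLike.not_le_iff_exists.1 hW
  have hAQ := h.opp_not_Q hAM
  have h1 := h.d_card hA hAH hAM hO hW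
  have h2 := h.card_S_ge hA hAH hAQ hvE
  have h3 := card_S_le h.K h.amb h.a h.we hA hAH hvE
  have h4 := card_S h.amb h.a h.we hA hAH hvE
  have h5 : Nat.card ↥(A ⊓ QQ H R) = Nat.card F := le_antisymm h1 (h2.trans h3)
  have h6 : Nat.card {s : Y // s ∈ A ∧ s • v + v ∈ WW V H R ⊔ fx V A} = Nat.card F :=
    le_antisymm (h3.trans h1) h2
  rw [h5, h6, ← pow_two] at h4
  have hcard : ∀ B ∈ U, Nat.card B = Nat.card F ^ 2 := by
    intro B hB
    obtain ⟨y, rfl⟩ := h.amb.cls.eq A hA B hB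
    rw [conj_card, h4]
  -- `A ∩ Q = S_W`
  have hfix : ∀ y ∈ WW V H' R, y ∈ Ee V A → y ∈ fx V (A ⊓ QQ H R) := by
    intro y hy hyE b hb
    obtain ⟨x, hx, hbx⟩ := S_eq h.K h.amb h.a h.we hcard hA hAH hAQ hvE hb.1 hb.2
    exact h.g_fix' hA hAH hO hvE hx hb.1 hbx hy hyE
  obtain ⟨h7, h8, h9⟩ := h.d_noOver hA hW hfix
  have h10 : Nat.card ↥(WW V H' R ⊓ Ee V A) ≤ Nat.card ↥(fx V (A ⊓ QQ H R) ⊓ WW V H' R) :=
    Nat.card_le_card_of_injective _ (AddSubgroup.inclusion_injective h8)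
  have h11 : Nat.card ↥(WW V H' R) ≤ (Ee V A).index * Nat.card ↥(WW V H' R ⊓ Ee V A) := by
    have h12 := h.card_W'_le A
    have h13 : Nat.card ↥(WW V H' R ⊔ Ee V A) ≤ Nat.card ↥(Ee V A) * (Ee V A).index := by
      rw [AddSubgroup.card_mul_index]
      exact Nat.card_le_card_of_injective _ (Subtype.val_injective)
    have h14 : 0 < Nat.card ↥(Ee V A) := Nat.card_pos
    apply Nat.le_of_mul_le_mul_right _ h14
    rw [h12]
    calc _ ≤ Nat.card ↥(Ee V A) * (Ee V A).index * Nat.card ↥(WW V H' R ⊓ Ee V A) := Nat.mul_le_mul_right _ h13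
      _ = _ := by ring
  have h12 : Nat.card F ≤ (Ee V A).index := by
    have h13 : 0 < Nat.card ↥(WW V H' R ⊓ Ee V A) := Nat.card_pos
    rw [h5] at h9
    apply Nat.le_of_mul_le_mul_right _ h13
    exact ((Nat.mul_le_mul_left _ h10).trans h9).trans h11
  have h13 : (Ee V A).index ≤ Nat.card F := by
    have h14 := B0.pf_le hm h.two (Mem.ne_bot hm)
    rw [hcard A hA] at h14
    exact (Nat.pow_le_pow_iff_left two_ne_zero).1 h14
  intro B hB
  refine ⟨hcard B hB, ?_⟩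
  rw [← le_antisymm h13 h12]
  have h15 := AddSubgroup.card_mul_index (Ee V A)
  have h16 := AddSubgroup.card_mul_index (Ee V B)
  have h17 : Nat.card ↥(Ee V B) = Nat.card ↥(Ee V A) := by
    obtain ⟨y, rfl⟩ := h.amb.cls.eq A hA B hB
    rw [Ee_conj, card_smul_as]
  rw [h17, ← h15] at h16
  exact Nat.eq_of_mul_eq_mul_left Nat.card_pos h16

section outputs

variable (hc : ∀ B ∈ U, Nat.card B = Nat.card F ^ 2 ∧ (Ee V B).index = Nat.card F)
include hc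

/-- `W' ∩ E_A ≤ C(A ∩ Q)` -/
theorem d_fix {A : Subgroup Y} (hA : A ∈ U) (hAH : A ≤ H) (hAM : ¬ A ≤ M) {I : Set (Fin k)}
    (hO : Opp V H R co A I) {y : V} (hy : y ∈ WW V H' R) (hyE : y ∈ Ee V A) : y ∈ fx V (A ⊓ QQ H R) := by
  obtain ⟨w, hw⟩ := (h.amb.cls.mem A hA).ne
  intro b hb
  obtain ⟨x, hx, hbx⟩ := S_eq h.K h.amb h.a h.we (fun B hB => (hc B hB).1) hA hAH (h.opp_not_Q hAM) hw hb.1 hb.2
  exact h.g_fix' hA hAH hO hw hx hb.1 hbx hy hyE

/-- **`W' ≰ E_A`** for every opposite member -/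
theorem d_not_le {A : Subgroup Y} (hA : A ∈ U) (hAH : A ≤ H) (hAM : ¬ A ≤ M) {I : Set (Fin k)}
    (hO : Opp V H R co A I) : ¬ WW V H' R ≤ Ee V A := by
  intro hW
  obtain ⟨b, hb, hbQ'⟩ := h.star hA hAH hAM
  apply hbQ'
  rw [Amal.mem_QQ_iff h.a' h.amb (QQ_le hb.2)]
  intro y hy
  exact h.d_fix hc hA hAH hAM hO hy (hW hy) b hb

/-- **`V = W' + E_A`** -/
theorem d_top {A : Subgroup Y} (hA : A ∈ U) (hAH : A ≤ H) (hAM : ¬ A ≤ M) {I : Set (Fin k)}
    (hO : Opp V H R co A I) : WW V H' R ⊔ Ee V A = ⊤ ∧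
      Nat.card ↥(WW V H' R) ≤ Nat.card ↥(A ⊓ QQ H R) * Nat.card ↥(fx V (A ⊓ QQ H R) ⊓ WW V H' R) := by
  have hW := h.d_not_le hc hA hAH hAM hO
  have hAQ := h.opp_not_Q hAM
  have h5 := card_Q h.K h.amb h.a h.we (fun B hB => (hc B hB).1) hA hAH hAQ
  obtain ⟨h7, h8, h9⟩ := h.d_noOver hA hW fun y hy hyE => h.d_fix hc hA hAH hAM hO hy hyE
  have h10 : Nat.card ↥(WW V H' R ⊓ Ee V A) ≤ Nat.card ↥(fx V (A ⊓ QQ H R) ⊓ WW V H' R) :=
    Nat.card_le_card_of_injective _ (AddSubgroup.inclusion_injective h8)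
  have h12 := h.card_W'_le A
  have h14 : 0 < Nat.card ↥(Ee V A) := Nat.card_pos
  have h15 : 0 < Nat.card ↥(WW V H' R ⊓ Ee V A) := Nat.card_pos
  have h16 := AddSubgroup.card_mul_index (Ee V A)
  rw [(hc A hA).2] at h16
  rw [h5] at h9 ⊢
  -- `|W' + E| ≥ |E| |F|`
  have h17 : Nat.card V ≤ Nat.card ↥(WW V H' R ⊔ Ee V A) := by
    apply Nat.le_of_mul_le_mul_right _ h15
    rw [← h12, ← h16]
    calc Nat.card ↥(Ee V A) * Nat.card F * Nat.card ↥(WW V H' R ⊓ Ee V A)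
        = Nat.card F * Nat.card ↥(WW V H' R ⊓ Ee V A) * Nat.card ↥(Ee V A) := by ring
      _ ≤ _ := Nat.mul_le_mul_right _ ((Nat.mul_le_mul_left _ h10).trans h9)
  have h18 : WW V H' R ⊔ Ee V A = ⊤ := by
    apply eq_of_le_as le_top
    rw [AddSubgroup.card_top]
    exact h17
  refine ⟨h18, ?_⟩
  have h19 : Nat.card ↥(WW V H' R) = Nat.card F * Nat.card ↥(WW V H' R ⊓ Ee V A) := by
    rw [h18, AddSubgroup.card_top, ← h16] at h12
    apply Nat.eq_of_mul_eq_mul_right h14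
    rw [h12]
    ring
  rw [h19]
  exact Nat.mul_le_mul_left _ h10

/-- **`A ∩ Q` acts on `W'` as one root group** -/
theorem d_supp' {A : Subgroup Y} (hA : A ∈ U) (hAH : A ≤ H) (hAM : ¬ A ≤ M) {I : Set (Fin k)}
    (hO : Opp V H R co A I) : ∃ j, Supp V H' R co' (A ⊓ QQ H R) {j} := by
  have hm := h.amb.cls.mem A hA
  have hW := h.d_not_le hc hA hAH hAM hO
  have hAQ := h.opp_not_Q hAM
  have h5 := card_Q h.K h.amb h.a h.we (fun B hB => (hc B hB).1) hA hAH hAQ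
  obtain ⟨h7, h8, h9⟩ := h.d_noOver hA hW fun y hy hyE => h.d_fix hc hA hAH hAM hO hy hyE
  have hQR : A ⊓ QQ H R ≤ R := inf_le_right.trans QQ_le
  have hf : 1 < Nat.card F := Finite.one_lt_card
  obtain ⟨J, ⟨j, hj⟩, hJ⟩ := h.K'.exists_supp_of h.two h.a'.RH hQR ((Mem.elAb hm).mono inf_le_left) (by
    intro h1
    have h2 : A ⊓ QQ H R ≤ A ⊓ QQ H R ⊓ QQ H' R := le_inf le_rfl h1
    rw [h7, le_bot_iff] at h2
    rw [h2, card_bot] at h5
    omega) (by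
    rw [h7, card_bot, one_mul]
    exact (h.d_top hc hA hAH hAM hO).2)
  have h10 := hJ.card h.K' h.two h.a'.RH (Q_fix h.amb h.a') hQR
  rw [h7, card_bot, one_mul, h5, Nat.card_fun] at h10
  have h11 : Nat.card J = 1 := by
    have h12 : Nat.card F ^ Nat.card J = Nat.card F ^ 1 := by rw [← h10, pow_one]
    exact Nat.pow_right_injective hf h12
  have h12 : J = {j} := by
    rw [Nat.card_eq_one_iff_unique] at h11
    obtain ⟨hsub, _⟩ := h11
    ext l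
    constructor
    · intro hl
      exact congrArg Subtype.val (Subsingleton.elim (⟨l, hl⟩ : J) ⟨j, hj⟩)
    · rintro rfl
      exact hj
  rw [h12] at hJ
  exact ⟨j, hJ⟩

/-- all outputs of (d) for `A = B^g`, `B ≤ R` active, `g` opposite -/
theorem d_out {B : Subgroup Y} (hB : B ∈ U) (hBR : B ≤ R) (hBQ : ¬ B ≤ QQ H R) {g : Y} (hg : g ∈ H)
    (hgA : Acts V H R co g fun _ => wm 1 one_ne_zero) :
    R ⊔ MulAut.conj g • B = H ∧ ∃ i j, Supp V H R co B {i} ∧ Opp V H R co (MulAut.conj g • B) {i} ∧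
      Supp V H' R co' (MulAut.conj g • B ⊓ QQ H R) {j} ∧
      Nat.card ↥(MulAut.conj g • B) = Nat.card F ^ 2 ∧
      Nat.card ↥(MulAut.conj g • B ⊓ QQ H R) = Nat.card F ∧
      WW V H' R ⊔ Ee V (MulAut.conj g • B) = ⊤ ∧
      (∀ v ∈ WW V H' R, v ∈ Ee V (MulAut.conj g • B) → v ∈ fx V (MulAut.conj g • B ⊓ QQ H R)) ∧
      ∀ s ∈ MulAut.conj g • B ⊓ QQ H R, ∀ w, w ∉ Ee V (MulAut.conj g • B) →
        ∃ x ∈ WW V H R, s • w + w + x ∈ fx V (MulAut.conj g • B) := by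
  have hc1 : ∀ B ∈ U, Nat.card B = Nat.card F ^ 2 := fun B hB => (hc B hB).1
  obtain ⟨i, hS, _⟩ := supp_one h.K h.amb h.a h.we hc1 hB hBR hBQ
  have hBH := hBR.trans h.a.RH
  have hO := hS.opp hg hgA hBH
  have hA := h.amb.cls.conj B hB g
  have hAH : MulAut.conj g • B ≤ H := by
    intro x hx
    rw [mem_conj] at hx
    have h1 := H.mul_mem (H.mul_mem hg (hBH hx)) (H.inv_mem hg)
    have e : g * (g⁻¹ * x * g) * g⁻¹ = x := by group
    rwa [e] at h1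
  have hAM := hO.not_le h.K h.amb h.a hAH (Set.singleton_nonempty i)
  have hAQ := h.opp_not_Q hAM
  obtain ⟨j, hj⟩ := h.d_supp' hc hA hAH hAM hO
  exact ⟨hO.gen h.K h.amb h.a hAH (Set.singleton_nonempty i), i, j, hS, hO, hj, hc1 _ hA,
    card_Q h.K h.amb h.a h.we hc1 hA hAH hAQ, (h.d_top hc hA hAH hAM hO).1,
    fun v hv hvE => h.d_fix hc hA hAH hAM hO hv hvE,
    fun s hs w hw => S_eq h.K h.amb h.a h.we hc1 hA hAH hAQ hw hs.1 hs.2⟩

end outputs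

end TwoN

end Cfsg.Agent.Omega.NO1.TH.K

end
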